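import Cfsg.Agent.Compute.M24Base
import Cfsg.Prelude.Def_Spor_Mathieu

/-!
The orders of M12 and M11: the stabiliser of the dodecad of squares is the group of the checked chain.
-/

set_option autoImplicit false

namespace Cfsg.Agent.GroupSub.M12Base

open Cfsg Cfsg.Agent.Compute
open scoped Pointwise

theorem squareDodecad_eq : Cfsg.Spor.squareDodecad = suppM dodecadMask := by decide +kernel

theorem mem_M12_iff {g : Equiv.Perm GolayPt} :
    g ∈ Cfsg.Spor.M12 ↔ g ∈ M24 ∧ g • suppM dodecadMask = suppM dodecadMask := by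
  rw [Cfsg.Spor.M12, Subgroup.mem_inf, squareDodecad_eq]
  exact Iff.rfl

theorem mem_M12_of_check {g : ℕ}
    (h : (inM24B g && Nat.beq (imgMask g dodecadMask) dodecadMask) = true) :
    rep24.Ok g ∧ rep24.den g ∈ Cfsg.Spor.M12 := by
  simp only [Bool.and_eq_true, Nat.beq_eq] at h
  obtain ⟨hok, hm⟩ := mem_M24_of_check h.1
  exact ⟨hok, mem_M12_iff.2 ⟨hm, by rw [smul_suppM hok, h.2]⟩⟩

theorem dodecad_invariant {g : Equiv.Perm GolayPt} (hg : g ∈ Cfsg.Spor.M12) (p : GolayPt) :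
    dodecadMask.testBit (ptIdx (g p)) = dodecadMask.testBit (ptIdx p) := by
  have h2 : g p ∈ suppM dodecadMask ↔ p ∈ suppM dodecadMask := by
    conv_lhs => rw [← (mem_M12_iff.1 hg).2]
    exact Finset.smul_mem_smul_finset_iff g
  simp only [mem_suppM] at h2
  rw [Bool.eq_iff_iff]; exact h2

theorem m24b_eq : M24 = rep24.chainGroup m24bChain := by
  have hle : rep24.chainGroup m24bChain ≤ M24 := by
    rw [Rep.chainGroup, Rep.span, Subgroup.closure_le]
    rintro _ ⟨g, hg, rfl⟩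
    have h := List.all_eq_true.mp strongGens_check g
      (List.mem_append_left _ (List.mem_append_right _ hg))
    exact (mem_M24_of_check h).2
  refine (Subgroup.eq_of_le_of_card_ge hle ?_).symm
  rw [card_m24, Rep.card_chainGroup _ m24b_check]
  decide +kernel

theorem m12_gens_le : rep24.chainGroup m12Chain ≤ Cfsg.Spor.M12 := by
  rw [Rep.chainGroup, Rep.span, Subgroup.closure_le]
  rintro _ ⟨g, hg, rfl⟩
  have h1 := List.all_eq_true.mp strongGens_check g (List.mem_append_right _ hg)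
  have h2 := List.all_eq_true.mp m12Gens_fix_check g hg
  exact (mem_M12_of_check (by rw [h1, h2]; rfl)).2

theorem bases_b : m24bL0.base = 0 ∧ m24bL1.base = 1 ∧ m24bL2.base = 2 ∧ m24bL3.base = 3 ∧
    m24bL4.base = 4 ∧ m12L0.base = 0 ∧ m12L1.base = 1 ∧ m12L2.base = 2 ∧ m12L3.base = 3 ∧
    m12L4.base = 4 := by decide +kernel

theorem cover0 : coverB m12L0 (Nat.xor dodecadMask (2 ^ 24 - 1)) = true := by decide +kernel
theorem cover1 : coverB m12L1 (Nat.lor (Nat.xor dodecadMask (2 ^ 24 - 1)) 0x1) = true := by decide +kernel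
theorem cover2 : coverB m12L2 (Nat.lor (Nat.xor dodecadMask (2 ^ 24 - 1)) 0x3) = true := by decide +kernel
theorem cover3 : coverB m12L3 (Nat.lor (Nat.xor dodecadMask (2 ^ 24 - 1)) 0x7) = true := by decide +kernel
theorem cover4 : coverB m12L4 (Nat.lor (Nat.xor dodecadMask (2 ^ 24 - 1)) 0xf) = true := by decide +kernel

theorem tail_check : (rep24.chainElems [m24bL5, m24bL6]).all (fun c => Nat.beq c rep24.one ||
    !(allBelow 24 (fun k => !(bitB dodecadMask k) || bitB dodecadMask (rep24.act c k)))) = true := by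
  decide +kernel

theorem excl_invariant {g : Equiv.Perm GolayPt} (hg : g ∈ Cfsg.Spor.M12) {F : ℕ}
    (hF : ∀ p, F.testBit (ptIdx p) = true → g p = p) (p : GolayPt) :
    (Nat.lor (Nat.xor dodecadMask (2 ^ 24 - 1)) F).testBit (ptIdx (g p)) =
      (Nat.lor (Nat.xor dodecadMask (2 ^ 24 - 1)) F).testBit (ptIdx p) := by
  show ((dodecadMask ^^^ (2 ^ 24 - 1)) ||| F).testBit _ = ((dodecadMask ^^^ (2 ^ 24 - 1)) ||| F).testBit _
  rw [Nat.testBit_or, Nat.testBit_or, Nat.testBit_xor, Nat.testBit_xor, dodecad_invariant hg,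
    testBit_invariant_of_fixed hF, Nat.testBit_two_pow_sub_one, Nat.testBit_two_pow_sub_one]
  simp [ptIdx_lt]

theorem m12_le : Cfsg.Spor.M12 ≤ rep24.chainGroup m12Chain := by
  obtain ⟨b0, b1, b2, b3, b4, c0, c1, c2, c3, c4⟩ := bases_b
  have hb0 := m24b_check
  have hb1 := Rep.checkChain_tail hb0
  have hb2 := Rep.checkChain_tail hb1
  have hb3 := Rep.checkChain_tail hb2
  have hb4 := Rep.checkChain_tail hb3
  have hb5 := Rep.checkChain_tail hb4
  have hc0 := m12_check
  have hc1 := Rep.checkChain_tail hc0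
  have hc2 := Rep.checkChain_tail hc1
  have hc3 := Rep.checkChain_tail hc2
  have hc4 := Rep.checkChain_tail hc3
  let H0 := Cfsg.Spor.M12
  let H1 := H0 ⊓ MulAction.stabilizer (Equiv.Perm GolayPt) (rep24.pt 0)
  let H2 := H1 ⊓ MulAction.stabilizer (Equiv.Perm GolayPt) (rep24.pt 1)
  let H3 := H2 ⊓ MulAction.stabilizer (Equiv.Perm GolayPt) (rep24.pt 2)
  let H4 := H3 ⊓ MulAction.stabilizer (Equiv.Perm GolayPt) (rep24.pt 3)
  let H5 := H4 ⊓ MulAction.stabilizer (Equiv.Perm GolayPt) (rep24.pt 4)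
  have f0 : ∀ g ∈ H0, ∀ p, (0 : ℕ).testBit (ptIdx p) = true → g p = p := by
    intro g _ p h; simp at h
  have f1 : ∀ g ∈ H1, ∀ p, (0x1 : ℕ).testBit (ptIdx p) = true → g p = p := fixes_grow f0
  have f2 : ∀ g ∈ H2, ∀ p, (0x3 : ℕ).testBit (ptIdx p) = true → g p = p := fixes_grow f1
  have f3 : ∀ g ∈ H3, ∀ p, (0x7 : ℕ).testBit (ptIdx p) = true → g p = p := fixes_grow f2
  have f4 : ∀ g ∈ H4, ∀ p, (0xf : ℕ).testBit (ptIdx p) = true → g p = p := fixes_grow f3
  have l0 := m12_gens_le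
  have l1 : rep24.chainGroup _ ≤ H1 := Rep.chain_step hc0 l0 c0
  have l2 : rep24.chainGroup _ ≤ H2 := Rep.chain_step hc1 l1 c1
  have l3 : rep24.chainGroup _ ≤ H3 := Rep.chain_step hc2 l2 c2
  have l4 : rep24.chainGroup _ ≤ H4 := Rep.chain_step hc3 l3 c3
  have u5 : H5 ≤ rep24.chainGroup [] := by
    intro g hg
    have hgM : g ∈ Cfsg.Spor.M12 := hg.1.1.1.1.1
    have hm : g ∈ rep24.chainGroup m24bChain := m24b_eq ▸ (mem_M12_iff.1 hgM).1
    have h1 := (Rep.chainGroup_inf_stabilizer hb0 b0).le ⟨hm, hg.1.1.1.1.2⟩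
    have h2 := (Rep.chainGroup_inf_stabilizer hb1 b1).le ⟨h1, hg.1.1.1.2⟩
    have h3 := (Rep.chainGroup_inf_stabilizer hb2 b2).le ⟨h2, hg.1.1.2⟩
    have h4 := (Rep.chainGroup_inf_stabilizer hb3 b3).le ⟨h3, hg.1.2⟩
    have h5 := (Rep.chainGroup_inf_stabilizer hb4 b4).le ⟨h4, hg.2⟩
    obtain ⟨c, hc, hok, rfl⟩ := Rep.exists_elem rep24 _ hb5 h5
    have h := List.all_eq_true.mp tail_check c hc
    simp only [Bool.or_eq_true, Nat.beq_eq] at h
    rcases h with h | h
    · rw [h, rep24.den_one]; exact one_mem _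
    · exfalso
      have hall : allBelow 24 (fun k => !(bitB dodecadMask k) || bitB dodecadMask (rep24.act c k)) = true := by
        rw [allBelow_eq_true]
        intro k hk
        have e := dodecad_invariant hgM (rep24.pt k)
        rw [ptIdx_den hok, ptIdx_rep24 hk] at e
        rw [bitB_eq, bitB_eq, e]
        cases dodecadMask.testBit k <;> rfl
      rw [hall] at h
      exact Bool.noConfusion h
  have u4 : H4 ≤ rep24.chainGroup _ := Rep.le_chainGroup_cons hc4 l4
    (horb_of_invariant (c4 ▸ by norm_num) cover4 (c4 ▸ by decide +kernel)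
      (fun g hg => excl_invariant hg.1.1.1.1 (f4 g hg))) (c4 ▸ u5)
  have u3 : H3 ≤ rep24.chainGroup _ := Rep.le_chainGroup_cons hc3 l3
    (horb_of_invariant (c3 ▸ by norm_num) cover3 (c3 ▸ by decide +kernel)
      (fun g hg => excl_invariant hg.1.1.1 (f3 g hg))) (c3 ▸ u4)
  have u2 : H2 ≤ rep24.chainGroup _ := Rep.le_chainGroup_cons hc2 l2
    (horb_of_invariant (c2 ▸ by norm_num) cover2 (c2 ▸ by decide +kernel)
      (fun g hg => excl_invariant hg.1.1 (f2 g hg))) (c2 ▸ u3)
  have u1 : H1 ≤ rep24.chainGroup _ := Rep.le_chainGroup_cons hc1 l1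
    (horb_of_invariant (c1 ▸ by norm_num) cover1 (c1 ▸ by decide +kernel)
      (fun g hg => excl_invariant hg.1 (f1 g hg))) (c1 ▸ u2)
  refine Rep.le_chainGroup_cons hc0 l0
    (horb_of_invariant (c0 ▸ by norm_num) cover0 (c0 ▸ by decide +kernel) ?_) (c0 ▸ u1)
  intro g hg p
  have := excl_invariant hg (F := 0) (f0 g hg) p
  simpa using this

/-- M12 is the group of the chain. -/
theorem m12_eq : Cfsg.Spor.M12 = rep24.chainGroup m12Chain := le_antisymm m12_le m12_gens_le

theorem card_m12 : Nat.card Cfsg.Spor.M12 = 95040 := by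
  rw [m12_eq]
  exact (Rep.card_chainGroup _ m12_check).trans (by decide +kernel)

theorem pt_zero : rep24.pt 0 = (some 0 : GolayPt) := by
  rw [rep24_pt (by norm_num)]; rfl

theorem card_m11 : Nat.card Cfsg.Spor.M11 = 7920 := by
  have e : Cfsg.Spor.M11 = rep24.chainGroup m12Chain.tail := by
    rw [Cfsg.Spor.M11, m12_eq, ← pt_zero]
    exact Rep.chainGroup_inf_stabilizer m12_check bases_b.2.2.2.2.2.1
  rw [e]
  exact (Rep.card_chainGroup _ (Rep.checkChain_tail m12_check)).trans (by decide +kernel)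

end Cfsg.Agent.GroupSub.M12Base
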