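import Mathlib

/-!
All involutions of SL(3, F), for F of characteristic not 2, are conjugate.
-/

set_option autoImplicit false

namespace Cfsg.Agent.GroupSub

open Matrix

variable {F : Type*} [Field F]

theorem exists_three_eigen (h2 : (2 : F) ≠ 0) (X : Matrix (Fin 3) (Fin 3) F) (hX : X * X = 1)
    (hdet : X.det = 1) (h1 : X ≠ 1) :
    ∃ C : Matrix (Fin 3) (Fin 3) F, C.det ≠ 0 ∧ X * C = C * Matrix.diagonal ![-1, -1, 1] := by
  set f := Matrix.toLin' X with hf
  have hff : ∀ v, f (f v) = v := fun v => by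
    rw [hf, Matrix.toLin'_apply, Matrix.toLin'_apply, Matrix.mulVec_mulVec, hX, Matrix.one_mulVec]
  set Em := LinearMap.ker (f + LinearMap.id) with hEm
  set Ep := LinearMap.ker (f - LinearMap.id) with hEp
  have hm : ∀ v ∈ Em, f v = -v := fun v hv => by
    have : f v + v = 0 := hv
    exact eq_neg_of_add_eq_zero_left this
  have hp : ∀ v ∈ Ep, f v = v := fun v hv => by
    have : f v - v = 0 := hv
    exact sub_eq_zero.1 this
  have hc : IsCompl Em Ep := by
    constructor
    · rw [Submodule.disjoint_def]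
      intro v hv hv'
      have e : (2 : F) • v = 0 := by rw [two_smul]; nth_rw 2 [← hp v hv']; rw [hm v hv, add_neg_cancel]
      exact (smul_eq_zero.1 e).resolve_left h2
    · rw [codisjoint_iff, eq_top_iff]
      intro v _
      refine Submodule.mem_sup.2 ⟨(2 : F)⁻¹ • (v - f v), ?_, (2 : F)⁻¹ • (v + f v), ?_, ?_⟩
      · show f _ + _ = 0
        rw [map_smul, map_sub, hff, LinearMap.id_apply, ← smul_add]
        rw [show f v - v + (v - f v) = 0 by abel, smul_zero]
      · show f _ - _ = 0
        rw [map_smul, map_add, hff, LinearMap.id_apply, ← smul_sub]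
        rw [show f v + v - (v + f v) = 0 by abel, smul_zero]
      · rw [← smul_add, show v - f v + (v + f v) = (2 : F) • v by rw [two_smul]; abel, inv_smul_smul₀ h2]
  set a := Module.finrank F Em with ha
  set b := Module.finrank F Ep with hb
  let B : Module.Basis (Fin a ⊕ Fin b) F (Fin 3 → F) :=
    ((Module.finBasis F Em).prod (Module.finBasis F Ep)).map (Submodule.prodEquivOfIsCompl Em Ep hc)
  have hBl : ∀ i, f (B (Sum.inl i)) = -B (Sum.inl i) := fun i => by
    have e : B (Sum.inl i) = ((Module.finBasis F Em i : Em) : Fin 3 → F) := by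
      simp [B, Module.Basis.prod_apply]
    rw [e]; exact hm _ (Module.finBasis F Em i).2
  have hBr : ∀ i, f (B (Sum.inr i)) = B (Sum.inr i) := fun i => by
    have e : B (Sum.inr i) = ((Module.finBasis F Ep i : Ep) : Fin 3 → F) := by
      simp [B, Module.Basis.prod_apply]
    rw [e]; exact hp _ (Module.finBasis F Ep i).2
  have hab : a + b = 3 := by
    have h := Module.finrank_eq_card_basis B
    rw [Module.finrank_fintype_fun_eq_card, Fintype.card_sum, Fintype.card_fin, Fintype.card_fin,
      Fintype.card_fin] at h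
    omega
  have hdia : LinearMap.toMatrix B B f = Matrix.diagonal (Sum.elim (fun _ => -1) (fun _ => 1)) := by
    ext r s
    rw [LinearMap.toMatrix_apply]
    rcases s with s | s
    · rw [hBl, map_neg, Module.Basis.repr_self, Finsupp.neg_apply, Matrix.diagonal_apply]
      by_cases h : r = Sum.inl s
      · subst h; simp
      · rw [if_neg h, Finsupp.single_eq_of_ne h, neg_zero]
    · rw [hBr, Module.Basis.repr_self, Matrix.diagonal_apply]
      by_cases h : r = Sum.inr s
      · subst h; simp
      · rw [if_neg h, Finsupp.single_eq_of_ne h]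
  have hdeta : (-1 : F) ^ a = 1 := by
    have h : LinearMap.det f = 1 := by rw [hf, LinearMap.det_toLin', hdet]
    rw [← LinearMap.det_toMatrix B, hdia, Matrix.det_diagonal] at h
    simpa using h
  have hne1 : a ≠ 0 := by
    intro h0
    refine h1 (Matrix.toLin'.injective ?_)
    rw [Matrix.toLin'_one, ← hf]
    refine B.ext fun i => ?_
    rcases i with i | i
    · exact absurd i.2 (by omega)
    · rw [hBr]; rfl
  have ha2 : a = 2 := by
    have hm1 : (-1 : F) ≠ 1 := fun e => h2 (by linear_combination -e)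
    rcases Nat.even_or_odd a with he | he
    · obtain ⟨k, hk⟩ := he; omega
    · rw [he.neg_one_pow] at hdeta; exact absurd hdeta hm1
  let e : Fin a ⊕ Fin b ≃ Fin 3 := finSumFinEquiv.trans (finCongr hab)
  let B' := B.reindex e
  let C : Matrix (Fin 3) (Fin 3) F := Matrix.of fun r s => B' s r
  have hC : C = (Pi.basisFun F (Fin 3)).toMatrix B' := by
    ext r s; simp [C, Module.Basis.toMatrix_apply]
  refine ⟨C, ?_, ?_⟩
  · rw [hC]
    intro h0
    have := (Pi.basisFun F (Fin 3)).toMatrix_mul_toMatrix_flip B'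
    apply_fun Matrix.det at this
    rw [Matrix.det_mul, h0, zero_mul, Matrix.det_one] at this
    exact zero_ne_one this
  · ext r s
    have hcol : (X * C) r s = f (B' s) r := by
      rw [hf, Matrix.toLin'_apply]
      rfl
    rw [hcol, Matrix.mul_diagonal]
    obtain ⟨t, rfl⟩ := e.surjective s
    have hB' : B' (e t) = B t := by simp [B']
    show _ = B' (e t) r * _
    rw [hB']
    rcases t with i | i
    · have hi : ((e (Sum.inl i) : Fin 3) : ℕ) = i := by simp [e]
      have hil : (i : ℕ) < 2 := ha2 ▸ i.2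
      have hv : (![-1, -1, 1] : Fin 3 → F) (e (Sum.inl i)) = -1 := by
        rcases (show (i : ℕ) = 0 ∨ (i : ℕ) = 1 by omega) with h | h
        · rw [show e (Sum.inl i) = 0 from Fin.ext (hi.trans h)]; rfl
        · rw [show e (Sum.inl i) = 1 from Fin.ext (hi.trans h)]; rfl
      rw [hv, hBl, Pi.neg_apply, mul_neg, mul_one]
    · have hi : ((e (Sum.inr i) : Fin 3) : ℕ) = a + i := by simp [e]
      have hib : (i : ℕ) < 1 := by have := i.2; omega
      have hv : (![-1, -1, 1] : Fin 3 → F) (e (Sum.inr i)) = 1 := by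
        rw [show e (Sum.inr i) = 2 from Fin.ext (hi.trans (show a + (i : ℕ) = 2 by omega))]; rfl
      rw [hv, hBr, mul_one]

/-- An involution of SL(3, F) is conjugate to `diag(-1, -1, 1)`. -/
theorem sl3_invol_conj (h2 : (2 : F) ≠ 0) {x z : SpecialLinearGroup (Fin 3) F}
    (hz : (z : Matrix (Fin 3) (Fin 3) F) = Matrix.diagonal ![-1, -1, 1]) (hx : x * x = 1) (h1 : x ≠ 1) :
    ∃ g : SpecialLinearGroup (Fin 3) F, g * z * g⁻¹ = x := by
  obtain ⟨C, hC, hXC⟩ := exists_three_eigen h2 (x : Matrix (Fin 3) (Fin 3) F)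
    (congrArg (fun A : SpecialLinearGroup (Fin 3) F => (A : Matrix (Fin 3) (Fin 3) F)) hx) x.2
    (fun h => h1 (Subtype.ext h))
  let E : Matrix (Fin 3) (Fin 3) F := Matrix.diagonal ![1, 1, C.det⁻¹]
  have hE : E.det = C.det⁻¹ := by simp [E, Matrix.det_diagonal, Fin.prod_univ_three]
  let g : SpecialLinearGroup (Fin 3) F := ⟨C * E, by rw [Matrix.det_mul, hE, mul_inv_cancel₀ hC]⟩
  have hg : (g : Matrix (Fin 3) (Fin 3) F) = C * E := rfl
  refine ⟨g, mul_inv_eq_of_eq_mul ?_⟩
  refine Subtype.ext ?_
  show (g : Matrix (Fin 3) (Fin 3) F) * (z : Matrix (Fin 3) (Fin 3) F) =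
    (x : Matrix (Fin 3) (Fin 3) F) * (g : Matrix (Fin 3) (Fin 3) F)
  rw [hg, hz, ← Matrix.mul_assoc (x : Matrix (Fin 3) (Fin 3) F), hXC, Matrix.mul_assoc C,
    Matrix.mul_assoc C]
  congr 1
  rw [Matrix.diagonal_mul_diagonal, Matrix.diagonal_mul_diagonal]
  congr 1
  funext i
  ring

end Cfsg.Agent.GroupSub
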