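import Cfsg.Prelude.Def_FusionSystem
import Mathlib.GroupTheory.Nilpotent
import Mathlib.GroupTheory.Subgroup.Centralizer

/-!
Subsystems of group fusion systems, written through elements: calculus of `conjHom P g ∈ E.Hom P`,
extension from p-centric subgroups inside a saturated subsystem, and a simplicity criterion.
-/

set_option autoImplicit false

namespace Cfsg.Agent.GroupSub

variable {G : Type*} [Group G]

/-- The conjugate `g P g⁻¹`. -/
abbrev cj (g : G) (P : Subgroup G) : Subgroup G := P.map (MulAut.conj g).toMonoidHom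

theorem mem_cj {g : G} {P : Subgroup G} {y : G} : y ∈ cj g P ↔ g⁻¹ * y * g ∈ P := by
  refine ⟨?_, fun h => ⟨_, h, by simp [mul_assoc]⟩⟩
  rintro ⟨x, hx, rfl⟩
  simpa [mul_assoc] using hx

theorem conj_mem_cj {g : G} {P : Subgroup G} {x : G} (hx : x ∈ P) : g * x * g⁻¹ ∈ cj g P :=
  ⟨x, hx, rfl⟩

theorem conj_mem_cj_iff {g : G} {P : Subgroup G} {x : G} : g * x * g⁻¹ ∈ cj g P ↔ x ∈ P := by
  rw [mem_cj]; simp [mul_assoc]

theorem cj_cj (g h : G) (P : Subgroup G) : cj g (cj h P) = cj (g * h) P := by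
  ext y; simp only [mem_cj, mul_inv_rev, mul_assoc]

theorem range_conjHom (P : Subgroup G) (g : G) : (Cfsg.conjHom P g).range = cj g P := by
  ext y
  constructor
  · rintro ⟨x, rfl⟩; exact conj_mem_cj x.2
  · rintro ⟨x, hx, rfl⟩; exact ⟨⟨x, hx⟩, rfl⟩

theorem conjHom_eq {P : Subgroup G} {φ : P →* G} {g : G} (h : ∀ x : P, φ x = g * (x : G) * g⁻¹) :
    φ = Cfsg.conjHom P g := by
  ext x; rw [h x]; rfl

theorem mem_normalizer_of_cj_eq {g : G} {P : Subgroup G} (h : cj g P = P) :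
    g ∈ Subgroup.normalizer (P : Set G) := by
  refine Subgroup.mem_normalizer_iff.2 fun x => ?_
  conv_rhs => rw [← h]
  exact conj_mem_cj_iff.symm

theorem cj_eq_of_mem_normalizer {g : G} {P : Subgroup G} (h : g ∈ Subgroup.normalizer (P : Set G)) :
    cj g P = P := by
  ext y
  rw [mem_cj]
  exact (Subgroup.mem_normalizer_iff''.1 h y).symm

theorem mem_normalizer_of_cj_le [Finite G] {g : G} {P : Subgroup G} (h : cj g P ≤ P) :
    g ∈ Subgroup.normalizer (P : Set G) :=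
  mem_normalizer_of_cj_eq <| SetLike.coe_injective <| Set.eq_of_subset_of_ncard_le h
    (le_of_eq (Subgroup.card_map_of_injective (K := P) (MulAut.conj g).injective).symm) (Set.toFinite _)

/-- Conjugation by an element normalizing `T` maps `T ⊓ N(P)` into `T ⊓ N(gPg⁻¹)`. -/
theorem conj_mem_normalizer_cj {T P : Subgroup G} {g n : G} (hg : g ∈ Subgroup.normalizer (T : Set G))
    (hn : n ∈ T ⊓ Subgroup.normalizer (P : Set G)) :
    g * n * g⁻¹ ∈ T ⊓ Subgroup.normalizer ((cj g P : Subgroup G) : Set G) := by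
  refine ⟨(Subgroup.mem_normalizer_iff.1 hg n).1 hn.1, mem_normalizer_of_cj_eq ?_⟩
  rw [cj_cj, show g * n * g⁻¹ * g = g * n by group, ← cj_cj, cj_eq_of_mem_normalizer hn.2]

/-- Automorphisms induced by `K` are exactly the conjugations by elements of `K`. -/
theorem mem_autInducedBy {K P : Subgroup G} {α : MulAut P} (h : α ∈ Cfsg.autInducedBy K P) :
    ∃ g ∈ K, ∀ x : P, ((α x : P) : G) = g * (x : G) * g⁻¹ := by
  induction h using Subgroup.closure_induction with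
  | mem α hα => exact hα
  | one => exact ⟨1, K.one_mem, by simp⟩
  | mul α β _ _ hα hβ =>
    obtain ⟨a, ha, hA⟩ := hα
    obtain ⟨b, hb, hB⟩ := hβ
    refine ⟨a * b, K.mul_mem ha hb, fun x => ?_⟩
    rw [MulAut.mul_apply, hA, hB]; group
  | inv α _ hα =>
    obtain ⟨a, ha, hA⟩ := hα
    refine ⟨a⁻¹, K.inv_mem ha, fun x => ?_⟩
    have h := hA (α⁻¹ x)
    rw [MulAut.apply_inv_self] at h
    rw [h]; group

/-- For finite `P ≤ S` the group `Aut_F(P)` consists of maps of the system. -/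
theorem autGroup_hom {Ω : Type*} [Group Ω] {S : Subgroup Ω} (F : Cfsg.FusionSystem S) {P : Subgroup Ω}
    [Finite P] (hP : P ≤ S) {α : MulAut P} (h : α ∈ F.autGroup P) :
    P.subtype.comp α.toMonoidHom ∈ F.Hom P := by
  rw [Cfsg.FusionSystem.autGroup, ← Subgroup.mem_toSubmonoid,
    Subgroup.closure_toSubmonoid_of_finite] at h
  induction h using Submonoid.closure_induction with
  | mem α hα => exact hα
  | one =>
    have h1 := F.conj_mem (g := (1 : Ω)) hP S.one_mem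
    convert h1 using 1
    ext x; simp [Cfsg.conjHom]
  | mul α β _ _ hα hβ =>
    have := F.comp_mem hβ hα (fun x => (β x).2)
    convert this using 1
    ext x; rfl

section sub

variable {T : Subgroup G} (E : Cfsg.FusionSystem T)

/-- `c_g` restricted to `P` is a map of `E`. -/
def HomConj (P : Subgroup G) (g : G) : Prop := Cfsg.conjHom P g ∈ E.Hom P

/-- Every map of `E` is a conjugation in `G`. -/
def IsGroupSub : Prop := ∀ P : Subgroup G, ∀ φ ∈ E.Hom P, ∃ g : G, φ = Cfsg.conjHom P g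

variable {E}

theorem HomConj.le {P : Subgroup G} {g : G} (h : HomConj E P g) : P ≤ T := (E.le_of_mem h).1

theorem HomConj.mem {P : Subgroup G} {g : G} (h : HomConj E P g) {x : G} (hx : x ∈ P) :
    g * x * g⁻¹ ∈ T := (E.le_of_mem h).2 ⟨x, hx⟩

theorem homConj_mem {P : Subgroup G} {g : G} (hP : P ≤ T) (hg : g ∈ T) : HomConj E P g :=
  E.conj_mem hP hg

theorem HomConj.trans {P Q : Subgroup G} {g k : G} (h1 : HomConj E P g) (h2 : HomConj E Q k)
    (h : ∀ x ∈ P, g * x * g⁻¹ ∈ Q) : HomConj E P (k * g) := by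
  have := E.comp_mem h1 h2 (fun x => h x x.2)
  rw [conjHom_eq (g := k * g) (φ := (Cfsg.conjHom Q k).comp ((Cfsg.conjHom P g).codRestrict Q
    fun x => h x x.2))] at this
  · exact this
  · intro x
    show k * (g * (x : G) * g⁻¹) * k⁻¹ = _
    group

theorem HomConj.mono {P Q : Subgroup G} {g : G} (h : HomConj E P g) (hQ : Q ≤ P) : HomConj E Q g := by
  have := (homConj_mem (E := E) (hQ.trans h.le) T.one_mem).trans h (fun x hx => by simpa using hQ hx)
  simpa using this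

theorem HomConj.congr {P : Subgroup G} {g g' : G} (h : HomConj E P g)
    (heq : ∀ x ∈ P, g' * x * g'⁻¹ = g * x * g⁻¹) : HomConj E P g' := by
  have : Cfsg.conjHom P g' = Cfsg.conjHom P g := conjHom_eq fun x => heq x x.2
  rw [HomConj, this]; exact h

theorem HomConj.symm {P : Subgroup G} {g : G} (h : HomConj E P g) : HomConj E (cj g P) g⁻¹ := by
  obtain ⟨ψ, hψ, hx⟩ := E.inv_mem h
  have e : ψ = Cfsg.conjHom _ g⁻¹ := conjHom_eq fun y => by
    obtain ⟨x, hx'⟩ := y.2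
    have : y = ⟨Cfsg.conjHom P g x, ⟨x, rfl⟩⟩ := Subtype.ext hx'.symm
    rw [this, hx x]
    show (x : G) = g⁻¹ * (g * x * g⁻¹) * g⁻¹⁻¹
    group
  rw [e] at hψ
  rw [← range_conjHom]
  exact hψ

variable (E) in
/-- The elements of `N_G(Q)` whose conjugation on `Q` is a map of `E`. -/
def autElems (Q : Subgroup G) (hQ : Q ≤ T) : Subgroup G where
  carrier := {c | c ∈ Subgroup.normalizer (Q : Set G) ∧ HomConj E Q c}
  mul_mem' {a b} ha hb := ⟨(Subgroup.normalizer (Q : Set G)).mul_mem ha.1 hb.1,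
    hb.2.trans ha.2 fun x hx => (Subgroup.mem_normalizer_iff.1 hb.1 x).1 hx⟩
  one_mem' := ⟨Subgroup.one_mem _, homConj_mem hQ T.one_mem⟩
  inv_mem' {a} ha := ⟨(Subgroup.normalizer (Q : Set G)).inv_mem ha.1, by
    have := ha.2.symm; rwa [cj_eq_of_mem_normalizer ha.1] at this⟩

/-- Every element of `Aut_E(Q)` is induced by an element of `autElems E Q`. -/
theorem exists_autElem [Finite G] (hE : IsGroupSub E) {Q : Subgroup G} (hQ : Q ≤ T) {α : MulAut Q}
    (hα : α ∈ E.autGroup Q) :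
    ∃ c ∈ autElems E Q hQ, ∀ x : Q, ((α x : Q) : G) = c * (x : G) * c⁻¹ := by
  have hm := autGroup_hom E hQ hα
  obtain ⟨c, hc⟩ := hE Q _ hm
  have hval : ∀ x : Q, ((α x : Q) : G) = c * (x : G) * c⁻¹ := fun x => DFunLike.congr_fun hc x
  refine ⟨c, ⟨mem_normalizer_of_cj_le ?_, ?_⟩, hval⟩
  · rintro _ ⟨x, hx, rfl⟩
    have := (α ⟨x, hx⟩).2
    rw [hval ⟨x, hx⟩] at this
    exact this
  · show Cfsg.conjHom Q c ∈ E.Hom Q
    rw [← hc]; exact hm

end sub

/-! ### p-centric subgroups -/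

/-- `P ≤ T`, and every element of `p`-power order centralizing `P` lies in `P`. -/
def PCentric (p : ℕ) (T P : Subgroup G) : Prop :=
  P ≤ T ∧ ∀ m ∈ Subgroup.centralizer (P : Set G), (∃ k : ℕ, m ^ p ^ k = 1) → m ∈ P

theorem PCentric.mono {p : ℕ} {T P Q : Subgroup G} (h : PCentric p T P) (hPQ : P ≤ Q) (hQ : Q ≤ T) :
    PCentric p T Q :=
  ⟨hQ, fun m hm hk => hPQ (h.2 m (Subgroup.centralizer_le hPQ hm) hk)⟩

theorem PCentric.conj {p : ℕ} {T P : Subgroup G} (h : PCentric p T P) {g : G} (hg : cj g P ≤ T) :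
    PCentric p T (cj g P) := by
  refine ⟨hg, fun m hm ⟨k, hk⟩ => mem_cj.2 (h.2 _ ?_ ⟨k, ?_⟩)⟩
  · intro x hx
    have := hm _ (conj_mem_cj (g := g) hx)
    calc x * (g⁻¹ * m * g) = g⁻¹ * (g * x * g⁻¹ * m) * g := by group
      _ = g⁻¹ * (m * (g * x * g⁻¹)) * g := by rw [this]
      _ = g⁻¹ * m * g * x := by group
  · have : (g⁻¹ * m * g) ^ p ^ k = g⁻¹ * m ^ p ^ k * g := by
      simpa using (conj_pow (a := g⁻¹) (b := m) (i := p ^ k))
    rw [this, hk]; group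

/-- In a finite group every element splits into commuting `p`- and `p'`-parts that are powers of it. -/
theorem exists_parts [Finite G] (p : ℕ) [hp : Fact p.Prime] (m : G) :
    ∃ z w : G, m = z * w ∧ z ∈ Subgroup.zpowers m ∧ w ∈ Subgroup.zpowers m ∧ Commute z w ∧
      (∃ k : ℕ, z ^ p ^ k = 1) ∧ ∃ r : ℕ, Nat.Coprime p r ∧ w ^ r = 1 := by
  obtain ⟨a, r, hr, hn⟩ := Nat.exists_eq_pow_mul_and_not_dvd (orderOf_pos m).ne' p hp.out.ne_one
  have hco : Nat.Coprime p r := hp.out.coprime_iff_not_dvd.2 hr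
  have hb : ((p ^ a : ℕ) : ℤ) * Nat.gcdA (p ^ a) r + (r : ℤ) * Nat.gcdB (p ^ a) r = 1 := by
    rw [← Nat.gcd_eq_gcd_ab, (Nat.Coprime.pow_left a hco).gcd_eq_one]; rfl
  set u := Nat.gcdA (p ^ a) r
  set v := Nat.gcdB (p ^ a) r
  have hm : ∀ i : ℤ, m ^ (((p ^ a * r : ℕ) : ℤ) * i) = 1 := fun i => by
    rw [zpow_mul, zpow_natCast, ← hn, pow_orderOf_eq_one, one_zpow]
  refine ⟨m ^ ((r : ℤ) * v), m ^ (((p ^ a : ℕ) : ℤ) * u), ?_, ⟨_, rfl⟩, ⟨_, rfl⟩,
    Commute.zpow_zpow_self _ _ _, ⟨a, ?_⟩, r, hco, ?_⟩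
  · rw [← zpow_add, show (r : ℤ) * v + ((p ^ a : ℕ) : ℤ) * u = 1 by rw [← hb]; ring, zpow_one]
  · rw [← zpow_natCast, ← zpow_mul]
    rw [show (r : ℤ) * v * ((p ^ a : ℕ) : ℤ) = ((p ^ a * r : ℕ) : ℤ) * v by push_cast; ring]
    exact hm v
  · rw [← zpow_natCast, ← zpow_mul]
    rw [show ((p ^ a : ℕ) : ℤ) * u * (r : ℤ) = ((p ^ a * r : ℕ) : ℤ) * u by push_cast; ring]
    exact hm u

/-! ### Extension -/

section extension

variable [Finite G] {p : ℕ} [Fact p.Prime] {T : Subgroup G} {E : Cfsg.FusionSystem T}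

/-- In a saturated subsystem over the `p`-group `T`: a conjugation by an element normalizing `T` which is
a map on a p-centric subgroup `P` is a map on `N_T(P)`. -/
theorem homConj_extend_step (hT : IsPGroup p T) (hE : IsGroupSub E) (hsat : E.IsSaturated p)
    {P : Subgroup G} (hP : PCentric p T P) {g : G} (hg : g ∈ Subgroup.normalizer (T : Set G))
    (h : HomConj E P g) : HomConj E (T ⊓ Subgroup.normalizer (P : Set G)) g := by
  have hP'T : cj g P ≤ T := by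
    rintro _ ⟨x, hx, rfl⟩; exact h.mem hx
  obtain ⟨Q, ⟨β, hβ, hβr⟩, ⟨hQT, R, hR⟩, ⟨-, hrec⟩⟩ := hsat (cj g P) hP'T
  obtain ⟨b₀, rfl⟩ := hE _ _ hβ
  change HomConj E (cj g P) b₀ at hβ
  rw [range_conjHom] at hβr
  have hQdef : Q = cj b₀ (cj g P) := hβr.symm
  set N := T ⊓ Subgroup.normalizer (P : Set G) with hNdef
  set N' := T ⊓ Subgroup.normalizer ((cj g P : Subgroup G) : Set G) with hN'def
  have hQc : PCentric p T Q := hQdef ▸ (hP.conj hP'T).conj (hQdef ▸ hQT)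
  -- the transported automisers form a p-subgroup of Aut_E(Q)
  have hX : cj b₀ N' ≤ autElems E Q hQT := by
    rintro _ ⟨n, hn, rfl⟩
    show b₀ * n * b₀⁻¹ ∈ _
    have e := cj_eq_of_mem_normalizer (hn.2)
    refine ⟨mem_normalizer_of_cj_eq ?_, ?_⟩
    · rw [hQdef, cj_cj (b₀ * n * b₀⁻¹), show b₀ * n * b₀⁻¹ * b₀ = b₀ * n by group, ← cj_cj b₀ n, e]
    · have h1 : HomConj E Q b₀⁻¹ := hQdef ▸ hβ.symm
      have h2 := h1.trans (homConj_mem (E := E) hP'T hn.1) (fun y hy => by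
        rw [hQdef] at hy
        have := mem_cj.1 hy; simpa using this)
      have h3 := h2.trans hβ (fun y hy => by
        have hy1 : b₀⁻¹ * y * b₀ ∈ cj g P := mem_cj.1 (hQdef ▸ hy)
        have := (Subgroup.mem_normalizer_iff.1 hn.2 _).1 hy1
        simpa [mul_assoc] using this)
      simpa [mul_assoc] using h3
  let r : ↥(cj b₀ N') →* MulAut Q :=
    Q.normalizerMonoidHom.comp (Subgroup.inclusion (hX.trans fun c hc => hc.1))
  have hr : ∀ x, r x ∈ E.autGroup Q := fun x => Subgroup.subset_closure (by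
    show Q.subtype.comp (r x).toMonoidHom ∈ E.Hom Q
    have hx2 : Cfsg.conjHom Q (x : G) ∈ E.Hom Q := (hX x.2).2
    convert hx2 using 1
    ext y; rfl)
  let r' : ↥(cj b₀ N') →* E.autGroup Q := r.codRestrict _ hr
  have hN'p : IsPGroup p ↥(cj b₀ N') := (hT.to_le inf_le_left).map _
  obtain ⟨U, hU⟩ := ((hN'p.of_surjective r'.rangeRestrict r'.rangeRestrict_surjective) : IsPGroup p r'.range).exists_le_sylow
  obtain ⟨γ, hγ⟩ := MulAction.exists_smul_eq (E.autGroup Q) U R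
  obtain ⟨c, hc, hcγ⟩ := exists_autElem hE hQT γ.2
  -- adjust the map onto Q
  set b := c * b₀ with hbdef
  have hb : HomConj E (cj g P) b := hβ.trans hc.2 (fun y hy => hQdef ▸ conj_mem_cj hy)
  have hbQ : cj b (cj g P) = Q := by rw [hbdef, ← cj_cj c b₀, ← hQdef, cj_eq_of_mem_normalizer hc.1]
  have hact : ∀ n ∈ N', ∃ k ∈ T, ∀ x ∈ cj g P,
      b * (n * x * n⁻¹) * b⁻¹ = k * (b * x * b⁻¹) * k⁻¹ := by
    intro n hn
    have hmem : (b₀ * n * b₀⁻¹) ∈ cj b₀ N' := conj_mem_cj hn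
    have h1 : γ * r' ⟨_, hmem⟩ * γ⁻¹ ∈ (R : Subgroup (E.autGroup Q)) := by
      rw [← hγ]
      exact ⟨r' ⟨_, hmem⟩, hU ⟨⟨_, hmem⟩, rfl⟩, rfl⟩
    rw [hR, Subgroup.mem_subgroupOf] at h1
    obtain ⟨k, hk, hkv⟩ := mem_autInducedBy h1
    refine ⟨k, hk, fun x hx => ?_⟩
    have hxQ : b * x * b⁻¹ ∈ Q := hbQ ▸ conj_mem_cj hx
    have h2 := hkv ⟨_, hxQ⟩
    rw [← h2]
    have hinv : ((((γ : MulAut Q)⁻¹) ⟨_, hxQ⟩ : Q) : G) = c⁻¹ * (b * x * b⁻¹) * c := by
      have h3 := hcγ ((γ : MulAut Q)⁻¹ ⟨_, hxQ⟩)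
      rw [MulAut.apply_inv_self] at h3
      simp only at h3
      have h4 : ∀ v : G, v = c⁻¹ * (c * v * c⁻¹) * c := fun v => by group
      refine (h4 _).trans ?_
      rw [← h3]
    show _ = ((((γ : MulAut Q) * (r ⟨_, hmem⟩) * (γ : MulAut Q)⁻¹) ⟨_, hxQ⟩ : Q) : G)
    rw [MulAut.mul_apply, MulAut.mul_apply, hcγ]
    show _ = c * ((b₀ * n * b₀⁻¹) * ((((γ : MulAut Q)⁻¹) ⟨_, hxQ⟩ : Q) : G) * (b₀ * n * b₀⁻¹)⁻¹) * c⁻¹
    rw [hinv, hbdef]; group
  -- extend c_b from gPg⁻¹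
  obtain ⟨ψ₁, hψ₁, hag₁⟩ := hrec (cj g P) (Cfsg.conjHom _ b) hb (by rw [range_conjHom, hbQ])
  obtain ⟨b₁, rfl⟩ := hE _ _ hψ₁
  have hN'ext : N' ≤ Cfsg.FusionSystem.extender T (cj g P) (Cfsg.conjHom _ b) := fun n hn => by
    refine Subgroup.subset_closure ⟨hn.1, hn.2, ?_⟩
    obtain ⟨k, hk, hkv⟩ := hact n hn
    exact ⟨k, hk, fun x _ => hkv x x.2⟩
  have hb₁ : HomConj E N' b₁ := HomConj.mono hψ₁ hN'ext
  have hP'N' : cj g P ≤ N' := le_inf hP'T Subgroup.le_normalizer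
  have ag₁ : ∀ x ∈ cj g P, b₁ * x * b₁⁻¹ = b * x * b⁻¹ := fun x hx => hag₁ x hx (hN'ext (hP'N' hx))
  -- extend c_(b g) from P
  have hbg : HomConj E P (b * g) := h.trans hb (fun x hx => conj_mem_cj hx)
  have hNN' : ∀ n ∈ N, g * n * g⁻¹ ∈ N' := fun n hn => conj_mem_normalizer_cj hg hn
  obtain ⟨ψ₂, hψ₂, hag₂⟩ := hrec P (Cfsg.conjHom _ (b * g)) hbg (by rw [range_conjHom, ← cj_cj, hbQ])
  obtain ⟨b₂, rfl⟩ := hE _ _ hψ₂
  have hNext : N ≤ Cfsg.FusionSystem.extender T P (Cfsg.conjHom _ (b * g)) := fun n hn => by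
    refine Subgroup.subset_closure ⟨hn.1, hn.2, ?_⟩
    obtain ⟨k, hk, hkv⟩ := hact _ (hNN' n hn)
    refine ⟨k, hk, fun x _ => ?_⟩
    show b * g * (n * (x : G) * n⁻¹) * (b * g)⁻¹ = k * (b * g * (x : G) * (b * g)⁻¹) * k⁻¹
    have h4 := hkv _ (conj_mem_cj (g := g) x.2)
    calc b * g * (n * (x : G) * n⁻¹) * (b * g)⁻¹
        = b * (g * n * g⁻¹ * (g * (x : G) * g⁻¹) * (g * n * g⁻¹)⁻¹) * b⁻¹ := by group
      _ = k * (b * (g * (x : G) * g⁻¹) * b⁻¹) * k⁻¹ := h4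
      _ = _ := by group
  have hb₂ : HomConj E N b₂ := HomConj.mono hψ₂ hNext
  have hPN : P ≤ N := le_inf hP.1 Subgroup.le_normalizer
  have ag₂ : ∀ x ∈ P, b₂ * x * b₂⁻¹ = b * g * x * (b * g)⁻¹ := fun x hx => hag₂ x hx (hNext (hPN hx))
  -- the image of N under c_(b₂) lies in that of N' under c_(b₁)
  have himg : ∀ n ∈ N, b₂ * n * b₂⁻¹ ∈ cj b₁ N' := by
    intro n hn
    have hn' := hNN' n hn
    set z := (b₁ * (g * n * g⁻¹) * b₁⁻¹)⁻¹ * (b₂ * n * b₂⁻¹) with hz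
    have hzT : z ∈ T := T.mul_mem (T.inv_mem (hb₁.mem hn')) (hb₂.mem hn)
    have hzC : z ∈ Subgroup.centralizer (Q : Set G) := by
      intro y hy
      rw [← hbQ] at hy
      obtain ⟨_, ⟨x, hx, rfl⟩, rfl⟩ := hy
      show b * (g * x * g⁻¹) * b⁻¹ * z = z * (b * (g * x * g⁻¹) * b⁻¹)
      have hnx : n * x * n⁻¹ ∈ P := (Subgroup.mem_normalizer_iff.1 hn.2 x).1 hx
      have e1 : z * (b * (g * x * g⁻¹) * b⁻¹) * z⁻¹ = b * (g * x * g⁻¹) * b⁻¹ := by
        have a2 : b * (g * x * g⁻¹) * b⁻¹ = b₂ * x * b₂⁻¹ := by rw [ag₂ x hx]; group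
        have a3 : b₂ * (n * x * n⁻¹) * b₂⁻¹
            = b₁ * (g * (n * x * n⁻¹) * g⁻¹) * b₁⁻¹ := by
          rw [ag₂ _ hnx, ag₁ _ (conj_mem_cj hnx)]; group
        have a4 : b * (g * x * g⁻¹) * b⁻¹ = b₁ * (g * x * g⁻¹) * b₁⁻¹ := (ag₁ _ (conj_mem_cj hx)).symm
        calc z * (b * (g * x * g⁻¹) * b⁻¹) * z⁻¹
            = (b₁ * (g * n * g⁻¹) * b₁⁻¹)⁻¹ * (b₂ * (n * x * n⁻¹) * b₂⁻¹) * (b₁ * (g * n * g⁻¹) * b₁⁻¹) := by
              rw [a2, hz]; group
          _ = b₁ * (g * x * g⁻¹) * b₁⁻¹ := by rw [a3]; group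
          _ = _ := a4.symm
      calc _ = z * (b * (g * x * g⁻¹) * b⁻¹) * z⁻¹ * z := by rw [e1]
        _ = _ := by group
    obtain ⟨k, hk⟩ := hT ⟨z, hzT⟩
    have hzQ := hQc.2 z hzC ⟨k, by simpa using congrArg Subtype.val hk⟩
    rw [← hbQ] at hzQ
    obtain ⟨x, hx, hxz⟩ := hzQ
    have hzimg : z ∈ cj b₁ N' := ⟨x, hP'N' hx, by rw [← hxz]; exact (ag₁ x hx)⟩
    have := (cj b₁ N').mul_mem (conj_mem_cj (g := b₁) hn') hzimg
    rwa [hz, mul_inv_cancel_left] at this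
  have hd : HomConj E N (b₁⁻¹ * b₂) := hb₂.trans hb₁.symm himg
  -- compare with c_g
  set d := b₁⁻¹ * b₂ with hddef
  have hdP : ∀ x ∈ P, d * x * d⁻¹ = g * x * g⁻¹ := by
    intro x hx
    calc d * x * d⁻¹ = b₁⁻¹ * (b₂ * x * b₂⁻¹) * b₁ := by rw [hddef]; group
      _ = b₁⁻¹ * (b * (g * x * g⁻¹) * b⁻¹) * b₁ := by rw [ag₂ x hx]; group
      _ = g * x * g⁻¹ := by rw [← ag₁ _ (conj_mem_cj hx)]; group
  set m := g⁻¹ * d with hmdef
  have hmP : m ∈ Subgroup.centralizer (P : Set G) := by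
    intro x hx
    have h5 : m * x * m⁻¹ = x := by
      calc m * x * m⁻¹ = g⁻¹ * (d * x * d⁻¹) * g := by rw [hmdef]; group
        _ = x := by rw [hdP x hx]; group
    calc x * m = m * x * m⁻¹ * m := by rw [h5]
      _ = m * x := by group
  have hmN : m ∈ Subgroup.normalizer (N : Set G) := by
    refine mem_normalizer_of_cj_le ?_
    rintro _ ⟨n, hn, rfl⟩
    show m * n * m⁻¹ ∈ N
    have h5 : d * n * d⁻¹ ∈ N' := by
      obtain ⟨w, hw, hw'⟩ := himg n hn
      have : d * n * d⁻¹ = w := by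
        calc d * n * d⁻¹ = b₁⁻¹ * (b₂ * n * b₂⁻¹) * b₁ := by rw [hddef]; group
          _ = w := by rw [← hw']; show b₁⁻¹ * (b₁ * w * b₁⁻¹) * b₁ = w; group
      rwa [this]
    have h6 := conj_mem_normalizer_cj ((Subgroup.normalizer (T : Set G)).inv_mem hg) h5
    rw [cj_cj, inv_mul_cancel, cj_eq_of_mem_normalizer (Subgroup.normalizer (P : Set G)).one_mem] at h6
    simpa [hmdef, hNdef, Subgroup.mem_inf, mul_assoc] using h6
  obtain ⟨z, w, hzw, hzm, hwm, hcomm, ⟨k, hzk⟩, r₀, hco, hwr⟩ := exists_parts p m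
  have hzP : z ∈ P := hP.2 z (Subgroup.zpowers_le.2 hmP hzm) ⟨k, hzk⟩
  have hwP := Subgroup.zpowers_le.2 hmP hwm
  have hwN : ∀ n ∈ N, w * n * w⁻¹ = n := by
    intro n hn
    have hwn : w * n * w⁻¹ ∈ N :=
      (Subgroup.mem_normalizer_iff.1 (Subgroup.zpowers_le.2 hmN hwm) n).1 hn
    set u := w * n * w⁻¹ * n⁻¹ with hu
    have huN : u ∈ N := N.mul_mem hwn (N.inv_mem hn)
    have huC : u ∈ Subgroup.centralizer (P : Set G) := by
      intro x hx
      have hx' : n⁻¹ * x * n ∈ P := (Subgroup.mem_normalizer_iff''.1 hn.2 x).1 hx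
      have c1 := hwP _ hx'
      have c2 := hwP x hx
      have e5 : w⁻¹ * (n⁻¹ * x * n) * w = n⁻¹ * x * n := by
        rw [mul_assoc, c1]; group
      have e6 : u * x * u⁻¹ = x := by
        calc u * x * u⁻¹ = w * n * (w⁻¹ * (n⁻¹ * x * n) * w) * n⁻¹ * w⁻¹ := by rw [hu]; group
          _ = w * x * w⁻¹ := by rw [e5]; group
          _ = x := by rw [← c2]; group
      calc x * u = u * x * u⁻¹ * u := by rw [e6]
        _ = u * x := by group
    obtain ⟨j, hj⟩ := hT ⟨u, huN.1⟩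
    have huj : u ^ p ^ j = 1 := by simpa using congrArg Subtype.val hj
    have huP : u ∈ P := hP.2 u huC ⟨j, huj⟩
    have hwu : Commute w u := (hwP u huP).symm
    have hpow : ∀ i : ℕ, w ^ i * n * (w ^ i)⁻¹ = u ^ i * n := by
      intro i
      induction i with
      | zero => simp
      | succ i ih =>
        calc w ^ (i + 1) * n * (w ^ (i + 1))⁻¹ = w * (w ^ i * n * (w ^ i)⁻¹) * w⁻¹ := by
              rw [pow_succ']; group
          _ = (w * u ^ i * w⁻¹) * (w * n * w⁻¹) := by rw [ih]; group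
          _ = u ^ i * (u * n) := by
              rw [(hwu.pow_right i).eq, mul_inv_cancel_right, hu, inv_mul_cancel_right]
          _ = _ := by rw [pow_succ]; group
    have hur : u ^ r₀ = 1 := by
      have := hpow r₀
      rw [hwr] at this
      simpa using this.symm
    have hu1 : u = 1 := by
      have h7 := pow_gcd_eq_one.2 ⟨huj, hur⟩
      rwa [(Nat.Coprime.pow_left j hco).gcd_eq_one, pow_one] at h7
    rwa [hu, mul_inv_eq_one] at hu1
  have hzT : z ∈ T := hP.1 hzP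
  have hfin := (homConj_mem (E := E) (P := N) inf_le_left (T.inv_mem hzT)).trans hd (fun n hn =>
    N.mul_mem (N.mul_mem (N.inv_mem (hPN hzP)) hn) (by simpa using hPN hzP))
  refine hfin.congr fun n hn => ?_
  have : g = d * (z * w)⁻¹ := by rw [← hzw, hmdef]; group
  rw [this]
  have h8 := hwN n hn
  calc d * (z * w)⁻¹ * n * (d * (z * w)⁻¹)⁻¹ = d * (w⁻¹ * (z⁻¹ * n * z) * w) * d⁻¹ := by
        group
    _ = d * (z⁻¹ * n * z) * d⁻¹ := by
        have hzn : z⁻¹ * n * z ∈ N :=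
          N.mul_mem (N.mul_mem (N.inv_mem (hPN hzP)) hn) (hPN hzP)
        have h9 := hwN _ hzn
        rw [show w⁻¹ * (z⁻¹ * n * z) * w = w⁻¹ * (w * (z⁻¹ * n * z) * w⁻¹) * w by rw [h9]]
        group
    _ = _ := by group

/-- A conjugation by an element normalizing `T` which is a map of `E` on a p-centric subgroup is a map
of `E` on `T`. -/
theorem homConj_extend_top (hT : IsPGroup p T) (hE : IsGroupSub E) (hsat : E.IsSaturated p)
    {P : Subgroup G} (hP : PCentric p T P) {g : G} (hg : g ∈ Subgroup.normalizer (T : Set G))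
    (h : HomConj E P g) : HomConj E T g := by
  induction P using WellFoundedGT.induction with
  | ind P ih =>
    rcases eq_or_lt_of_le hP.1 with heq | hlt
    · subst heq; exact h
    · haveI := hT.isNilpotent
      have hlt' : P.subgroupOf T < ⊤ := by
        rw [lt_top_iff_ne_top, Ne, Subgroup.subgroupOf_eq_top]
        exact not_le_of_gt hlt
      obtain ⟨x, hx, hxP⟩ := SetLike.exists_of_lt (Group.normalizerCondition_of_isNilpotent _ hlt')
      rw [← Subgroup.subgroupOf_normalizer_eq hP.1] at hx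
      have hPN : P < T ⊓ Subgroup.normalizer (P : Set G) :=
        lt_of_le_of_ne (le_inf hP.1 Subgroup.le_normalizer) fun e => hxP (by
          show (x : G) ∈ P
          rw [e]; exact ⟨x.2, hx⟩)
      exact ih _ hPN (hP.mono hPN.le inf_le_left) (homConj_extend_step hT hE hsat hP hg h)

end extension

end Cfsg.Agent.GroupSub
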