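import Cfsg.Agent.GroupSub.TwoGroupInv
import Cfsg.Agent.Compute.GolayPerm

/-!
Checkable data showing that the 2-fusion system of a group of permutations of the 24 points is simple.
-/

set_option autoImplicit false

namespace Cfsg.Agent.GroupSub.CodeFus

open Cfsg Cfsg.Agent.Compute

local notation "P24" => Equiv.Perm GolayPt

/-- A code equal to its own repacking. -/
def Canon (c : ℕ) : Prop := pack 5 24 (getField 5 c) = c

/-- A valid canonical code. -/
def Good (c : ℕ) : Prop := rep24.Ok c ∧ Canon c

theorem pack_congr {w n : ℕ} {f f' : ℕ → ℕ} (h : ∀ i, i < n → f i = f' i) : pack w n f = pack w n f' := by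
  induction n with
  | zero => rfl
  | succ k ih => rw [pack_succ, pack_succ, ih (fun i hi => h i (by omega)), h k (by omega)]

theorem rep24_mul (a b : ℕ) : rep24.mul a b = compCode 5 24 a b := by simp only [rep24, permRep]

theorem rep24_one : rep24.one = idCode 5 24 := by simp only [rep24, permRep]

theorem canon_pack {w n : ℕ} {f : ℕ → ℕ} (hf : ∀ i, i < n → f i < 2 ^ w) :
    pack w n (getField w (pack w n f)) = pack w n f :=
  pack_congr fun i hi => getField_pack w n f hf hi

theorem canon_comp (w n a b : ℕ) : pack w n (getField w (compCode w n a b)) = compCode w n a b :=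
  canon_pack fun _ _ => getField_lt _ _ _

theorem canon_id {w n : ℕ} (hn : n ≤ 2 ^ w) : pack w n (getField w (idCode w n)) = idCode w n :=
  canon_pack fun _ hi => lt_of_lt_of_le hi hn

theorem good_mul {a b : ℕ} (ha : rep24.Ok a) (hb : rep24.Ok b) : Good (rep24.mul a b) :=
  ⟨rep24.ok_mul a b ha hb, by rw [Canon, rep24_mul, canon_comp]⟩

theorem good_one : Good rep24.one :=
  ⟨rep24.ok_one, by
    rw [Canon, rep24_one]
    exact canon_id (by norm_num)⟩

theorem den_injective {a b : ℕ} (ha : Good a) (hb : Good b) (h : rep24.den a = rep24.den b) : a = b := by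
  rw [← ha.2, ← hb.2]
  refine pack_congr fun i hi => ?_
  have h1 := rep24.act_spec a i ha.1 hi
  have h2 := rep24.act_spec b i hb.1 hi
  rw [h] at h1
  exact rep24.pt_inj _ _ (rep24.act_lt a i ha.1 hi) (rep24.act_lt b i hb.1 hi) (h1.symm.trans h2)

/-- All ordered products of subfamilies. -/
noncomputable def elems (xs : List ℕ) : List ℕ :=
  List.rec (motive := fun _ => List ℕ) [rep24.one]
    (fun x _ r => r ++ r.map (rep24.mul x)) xs

theorem elems_nil : elems [] = [rep24.one] := rfl

theorem elems_cons (x : ℕ) (xs : List ℕ) :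
    elems (x :: xs) = elems xs ++ (elems xs).map (rep24.mul x) := rfl

/-- The ordered product selected by the bits of `k`. -/
noncomputable def elt (xs : List ℕ) : ℕ → ℕ :=
  List.rec (motive := fun _ => ℕ → ℕ) (fun _ => rep24.one)
    (fun x _ r k => cond (Nat.beq (Nat.mod k 2) 1) (rep24.mul x (r (Nat.div k 2))) (r (Nat.div k 2))) xs

theorem elt_cons (x : ℕ) (xs : List ℕ) (k : ℕ) : elt (x :: xs) k =
    cond (Nat.beq (Nat.mod k 2) 1) (rep24.mul x (elt xs (Nat.div k 2))) (elt xs (Nat.div k 2)) := rfl

theorem elt_mem (xs : List ℕ) : ∀ k, elt xs k ∈ elems xs := by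
  induction xs with
  | nil => intro k; exact List.mem_singleton.2 rfl
  | cons x xs ih =>
    intro k
    rw [elems_cons, elt_cons]
    cases Nat.beq (Nat.mod k 2) 1
    · exact List.mem_append_left _ (ih _)
    · exact List.mem_append_right _ (List.mem_map.2 ⟨_, ih _, rfl⟩)

theorem good_elems {xs : List ℕ} (h : ∀ x ∈ xs, rep24.Ok x) : ∀ e ∈ elems xs, Good e := by
  induction xs with
  | nil => intro e he; rw [List.mem_singleton.1 he]; exact good_one
  | cons x xs ih =>
    intro e he
    have hxs := ih fun y hy => h y (List.mem_cons_of_mem _ hy)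
    rcases List.mem_append.1 he with he | he
    · exact hxs e he
    · obtain ⟨f, hf, rfl⟩ := List.mem_map.1 he
      exact good_mul (h x List.mem_cons_self) (hxs f hf).1

/-- The subgroup generated by a list of codes. -/
noncomputable abbrev grp (xs : List ℕ) : Subgroup P24 := rep24.span xs

theorem grp_cons (x : ℕ) (xs : List ℕ) : grp (x :: xs) = Subgroup.zpowers (rep24.den x) ⊔ grp xs := by
  rw [grp, grp, Rep.span, Rep.span, Subgroup.zpowers_eq_closure, ← Subgroup.closure_union]
  congr 1
  ext y
  constructor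
  · rintro ⟨a, ha, rfl⟩
    rcases List.mem_cons.1 ha with rfl | ha
    · exact Or.inl rfl
    · exact Or.inr ⟨a, ha, rfl⟩
  · rintro (rfl | ⟨a, ha, rfl⟩)
    · exact ⟨x, List.mem_cons_self, rfl⟩
    · exact ⟨a, List.mem_cons_of_mem _ ha, rfl⟩

theorem den_mem_grp {xs : List ℕ} (h : ∀ x ∈ xs, rep24.Ok x) : ∀ e ∈ elems xs, rep24.den e ∈ grp xs := by
  induction xs with
  | nil => intro e he; rw [List.mem_singleton.1 he, rep24.den_one]; exact one_mem _
  | cons x xs ih =>
    intro e he
    have hr : ∀ y ∈ xs, rep24.Ok y := fun y hy => h y (List.mem_cons_of_mem _ hy)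
    rw [grp_cons]
    rcases List.mem_append.1 he with he | he
    · exact Subgroup.mem_sup_right (ih hr e he)
    · obtain ⟨f, hf, rfl⟩ := List.mem_map.1 he
      rw [rep24.den_mul _ _ (h x List.mem_cons_self) (good_elems hr f hf).1]
      exact Subgroup.mul_mem_sup (Subgroup.mem_zpowers _) (ih hr f hf)

/-- Check of a pc sequence: `sq` gives the bits of the square of the first element in the tail and
`cj` the bits of its conjugates of the tail. -/
noncomputable def pcB (xs : List ℕ) : List (ℕ × List ℕ) → Bool :=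
  List.rec (motive := fun _ => List (ℕ × List ℕ) → Bool) (fun _ => true)
    (fun x rest r cert =>
      List.rec (motive := fun _ => Bool) false (fun c cs _ =>
        Nat.beq (rep24.mul x x) (elt rest c.1) &&
        allBelow rest.length (fun i =>
          Nat.beq (rep24.mul x (rest.getD i rep24.one)) (rep24.mul (elt rest (c.2.getD i 0)) x)) &&
        !(memB x (elems rest)) && r cs) cert) xs

theorem pcB_cons (x : ℕ) (rest : List ℕ) (c : ℕ × List ℕ) (cs : List (ℕ × List ℕ)) :
    pcB (x :: rest) (c :: cs) = (Nat.beq (rep24.mul x x) (elt rest c.1) &&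
        allBelow rest.length (fun i =>
          Nat.beq (rep24.mul x (rest.getD i rep24.one)) (rep24.mul (elt rest (c.2.getD i 0)) x)) &&
        !(memB x (elems rest)) && pcB rest cs) := rfl

theorem pc_sound {xs : List ℕ} (hxs : ∀ x ∈ xs, Good x) {cert : List (ℕ × List ℕ)}
    (h : pcB xs cert = true) :
    (∀ σ, σ ∈ grp xs ↔ ∃ e ∈ elems xs, rep24.den e = σ) ∧ (elems xs).Nodup := by
  induction xs generalizing cert with
  | nil =>
    refine ⟨fun σ => ?_, List.nodup_singleton _⟩
    rw [elems_nil]
    simp [grp, Rep.span, eq_comm, rep24.den_one]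
  | cons x rest ih =>
    cases cert with
    | nil => exact absurd h (by simp [pcB])
    | cons c cs =>
      rw [pcB_cons] at h
      simp only [Bool.and_eq_true, Bool.not_eq_true', Nat.beq_eq, allBelow_eq_true] at h
      obtain ⟨⟨⟨hsq, hcj⟩, hnm⟩, hrest⟩ := h
      have hr : ∀ y ∈ rest, Good y := fun y hy => hxs y (List.mem_cons_of_mem _ hy)
      obtain ⟨hmem, hnd⟩ := ih hr hrest
      have hx := hxs x List.mem_cons_self
      have hE : ∀ e ∈ elems rest, Good e := good_elems fun y hy => (hr y hy).1
      have hxK : rep24.den x ∉ grp rest := by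
        intro hh
        obtain ⟨e, he, hee⟩ := (hmem _).1 hh
        rw [den_injective (hE e he) hx hee] at he
        rw [← memB_eq_true, hnm] at he
        simp at he
      have hsqK : rep24.den x * rep24.den x ∈ grp rest := by
        rw [← rep24.den_mul _ _ hx.1 hx.1, hsq]
        exact (hmem _).2 ⟨_, elt_mem _ _, rfl⟩
      have hnor : rep24.den x ∈ Subgroup.normalizer (grp rest : Set P24) := by
        refine mem_normalizer_of_cj_le ?_
        show (grp rest).map (MulAut.conj (rep24.den x)).toMonoidHom ≤ grp rest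
        rw [grp, Rep.span, MonoidHom.map_closure, Subgroup.closure_le]
        rintro _ ⟨_, ⟨y, hy, rfl⟩, rfl⟩
        obtain ⟨i, hi, rfl⟩ := List.getElem_of_mem hy
        have hc := hcj i hi
        rw [List.getD_eq_getElem _ _ hi] at hc
        have he := congrArg rep24.den hc
        rw [rep24.den_mul _ _ hx.1 (hr _ hy).1,
          rep24.den_mul _ _ (hE _ (elt_mem _ _)).1 hx.1] at he
        show rep24.den x * rep24.den rest[i] * (rep24.den x)⁻¹ ∈ _
        rw [he, mul_inv_cancel_right]
        exact (hmem _).2 ⟨_, elt_mem _ _, rfl⟩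
      have hall : ∀ σ, σ ∈ grp (x :: rest) ↔ σ ∈ grp rest ∨ (rep24.den x)⁻¹ * σ ∈ grp rest := by
        intro σ
        constructor
        · intro hσ
          let U : Subgroup P24 :=
            { carrier := {σ | σ ∈ grp rest ∨ (rep24.den x)⁻¹ * σ ∈ grp rest}
              one_mem' := Or.inl (one_mem _)
              mul_mem' := by
                intro a b ha hb
                rcases ha with ha | ha <;> rcases hb with hb | hb
                · exact Or.inl (mul_mem ha hb)
                · refine Or.inr ?_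
                  have h' := mul_mem
                    ((Subgroup.mem_normalizer_iff.1 (inv_mem hnor) a).1 ha) hb
                  convert h' using 1
                  group
                · exact Or.inr (by rw [← mul_assoc]; exact mul_mem ha hb)
                · refine Or.inl ?_
                  have h' := mul_mem (mul_mem ((Subgroup.mem_normalizer_iff.1 hnor _).1 ha) hsqK) hb
                  convert h' using 1
                  group
              inv_mem' := by
                intro a ha
                rcases ha with ha | ha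
                · exact Or.inl (inv_mem ha)
                · refine Or.inr ?_
                  have h' := mul_mem ((Subgroup.mem_normalizer_iff.1 (inv_mem hnor) _).1 (inv_mem ha))
                    (inv_mem hsqK)
                  convert h' using 1
                  group }
          have hle : grp (x :: rest) ≤ U := by
            rw [grp_cons]
            refine sup_le (Subgroup.zpowers_le.2 (Or.inr ?_)) fun a ha => Or.inl ha
            rw [inv_mul_cancel]; exact one_mem _
          exact hle hσ
        · intro hσ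
          rw [grp_cons]
          rcases hσ with hσ | hσ
          · exact Subgroup.mem_sup_right hσ
          · rw [← mul_inv_cancel_left (rep24.den x) σ]
            exact Subgroup.mul_mem_sup (Subgroup.mem_zpowers _) hσ
      refine ⟨fun σ => ?_, ?_⟩
      · rw [hall, hmem, hmem, elems_cons]
        constructor
        · rintro (⟨e, he, rfl⟩ | ⟨e, he, hee⟩)
          · exact ⟨e, List.mem_append_left _ he, rfl⟩
          · exact ⟨_, List.mem_append_right _ (List.mem_map.2 ⟨e, he, rfl⟩), by
              rw [rep24.den_mul _ _ hx.1 (hE e he).1, hee, mul_inv_cancel_left]⟩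
        · rintro ⟨e, he, rfl⟩
          rcases List.mem_append.1 he with he | he
          · exact Or.inl ⟨e, he, rfl⟩
          · obtain ⟨f, hf, rfl⟩ := List.mem_map.1 he
            exact Or.inr ⟨f, hf, by rw [rep24.den_mul _ _ hx.1 (hE f hf).1, inv_mul_cancel_left]⟩
      · rw [elems_cons, List.nodup_append']
        refine ⟨hnd, ?_, ?_⟩
        · refine hnd.map_on fun a ha b hb hab => ?_
          refine den_injective (hE a ha) (hE b hb) (mul_left_cancel (a := rep24.den x) ?_)
          rw [← rep24.den_mul _ _ hx.1 (hE a ha).1, ← rep24.den_mul _ _ hx.1 (hE b hb).1, hab]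
        · intro a ha hb
          obtain ⟨f, hf, rfl⟩ := List.mem_map.1 hb
          have h' := (hmem _).2 ⟨_, ha, rfl⟩
          rw [rep24.den_mul _ _ hx.1 (hE f hf).1] at h'
          exact hxK ((Subgroup.mul_mem_cancel_right _ ((hmem _).2 ⟨f, hf, rfl⟩)).1 h')

theorem length_elems (xs : List ℕ) : (elems xs).length = 2 ^ xs.length := by
  induction xs with
  | nil => rfl
  | cons x xs ih => rw [elems_cons, List.length_append, List.length_map, ih, List.length_cons, pow_succ]; omega

theorem card_grp {xs : List ℕ} (hxs : ∀ x ∈ xs, Good x) {cert : List (ℕ × List ℕ)}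
    (h : pcB xs cert = true) : Nat.card (grp xs) = 2 ^ xs.length := by
  classical
  obtain ⟨hmem, hnd⟩ := pc_sound hxs h
  have hE := good_elems fun x hx => (hxs x hx).1
  have hnd' : ((elems xs).map rep24.den).Nodup :=
    hnd.map_on fun a ha b hb hab => den_injective (hE a ha) (hE b hb) hab
  have hset : (grp xs : Set P24) = (((elems xs).map rep24.den).toFinset : Set P24) := by
    ext σ; simp [hmem]
  show Nat.card ((grp xs : Set P24) : Type) = _
  rw [hset, Nat.card_coe_set_eq, Set.ncard_coe_finset, List.toFinset_card_of_nodup hnd',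
    List.length_map, length_elems]

theorem exists_append {u v : List ℕ} (hu : ∀ x ∈ u, rep24.Ok x) (hv : ∀ x ∈ v, rep24.Ok x) :
    ∀ e ∈ elems (u ++ v), ∃ r ∈ elems u, ∃ y ∈ elems v, rep24.den e = rep24.den r * rep24.den y := by
  induction u with
  | nil =>
    intro e he
    exact ⟨_, List.mem_singleton.2 rfl, e, he, by rw [rep24.den_one, one_mul]⟩
  | cons x u ih =>
    intro e he
    have hu' : ∀ y ∈ u, rep24.Ok y := fun y hy => hu y (List.mem_cons_of_mem _ hy)
    rw [List.cons_append, elems_cons] at he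
    rcases List.mem_append.1 he with he | he
    · obtain ⟨r, hr, y, hy, e'⟩ := ih hu' e he
      exact ⟨r, List.mem_append_left _ hr, y, hy, e'⟩
    · obtain ⟨f, hf, rfl⟩ := List.mem_map.1 he
      obtain ⟨r, hr, y, hy, e'⟩ := ih hu' f hf
      have hfok : rep24.Ok f := (good_elems (by
        intro z hz
        rcases List.mem_append.1 hz with hz | hz
        exacts [hu' z hz, hv z hz]) f hf).1
      exact ⟨_, List.mem_append_right _ (List.mem_map.2 ⟨r, hr, rfl⟩), y, hy, by
        rw [rep24.den_mul _ _ (hu x List.mem_cons_self) hfok, e',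
          rep24.den_mul _ _ (hu x List.mem_cons_self) (good_elems hu' r hr).1, mul_assoc]⟩

/-- Number of fixed points of a code. -/
noncomputable def fixCode (c : ℕ) : ℕ :=
  Nat.rec (motive := fun _ => ℕ) 0
    (fun k r => cond (Nat.beq (getField 5 c k) k) (Nat.add r 1) r) 24

/-- Number of fixed points of a permutation. -/
def fixP (σ : P24) : ℕ := (Finset.univ.filter fun p => σ p = p).card

theorem fixP_conj (g σ : P24) : fixP (g * σ * g⁻¹) = fixP σ := by
  refine (Finset.card_equiv g ?_).symm
  intro p
  have e : (g * σ * g⁻¹) (g p) = g (σ p) := by simp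
  simp only [Finset.mem_filter, Finset.mem_univ, true_and, e]
  exact g.injective.eq_iff.symm

theorem fixP_den {c : ℕ} (hc : rep24.Ok c) : fixP (rep24.den c) = fixCode c := by
  have haux : ∀ n, ((Finset.range n).filter fun k => getField 5 c k = k).card =
      (Nat.rec (motive := fun _ => ℕ) 0
        (fun k r => cond (Nat.beq (getField 5 c k) k) (Nat.add r 1) r) n) := by
    intro n
    induction n with
    | zero => rfl
    | succ k ih =>
      rw [Finset.range_add_one, Finset.filter_insert]
      by_cases hk : getField 5 c k = k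
      · rw [if_pos hk, Finset.card_insert_of_notMem (by simp), ih]
        simp [Nat.beq_eq, hk, cond_eq]
      · rw [if_neg hk, ih]
        simp [Nat.beq_eq, hk, cond_eq]
  rw [fixCode, ← haux 24]
  refine Finset.card_bij (fun p _ => ptIdx p) ?_ (fun a _ b _ h => ptIdx_injective h) ?_
  · intro p hp
    simp only [Finset.mem_filter, Finset.mem_univ, true_and] at hp
    simp only [Finset.mem_filter, Finset.mem_range]
    refine ⟨ptIdx_lt p, ?_⟩
    have h := ptIdx_den hc p
    rw [hp] at h
    exact h.symm
  · intro k hk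
    simp only [Finset.mem_filter, Finset.mem_range] at hk
    refine ⟨rep24.pt k, ?_, ptIdx_rep24 hk.1⟩
    simp only [Finset.mem_filter, Finset.mem_univ, true_and]
    refine ptIdx_injective ?_
    rw [ptIdx_den hc, ptIdx_rep24 hk.1]
    exact hk.2

attribute [local irreducible] Cfsg.Agent.Compute.rep24

/-- The colour of a code relative to a code `z`. -/
noncomputable def colCode (z c : ℕ) : ℕ :=
  Nat.add (Nat.add (fixCode c) (Nat.mul 32 (fixCode (rep24.mul c c))))
    (cond (Nat.beq (rep24.mul c c) z) 1024 0)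

open Classical in
/-- The colour of a permutation relative to `z`. -/
noncomputable def colP (z σ : P24) : ℕ :=
  fixP σ + 32 * fixP (σ * σ) + (if σ * σ = z then 1024 else 0)

theorem colP_den {z c : ℕ} (hz : Good z) (hc : rep24.Ok c) :
    colP (rep24.den z) (rep24.den c) = colCode z c := by
  rw [colP, colCode, ← rep24.den_mul _ _ hc hc, fixP_den hc, fixP_den (rep24.ok_mul _ _ hc hc)]
  by_cases h : rep24.mul c c = z
  · rw [h, if_pos rfl]; simp [cond_eq]
  · rw [if_neg (fun e => h (den_injective (good_mul hc hc) hz e))]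
    simp [h, cond_eq, Nat.beq_eq]

/-- Colour counts of the coset of `r` in the list `E`. -/
noncomputable def histCode (cols : List ℕ) (z : ℕ) (E : List ℕ) (r : ℕ) : List ℕ :=
  cols.map fun col =>
    List.rec (motive := fun _ => ℕ) 0
      (fun e _ n => cond (Nat.beq (colCode z (rep24.mul r e)) col) (Nat.add n 1) n) E

/-- Product of a word in known elements. -/
noncomputable def wordVal (known : List ℕ) (w : List ℕ) : ℕ :=
  List.rec (motive := fun _ => ℕ) rep24.one (fun i _ r => rep24.mul (known.getD i rep24.one) r) w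

theorem wordVal_cons (known : List ℕ) (i : ℕ) (w : List ℕ) :
    wordVal known (i :: w) = rep24.mul (known.getD i rep24.one) (wordVal known w) := rfl

/-- Check of a chain of conjugations: words, conjugators and their inverses; then words for `goal`. -/
noncomputable def chainB (H : ℕ → Bool) (E goal : List ℕ) (fin : List (List ℕ))
    (steps : List (List ℕ × ℕ × ℕ)) : List ℕ → Bool :=
  List.rec (motive := fun _ => List ℕ → Bool)
    (fun known => Nat.beq fin.length goal.length &&
      allBelow goal.length (fun i => Nat.beq (goal.getD i rep24.one) (wordVal known (fin.getD i []))))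
    (fun st _ r known => H st.2.1 && rep24.okb st.2.2 &&
      Nat.beq (rep24.mul st.2.1 st.2.2) rep24.one &&
      memB (rep24.mul st.2.1 (rep24.mul (wordVal known st.1) st.2.2)) E &&
      r (known ++ [rep24.mul st.2.1 (rep24.mul (wordVal known st.1) st.2.2)])) steps

/-- All data. -/
structure Cert where
  xs : List ℕ
  k : ℕ
  pc : List (ℕ × List ℕ)
  z : ℕ
  cols : List ℕ
  hists : List (List ℕ)
  roots : List (List ℕ)
  steps : List (List ℕ × ℕ × ℕ)
  fin : List (List ℕ)

/-- The generators are in the group and form a pc sequence. -/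
noncomputable def Cert.groupB (C : Cert) (H : ℕ → Bool) : Bool :=
  C.xs.all H && C.xs.all (fun x => Nat.beq (pack 5 24 (getField 5 x)) x) && pcB C.xs C.pc &&
    memB C.z (elems C.xs)

/-- Squares lie in the tail subgroup and generate it. -/
noncomputable def Cert.squareB (C : Cert) : Bool :=
  Nat.blt C.k C.xs.length &&
  (fun K => (elems C.xs).all (fun e => memB (rep24.mul e e) K)) (elems (C.xs.drop C.k)) &&
  allBelow (C.xs.drop C.k).length (fun i =>
    Nat.beq ((C.xs.drop C.k).getD i rep24.one)
      (wordVal ((C.roots.getD i []).map (fun j => rep24.mul (elt C.xs j) (elt C.xs j)))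
        (List.range (C.roots.getD i []).length)))

/-- The centre has order at most two. -/
noncomputable def Cert.centerB (C : Cert) : Bool :=
  (elems C.xs).all (fun e => Nat.beq e rep24.one || Nat.beq e C.z ||
    C.xs.any (fun x => !(Nat.beq (rep24.mul x e) (rep24.mul e x))))

/-- The classes of the invariant. -/
noncomputable def Cert.histB (C : Cert) : Bool :=
  decide ((elems (C.xs.take C.k)).map (histCode C.cols C.z (elems (C.xs.drop C.k))) = C.hists) &&
  allBelow C.hists.length (fun i => allBelow i (fun j => allBelow j (fun l =>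
    !(decide (C.hists.getD i [] = C.hists.getD j []) &&
      decide (C.hists.getD i [] = C.hists.getD l [])))))

/-- The conjugation chain. -/
noncomputable def Cert.closedB (C : Cert) (H : ℕ → Bool) : Bool :=
  chainB H (elems C.xs) C.xs C.fin C.steps [C.z]

theorem pcB_tail {xs : List ℕ} {cert : List (ℕ × List ℕ)} (h : pcB xs cert = true) (k : ℕ) :
    ∃ cert', pcB (xs.drop k) cert' = true := by
  induction k generalizing xs cert with
  | zero => exact ⟨cert, h⟩
  | succ k ih =>
    cases xs with
    | nil => exact ⟨[], rfl⟩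
    | cons x rest =>
      cases cert with
      | nil => exact absurd h (by simp [pcB])
      | cons c cs =>
        rw [pcB_cons, Bool.and_eq_true] at h
        exact ih h.2

theorem wordVal_induction (P : ℕ → Prop) (h1 : P rep24.one) (hmul : ∀ a b, P a → P b → P (rep24.mul a b))
    {known : List ℕ} (hk : ∀ c ∈ known, P c) (w : List ℕ) : P (wordVal known w) := by
  induction w with
  | nil => exact h1
  | cons i w ih =>
    rw [wordVal_cons]
    refine hmul _ _ ?_ ih
    by_cases hi : i < known.length
    · rw [List.getD_eq_getElem _ _ hi]; exact hk _ (List.getElem_mem hi)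
    · rw [List.getD_eq_default _ _ (by omega)]; exact h1

theorem colP_conj {z g : P24} (hg : g * z * g⁻¹ = z) (σ : P24) : colP z (g * σ * g⁻¹) = colP z σ := by
  have e : g * σ * g⁻¹ * (g * σ * g⁻¹) = g * (σ * σ) * g⁻¹ := by group
  have hiff : g * (σ * σ) * g⁻¹ = z ↔ σ * σ = z := by
    conv_lhs => rw [← hg]
    rw [mul_left_inj, mul_right_inj]
  simp only [colP, e, fixP_conj, hiff]

open Classical in
theorem histCode_eq (cols : List ℕ) (z : ℕ) (E : List ℕ) (r : ℕ) :
    histCode cols z E r =
      cols.map fun col => (E.filter fun e => decide (colCode z (rep24.mul r e) = col)).length := by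
  refine List.map_congr_left fun col _ => ?_
  induction E with
  | nil => rfl
  | cons e E ih =>
    show cond (Nat.beq (colCode z (rep24.mul r e)) col) (Nat.add _ 1) _ = _
    rw [ih, List.filter_cons]
    by_cases h : colCode z (rep24.mul r e) = col
    · simp [h, cond_eq, Nat.beq_eq]
    · simp [h, cond_eq, Nat.beq_eq]

open Classical in
theorem card_colour (G : Subgroup P24) {E : List ℕ} (hE : ∀ e ∈ E, Good e) (hnd : E.Nodup)
    {K : Subgroup G} (hK : ∀ x : G, x ∈ K ↔ ∃ e ∈ E, rep24.den e = (x : P24))
    (hEG : ∀ e ∈ E, rep24.den e ∈ G)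
    {z r : ℕ} (hz : Good z) (hr : rep24.Ok r) {s : G} (hs : (s : P24) = rep24.den r) (col : ℕ) :
    Nat.card {x : G // x ∈ K ∧ colP (rep24.den z) (((s * x : G) : P24)) = col} =
      (E.filter fun e => decide (colCode z (rep24.mul r e) = col)).length := by
  set l := E.filter fun e => decide (colCode z (rep24.mul r e) = col) with hl
  have hlE : ∀ e ∈ l, e ∈ E := fun e he => (List.mem_filter.1 he).1
  have hnd' : (l.map rep24.den).Nodup :=
    (hnd.filter _).map_on fun a ha b hb hab => den_injective (hE a (hlE a ha)) (hE b (hlE b hb)) hab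
  have himg : (Subtype.val : G → P24) '' {x : G | x ∈ K ∧ colP (rep24.den z) (((s * x : G) : P24)) = col}
      = ((l.map rep24.den).toFinset : Set P24) := by
    ext σ
    simp only [Set.mem_image, Set.mem_setOf_eq, Finset.mem_coe, List.mem_toFinset, List.mem_map, hl,
      List.mem_filter, decide_eq_true_eq]
    constructor
    · rintro ⟨x, ⟨hx, hcol⟩, rfl⟩
      obtain ⟨e, he, hex⟩ := (hK x).1 hx
      refine ⟨e, ⟨he, ?_⟩, hex⟩
      rw [← colP_den hz (rep24.ok_mul _ _ hr (hE e he).1), rep24.den_mul _ _ hr (hE e he).1, hex,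
        ← hs, ← hcol]
      rfl
    · rintro ⟨e, ⟨he, hcol⟩, rfl⟩
      refine ⟨⟨_, hEG e he⟩, ⟨(hK _).2 ⟨e, he, rfl⟩, ?_⟩, rfl⟩
      rw [Subgroup.coe_mul, hs, ← rep24.den_mul _ _ hr (hE e he).1,
        colP_den hz (rep24.ok_mul _ _ hr (hE e he).1), hcol]
  show Nat.card ({x : G | x ∈ K ∧ colP (rep24.den z) (((s * x : G) : P24)) = col} : Type) = _
  rw [Nat.card_coe_set_eq, ← Set.ncard_image_of_injective _ Subtype.val_injective, himg,
    Set.ncard_coe_finset, List.toFinset_card_of_nodup hnd', List.length_map]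

theorem chain_sound {H : Subgroup P24} {Hb : ℕ → Bool}
    (hH : ∀ g, Hb g = true → rep24.Ok g ∧ rep24.den g ∈ H) {E goal : List ℕ} {fin : List (List ℕ)}
    {S T : Subgroup H} (hE : ∀ e ∈ E, ∀ x : H, (x : P24) = rep24.den e → x ∈ S) (hT : EltClosed S T) :
    ∀ (steps : List (List ℕ × ℕ × ℕ)) (known : List ℕ),
      (∀ c ∈ known, rep24.Ok c ∧ ∃ h : rep24.den c ∈ H, (⟨_, h⟩ : H) ∈ T) →
      chainB Hb E goal fin steps known = true →
      ∀ g ∈ goal, ∃ h : rep24.den g ∈ H, (⟨_, h⟩ : H) ∈ T := by
  set P := fun c => rep24.Ok c ∧ ∃ h : rep24.den c ∈ H, (⟨_, h⟩ : H) ∈ T with hP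
  have h1 : P rep24.one :=
    ⟨rep24.ok_one, rep24.den_one ▸ one_mem H, by
      convert one_mem T using 1
      exact Subtype.ext rep24.den_one⟩
  have hmul : ∀ a b, P a → P b → P (rep24.mul a b) := by
    rintro a b ⟨ha, ha', haT⟩ ⟨hb, hb', hbT⟩
    refine ⟨rep24.ok_mul _ _ ha hb, rep24.den_mul _ _ ha hb ▸ mul_mem ha' hb', ?_⟩
    convert mul_mem haT hbT using 1
    exact Subtype.ext (rep24.den_mul _ _ ha hb)
  intro steps
  induction steps with
  | nil =>
    intro known hk h g hg
    have h' : (Nat.beq fin.length goal.length &&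
      allBelow goal.length (fun i => Nat.beq (goal.getD i rep24.one) (wordVal known (fin.getD i [])))) = true := h
    simp only [Bool.and_eq_true, allBelow_eq_true, Nat.beq_eq] at h'
    obtain ⟨i, hi, rfl⟩ := List.getElem_of_mem hg
    have := h'.2 i hi
    rw [List.getD_eq_getElem _ _ hi] at this
    rw [this]
    exact (wordVal_induction P h1 hmul hk _).2
  | cons st steps ih =>
    intro known hk h
    have h' : (Hb st.2.1 && rep24.okb st.2.2 &&
      Nat.beq (rep24.mul st.2.1 st.2.2) rep24.one &&
      memB (rep24.mul st.2.1 (rep24.mul (wordVal known st.1) st.2.2)) E &&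
      chainB Hb E goal fin steps
        (known ++ [rep24.mul st.2.1 (rep24.mul (wordVal known st.1) st.2.2)])) = true := h
    simp only [Bool.and_eq_true, Nat.beq_eq, memB_eq_true] at h'
    obtain ⟨⟨⟨⟨hg, hgi⟩, hinv⟩, hmem⟩, hrest⟩ := h'
    obtain ⟨hgok, hgH⟩ := hH _ hg
    have hgiok := rep24.okb_sound _ hgi
    obtain ⟨hwok, hwH, hwT⟩ := wordVal_induction P h1 hmul hk st.1
    have hgg : rep24.den st.2.2 = (rep24.den st.2.1)⁻¹ := by
      refine eq_inv_of_mul_eq_one_right ?_
      rw [← rep24.den_mul _ _ hgok hgiok, hinv, rep24.den_one]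
    refine ih _ (fun c hc => ?_) hrest
    rcases List.mem_append.1 hc with hc | hc
    · exact hk c hc
    rw [List.mem_singleton] at hc
    rw [hc]
    have hok := rep24.ok_mul _ _ hgok (rep24.ok_mul _ _ hwok hgiok)
    set y : H := (⟨_, hgH⟩ : H) * ⟨_, hwH⟩ * (⟨_, hgH⟩ : H)⁻¹ with hy
    have hyv : (y : P24) = rep24.den (rep24.mul st.2.1 (rep24.mul (wordVal known st.1) st.2.2)) := by
      rw [rep24.den_mul _ _ hgok (rep24.ok_mul _ _ hwok hgiok), rep24.den_mul _ _ hwok hgiok, hgg,
        ← mul_assoc]
      rfl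
    refine ⟨hok, hyv ▸ y.2, ?_⟩
    have hyT := hT.2 _ hwT ⟨_, hgH⟩ (hE _ hmem y hyv)
    convert hyT using 1
    exact Subtype.ext hyv.symm

/-- The criterion on checkable data. -/
theorem isSimple_of_cert (H : Subgroup P24) (Hb : ℕ → Bool)
    (hH : ∀ g, Hb g = true → rep24.Ok g ∧ rep24.den g ∈ H) (C : Cert)
    (h1 : C.groupB Hb = true) (h2 : C.squareB = true) (h3 : C.centerB = true) (h4 : C.histB = true)
    (h5 : C.closedB Hb = true) {m : ℕ} (hcard : Nat.card H = 2 ^ C.xs.length * m) (hm : ¬ 2 ∣ m)
    (S : Sylow 2 H) : (Cfsg.groupFusionSystem (S : Subgroup H)).IsSimple 2 := by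
  classical
  haveI : Fact (Nat.Prime 2) := ⟨Nat.prime_two⟩
  simp only [Cert.groupB, Bool.and_eq_true, List.all_eq_true, Nat.beq_eq, memB_eq_true] at h1
  obtain ⟨⟨⟨hxH, hxC⟩, hpc⟩, hzE⟩ := h1
  have hxs : ∀ x ∈ C.xs, Good x := fun x hx => ⟨(hH x (hxH x hx)).1, hxC x hx⟩
  obtain ⟨hmem, hnd⟩ := pc_sound hxs hpc
  have hE := good_elems fun x hx => (hxs x hx).1
  have hle : grp C.xs ≤ H := by
    rw [grp, Rep.span, Subgroup.closure_le]
    rintro _ ⟨x, hx, rfl⟩
    exact (hH x (hxH x hx)).2
  have hcard0 : Nat.card ((grp C.xs).subgroupOf H) = 2 ^ (Nat.card H).factorization 2 := by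
    rw [Nat.card_congr (Subgroup.subgroupOfEquivOfLe hle).toEquiv, card_grp hxs hpc, hcard,
      Nat.factorization_mul (by positivity) (by rintro rfl; exact hm (dvd_zero 2)),
      Finsupp.add_apply, Nat.prime_two.factorization_pow,
      Nat.factorization_eq_zero_of_not_dvd hm]
    simp
  let S₀ : Sylow 2 H := Sylow.ofCard _ hcard0
  have hS₀ : ∀ x : H, x ∈ (S₀ : Subgroup H) ↔ (x : P24) ∈ grp C.xs := fun _ => Iff.rfl
  have hEG : ∀ e ∈ elems C.xs, rep24.den e ∈ H := fun e he => hle ((hmem _).2 ⟨e, he, rfl⟩)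
  set Kt := C.xs.drop C.k with hKt
  set U := C.xs.take C.k with hU
  have hKx : ∀ x ∈ Kt, Good x := fun x hx => hxs x (List.mem_of_mem_drop hx)
  have hUx : ∀ x ∈ U, rep24.Ok x := fun x hx => (hxs x (List.mem_of_mem_take hx)).1
  obtain ⟨cert', hpc'⟩ := pcB_tail hpc C.k
  obtain ⟨hmemK, hndK⟩ := pc_sound hKx hpc'
  have hKle : grp Kt ≤ grp C.xs := Subgroup.closure_mono (Set.image_mono fun x hx => List.mem_of_mem_drop hx)
  set K : Subgroup H := (grp Kt).subgroupOf H with hKdef
  have hKmem : ∀ x : H, x ∈ K ↔ ∃ e ∈ elems Kt, rep24.den e = (x : P24) := fun x => hmemK _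
  have hEK := good_elems fun x hx => (hKx x hx).1
  have hEKG : ∀ e ∈ elems Kt, rep24.den e ∈ H := fun e he => hle (hKle ((hmemK _).2 ⟨e, he, rfl⟩))
  set z : H := ⟨_, hEG _ hzE⟩ with hzdef
  simp only [Cert.squareB, Bool.and_eq_true, List.all_eq_true, memB_eq_true, allBelow_eq_true,
    Nat.beq_eq, Nat.blt_eq] at h2
  obtain ⟨⟨hkn, hsq⟩, hroots⟩ := h2
  have hdecomp : ∀ a ∈ (S₀ : Subgroup H), ∃ r ∈ elems U, ∃ (h : rep24.den r ∈ H) (y : H),
      y ∈ K ∧ a = (⟨_, h⟩ : H) * y := by
    intro a ha
    obtain ⟨e, he, hea⟩ := (hmem _).1 ((hS₀ a).1 ha)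
    obtain ⟨r, hr, y, hy, he'⟩ := exists_append (u := U) (v := Kt) hUx (fun x hx => (hKx x hx).1) e
      (by rw [hU, hKt, List.take_append_drop]; exact he)
    have hyH : rep24.den y ∈ H := hle (hKle ((hmemK _).2 ⟨y, hy, rfl⟩))
    have hrH : rep24.den r ∈ H := by
      rw [show rep24.den r = (a : P24) * (rep24.den y)⁻¹ by rw [← hea, he', mul_inv_cancel_right]]
      exact mul_mem a.2 (inv_mem hyH)
    exact ⟨r, hr, hrH, ⟨_, hyH⟩, (hKmem _).2 ⟨y, hy, rfl⟩, Subtype.ext (by rw [← hea, he']; rfl)⟩
  let F : H → ℕ → ℕ := fun s col =>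
    Nat.card {x : H // x ∈ K ∧ colP (z : P24) (((s * x : H) : P24)) = col}
  have hFy : ∀ s y : H, y ∈ K → F (s * y) = F s := by
    intro s y hy
    funext col
    refine Nat.card_congr (Equiv.subtypeEquiv (Equiv.mulLeft y) fun x => ?_)
    simp only [Equiv.coe_mulLeft, ← mul_assoc]
    exact and_congr_left' (by rw [K.mul_mem_cancel_left hy])
  simp only [Cert.histB, Bool.and_eq_true, decide_eq_true_eq, allBelow_eq_true, Bool.not_eq_true',
    Bool.and_eq_false_iff, decide_eq_false_iff_not] at h4
  obtain ⟨hdata, hdist⟩ := h4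
  have hkey : ∀ r ∈ elems U, ∀ h : rep24.den r ∈ H,
      histCode C.cols C.z (elems Kt) r = C.cols.map (F ⟨_, h⟩) := by
    intro r hr h
    rw [histCode_eq]
    refine List.map_congr_left fun col _ => ?_
    exact (card_colour H hEK hndK hKmem hEKG (hE _ hzE) (good_elems hUx r hr).1 rfl col).symm
  refine isSimple_of_invariant S₀ K z (fun x hx => (hS₀ x).2 (hKle hx)) ?_ ?_ ?_ ?_ F ?_ ?_ ?_ S
  · intro s hs
    obtain ⟨e, he, hes⟩ := (hmem _).1 ((hS₀ s).1 hs)
    refine (hKmem _).2 ⟨_, hsq e he, ?_⟩
    rw [rep24.den_mul _ _ (hE e he).1 (hE e he).1, hes]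
    rfl
  · set Q := Subgroup.closure {y : H | ∃ s ∈ (S₀ : Subgroup H), y = s * s}
    have hQ : grp Kt ≤ Q.map H.subtype := by
      rw [grp, Rep.span, Subgroup.closure_le]
      rintro _ ⟨x, hx, rfl⟩
      obtain ⟨i, hi, rfl⟩ := List.getElem_of_mem hx
      have hc := hroots i hi
      rw [List.getD_eq_getElem _ _ hi] at hc
      rw [hc]
      refine (wordVal_induction (fun c => rep24.Ok c ∧ rep24.den c ∈ Q.map H.subtype)
        ⟨rep24.ok_one, rep24.den_one ▸ one_mem _⟩
        (fun a b ha hb => ⟨rep24.ok_mul _ _ ha.1 hb.1, rep24.den_mul _ _ ha.1 hb.1 ▸ mul_mem ha.2 hb.2⟩)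
        ?_ _).2
      intro c hc
      obtain ⟨j, -, rfl⟩ := List.mem_map.1 hc
      have hj := elt_mem C.xs j
      refine ⟨(good_mul (hE _ hj).1 (hE _ hj).1).1,
        (⟨_, hEG _ hj⟩ : H) * ⟨_, hEG _ hj⟩, Subgroup.subset_closure ⟨⟨_, hEG _ hj⟩,
          (hS₀ _).2 ((hmem _).2 ⟨_, hj, rfl⟩), rfl⟩, ?_⟩
      rw [rep24.den_mul _ _ (hE _ hj).1 (hE _ hj).1]
      rfl
    intro x hx
    obtain ⟨y, hy, hyx⟩ := hQ hx
    exact (Subtype.ext hyx : y = x) ▸ hy
  · intro h
    have hb : grp C.xs = ⊥ := by
      rw [eq_bot_iff]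
      intro σ hσ
      have : (⟨σ, hle hσ⟩ : H) ∈ (S₀ : Subgroup H) := hσ
      rw [h, Subgroup.mem_bot] at this
      exact congrArg Subtype.val this
    have hc := card_grp hxs hpc
    rw [hb, Subgroup.card_bot] at hc
    exact absurd hc.symm (Nat.one_lt_pow (by omega) (by norm_num)).ne'
  · intro x hx hcomm hx1
    obtain ⟨e, he, hex⟩ := (hmem _).1 ((hS₀ x).1 hx)
    simp only [Cert.centerB, List.all_eq_true, Bool.or_eq_true, Nat.beq_eq, List.any_eq_true,
      Bool.not_eq_true'] at h3
    rcases h3 e he with (he1 | he1) | ⟨g, hg, hne⟩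
    · exact absurd (Subtype.ext (by rw [← hex, he1, rep24.den_one]; rfl)) hx1
    · exact Subtype.ext (by rw [← hex, he1])
    · have hgH := (hH g (hxH g hg)).2
      have hc := congrArg Subtype.val (hcomm ⟨_, hgH⟩ ((hS₀ _).2 (rep24.den_mem_span hg)))
      simp only [Subgroup.coe_mul, ← hex, ← rep24.den_mul _ _ (hE e he).1 (hxs g hg).1,
        ← rep24.den_mul _ _ (hxs g hg).1 (hE e he).1] at hc
      have := den_injective (good_mul (hE e he).1 (hxs g hg).1) (good_mul (hxs g hg).1 (hE e he).1) hc
      rw [this, Nat.beq_refl] at hne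
      exact absurd hne (by simp)
  · intro g hgN hgz hgK s hs
    funext col
    refine (Nat.card_congr (Equiv.subtypeEquiv (MulAut.conj g).toEquiv fun x => ?_)).symm
    have e : ((g * s * g⁻¹ * (g * x * g⁻¹) : H) : P24) =
        (g : P24) * ((s * x : H) : P24) * (g : P24)⁻¹ := by
      rw [show g * s * g⁻¹ * (g * x * g⁻¹) = g * (s * x) * g⁻¹ by group]
      rfl
    show _ ↔ g * x * g⁻¹ ∈ K ∧ colP (z : P24) ((g * s * g⁻¹ * (g * x * g⁻¹) : H) : P24) = col
    rw [e, colP_conj (congrArg Subtype.val hgz), ← Subgroup.mem_normalizer_iff.1 hgK x]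
  · intro a ha b hb c hc hab hac
    obtain ⟨ra, hra, hraH, ya, hya, rfl⟩ := hdecomp a ha
    obtain ⟨rb, hrb, hrbH, yb, hyb, rfl⟩ := hdecomp b hb
    obtain ⟨rc, hrc, hrcH, yc, hyc, rfl⟩ := hdecomp c hc
    rw [hFy _ _ hya, hFy _ _ hyb] at hab
    rw [hFy _ _ hya, hFy _ _ hyc] at hac
    have h_ab : histCode C.cols C.z (elems Kt) ra = histCode C.cols C.z (elems Kt) rb := by
      rw [hkey ra hra hraH, hkey rb hrb hrbH, hab]
    have h_ac : histCode C.cols C.z (elems Kt) ra = histCode C.cols C.z (elems Kt) rc := by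
      rw [hkey ra hra hraH, hkey rc hrc hrcH, hac]
    obtain ⟨i, hi, rfl⟩ := List.getElem_of_mem hra
    obtain ⟨j, hj, rfl⟩ := List.getElem_of_mem hrb
    obtain ⟨l, hl, rfl⟩ := List.getElem_of_mem hrc
    have hlen : C.hists.length = (elems U).length := by rw [← hdata, List.length_map]
    have hget : ∀ (q : ℕ) (hq : q < (elems U).length),
        C.hists.getD q [] = histCode C.cols C.z (elems Kt) (elems U)[q] := by
      intro q hq
      rw [List.getD_eq_getElem _ _ (hlen ▸ hq)]
      simp only [← hdata, List.getElem_map]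
      rfl
    have htri : ∀ p q s, p < (elems U).length → q < p → s < q →
        C.hists.getD p [] = C.hists.getD q [] → C.hists.getD p [] ≠ C.hists.getD s [] := by
      intro p q s hp hq hs' e1 e2
      rcases hdist p (hlen ▸ hp) q hq s hs' with h | h
      exacts [h e1, h e2]
    have hquot : ∀ (r : H) (y y' : H), y ∈ K → y' ∈ K → (r * y)⁻¹ * (r * y') ∈ K := by
      intro r y y' hy hy'
      rw [mul_inv_rev, mul_assoc, inv_mul_cancel_left]
      exact K.mul_mem (K.inv_mem hy) hy'
    have ei := hget i hi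
    have ej := hget j hj
    have el := hget l hl
    by_cases hij : i = j
    · subst hij; exact Or.inl (hquot _ _ _ hya hyb)
    by_cases hil : i = l
    · subst hil; exact Or.inr (Or.inl (hquot _ _ _ hya hyc))
    by_cases hjl : j = l
    · subst hjl; exact Or.inr (Or.inr (hquot _ _ _ hyb hyc))
    exfalso
    have e1 : C.hists.getD i [] = C.hists.getD j [] := by rw [ei, ej, h_ab]
    have e2 : C.hists.getD i [] = C.hists.getD l [] := by rw [ei, el, h_ac]
    have e3 : C.hists.getD j [] = C.hists.getD l [] := e1.symm.trans e2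
    rcases lt_trichotomy i j with h | h | h <;> rcases lt_trichotomy i l with h' | h' | h' <;>
      rcases lt_trichotomy j l with h'' | h'' | h'' <;>
      first
        | omega
        | exact htri i j l hi (by omega) (by omega) e1 e2
        | exact htri i l j hi (by omega) (by omega) e2 e1
        | exact htri j i l hj (by omega) (by omega) e1.symm e3
        | exact htri j l i hj (by omega) (by omega) e3 e1.symm
        | exact htri l i j hl (by omega) (by omega) e2.symm e3.symm
        | exact htri l j i hl (by omega) (by omega) e3.symm e2.symm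
  · intro T hT hzT
    have hgen : ∀ x ∈ C.xs, ∃ h : rep24.den x ∈ H, (⟨_, h⟩ : H) ∈ T := by
      refine chain_sound hH (E := elems C.xs) (S := (S₀ : Subgroup H)) (fin := C.fin)
        (fun e he x hx => (hS₀ x).2 (hx ▸ (hmem _).2 ⟨e, he, rfl⟩)) hT C.steps [C.z] ?_ h5
      intro c hc
      rw [List.mem_singleton] at hc
      subst hc
      exact ⟨(hE _ hzE).1, hEG _ hzE, hzT⟩
    have hleT : grp C.xs ≤ T.map H.subtype := by
      rw [grp, Rep.span, Subgroup.closure_le]
      rintro _ ⟨x, hx, rfl⟩
      obtain ⟨h, hT'⟩ := hgen x hx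
      exact ⟨⟨_, h⟩, hT', rfl⟩
    intro s hs
    obtain ⟨y, hy, hys⟩ := hleT ((hS₀ s).1 hs)
    exact (Subtype.ext hys : y = s) ▸ hy

end Cfsg.Agent.GroupSub.CodeFus
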