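import Cfsg.Agent.GroupSub.Saturation

/-!
Simplicity of the fusion system of a finite group from elementwise data on one Sylow subgroup.
-/

set_option autoImplicit false

namespace Cfsg.Agent.GroupSub

variable {G : Type*} [Group G] [Finite G] {p : ℕ} [Fact p.Prime]

/-- `S`-conjugacy closed: the elementwise form of strong closure in a group. -/
def EltClosed (S T : Subgroup G) : Prop :=
  T ≤ S ∧ ∀ x ∈ T, ∀ g : G, g * x * g⁻¹ ∈ S → g * x * g⁻¹ ∈ T

theorem EltClosed.le_normalizer {S T : Subgroup G} (h : EltClosed S T) :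
    S ≤ Subgroup.normalizer (T : Set G) := fun s hs => mem_normalizer_of_cj_le (by
  rintro _ ⟨x, hx, rfl⟩
  exact h.2 x hx s (S.mul_mem (S.mul_mem hs (h.1 hx)) (S.inv_mem hs)))

theorem eltClosed_of_stronglyClosed (S : Sylow p G) {T : Subgroup G}
    (h : (Cfsg.groupFusionSystem (S : Subgroup G)).StronglyClosed T) : EltClosed (S : Subgroup G) T := by
  refine ⟨h.1, fun x hx g hg => ?_⟩
  have hle : Subgroup.zpowers x ≤ T := Subgroup.zpowers_le.2 hx
  have hm := mem_groupHom S (g := g) (hle.trans h.1) (fun y hy => by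
    have : Subgroup.zpowers x ≤ (S : Subgroup G).comap (MulAut.conj g).toMonoidHom :=
      Subgroup.zpowers_le.2 hg
    exact this hy)
  exact h.2 _ hle _ hm ⟨x, Subgroup.mem_zpowers x⟩

/-- Elements of `N_G(S)` in `O^{p'}(N_G(R))` for a p-centric `R` normalized by `S`. -/
def radGens (p : ℕ) (S : Subgroup G) : Set G :=
  {g | g ∈ Subgroup.normalizer (S : Set G) ∧ ∃ R : Subgroup G, PCentric p S R ∧
    S ≤ Subgroup.normalizer (R : Set G) ∧
    g ∈ Subgroup.closure {u : G | u ∈ Subgroup.normalizer (R : Set G) ∧ ∃ k : ℕ, orderOf u = p ^ k}}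

theorem radGens_subset_localGens (S : Sylow p G) : radGens p (S : Subgroup G) ⊆ localGens S := by
  rintro g ⟨hg, R, hR, hSR, hgR⟩
  refine ⟨hg, R, ⟨hR.1, fun Q _ => ?_⟩, ⟨hR.1, fun Q hQ => ?_⟩, hgR⟩
  · refine le_trans (Subgroup.card_le_of_le (inf_le_left : _ ≤ (S : Subgroup G))) ?_
    exact Subgroup.card_le_of_le (le_inf le_rfl hSR)
  · obtain ⟨φ, ⟨-, hφS, a, ha⟩, rfl⟩ := hQ
    obtain rfl := conjHom_eq ha
    rw [range_conjHom]
    have hle : cj a R ≤ (S : Subgroup G) := by
      rintro _ ⟨x, hx, rfl⟩; exact hφS ⟨x, hx⟩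
    intro m hm
    obtain ⟨k, hk⟩ := S.isPGroup' ⟨m, hm.1⟩
    exact (hR.conj hle).2 m hm.2 ⟨k, by simpa using congrArg Subtype.val hk⟩

/-- A normal subgroup of `S` containing its centralizer in `S` is p-centric. -/
theorem pCentric_of_normal (S : Sylow p G) {R : Subgroup G} (hR : R ≤ (S : Subgroup G))
    (hn : (S : Subgroup G) ≤ Subgroup.normalizer (R : Set G))
    (hc : (S : Subgroup G) ⊓ Subgroup.centralizer (R : Set G) ≤ R) : PCentric p (S : Subgroup G) R := by
  refine ⟨hR, fun m hm ⟨k, hk⟩ => ?_⟩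
  set N := Subgroup.normalizer (R : Set G) with hN
  have hmN : m ∈ N := mem_normalizer_of_cj_le (by
    rintro _ ⟨x, hx, rfl⟩
    show m * x * m⁻¹ ∈ R
    rw [← hm x hx, mul_inv_cancel_right]; exact hx)
  have hz : IsPGroup p (Subgroup.zpowers (⟨m, hmN⟩ : N)) := by
    rintro ⟨x, i, rfl⟩
    refine ⟨k, Subtype.ext (Subtype.ext ?_)⟩
    show (m ^ i) ^ p ^ k = 1
    rw [← zpow_natCast, ← zpow_mul, mul_comm, zpow_mul, zpow_natCast, hk, one_zpow]
  obtain ⟨W, hW⟩ := hz.exists_le_sylow
  obtain ⟨h, hh⟩ := MulAction.exists_smul_eq N W (S.subtype hn)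
  have h1 : h * ⟨m, hmN⟩ * h⁻¹ ∈ (S.subtype hn : Subgroup N) := by
    rw [← hh]; exact ⟨_, hW (Subgroup.mem_zpowers _), rfl⟩
  have h2 : (h : G) * m * (h : G)⁻¹ ∈ R := hc ⟨h1, fun y hy => by
    have hy' : (h : G)⁻¹ * y * (h : G) ∈ R := (Subgroup.mem_normalizer_iff''.1 h.2 y).1 hy
    calc y * ((h : G) * m * (h : G)⁻¹) = (h : G) * ((h : G)⁻¹ * y * (h : G) * m) * (h : G)⁻¹ := by group
      _ = (h : G) * (m * ((h : G)⁻¹ * y * (h : G))) * (h : G)⁻¹ := by rw [hm _ hy']
      _ = _ := by group⟩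
  exact (Subgroup.mem_normalizer_iff.1 h.2 m).2 h2

/-- Simplicity from data on any one Sylow subgroup `S₀`. -/
theorem isSimple_of_data (S₀ : Sylow p G) (hne : (S₀ : Subgroup G) ≠ ⊥)
    (hsc : ∀ T : Subgroup G, EltClosed (S₀ : Subgroup G) T → T = ⊥ ∨ T = (S₀ : Subgroup G))
    (hgen : Subgroup.normalizer ((S₀ : Subgroup G) : Set G) ≤ (S₀ : Subgroup G) ⊔
      Subgroup.centralizer ((S₀ : Subgroup G) : Set G) ⊔ Subgroup.closure (radGens p (S₀ : Subgroup G)))
    (S : Sylow p G) : (Cfsg.groupFusionSystem (S : Subgroup G)).IsSimple p := by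
  obtain ⟨a, ha⟩ := MulAction.exists_smul_eq G S₀ S
  have hS : (S : Subgroup G) = cj a (S₀ : Subgroup G) := by rw [← ha]; rfl
  refine isSimple_of_localGens (groupFusionSystem_isSaturated S) ?_ (fun T hT => ?_) ?_
  · rw [hS, Ne, Subgroup.map_eq_bot_iff_of_injective _ (MulAut.conj a).injective]; exact hne
  · obtain ⟨hTS, hcl⟩ := eltClosed_of_stronglyClosed S hT
    have h0 : EltClosed (S₀ : Subgroup G) (cj a⁻¹ T) := by
      refine ⟨?_, ?_⟩
      · intro y hy
        have := hTS (mem_cj.1 hy)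
        rw [hS, mem_cj] at this
        simpa [mul_assoc] using this
      · intro x hx g hg
        have hx' : a * x * a⁻¹ ∈ T := by simpa using mem_cj.1 hx
        have hg' : (a * g * a⁻¹) * (a * x * a⁻¹) * (a * g * a⁻¹)⁻¹ ∈ (S : Subgroup G) := by
          rw [hS, mem_cj]; simpa [mul_assoc] using hg
        have := hcl _ hx' _ hg'
        rw [mem_cj]; simpa [mul_assoc] using this
    rcases hsc _ h0 with h | h
    · left
      exact (Subgroup.map_eq_bot_iff_of_injective _ (MulAut.conj a⁻¹).injective).1 h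
    · right
      rw [hS, ← h, cj_cj, mul_inv_cancel, cj_eq_of_mem_normalizer (Subgroup.one_mem _)]
  · intro g hg
    have hg0 : a⁻¹ * g * a ∈ Subgroup.normalizer ((S₀ : Subgroup G) : Set G) := by
      refine mem_normalizer_of_cj_eq ?_
      rw [← cj_cj, ← cj_cj, ← hS, cj_eq_of_mem_normalizer hg, hS, cj_cj, inv_mul_cancel,
        cj_eq_of_mem_normalizer (Subgroup.one_mem _)]
    suffices key : (S₀ : Subgroup G) ⊔ Subgroup.centralizer ((S₀ : Subgroup G) : Set G) ⊔
        Subgroup.closure (radGens p (S₀ : Subgroup G)) ≤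
        ((S : Subgroup G) ⊔ Subgroup.centralizer ((S : Subgroup G) : Set G) ⊔
          Subgroup.closure (localGens S)).comap (MulAut.conj a).toMonoidHom by
      have := key (hgen hg0)
      simpa [mul_assoc] using this
    refine sup_le (sup_le ?_ ?_) ((Subgroup.closure_le _).2 ?_)
    · intro x hx
      exact Subgroup.mem_sup_left (Subgroup.mem_sup_left (hS ▸ conj_mem_cj hx))
    · intro c hc
      refine Subgroup.mem_sup_left (Subgroup.mem_sup_right ?_)
      intro y hy
      rw [hS] at hy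
      obtain ⟨x, hx, rfl⟩ := hy
      have := hc x hx
      show a * x * a⁻¹ * (a * c * a⁻¹) = a * c * a⁻¹ * (a * x * a⁻¹)
      calc a * x * a⁻¹ * (a * c * a⁻¹) = a * (x * c) * a⁻¹ := by group
        _ = a * (c * x) * a⁻¹ := by rw [this]
        _ = _ := by group
    · rintro u ⟨hu, R, hR, hSR, huR⟩
      refine Subgroup.mem_sup_right (Subgroup.subset_closure (radGens_subset_localGens S ?_))
      have hconj : ∀ {M : Subgroup G} {v : G}, v ∈ Subgroup.normalizer (M : Set G) →
          a * v * a⁻¹ ∈ Subgroup.normalizer ((cj a M : Subgroup G) : Set G) := fun {M v} hv =>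
        mem_normalizer_of_cj_eq (by
          rw [cj_cj, show a * v * a⁻¹ * a = a * v by group, ← cj_cj, cj_eq_of_mem_normalizer hv])
      refine ⟨hS ▸ hconj hu, cj a R, ?_, ?_, ?_⟩
      · have hle : cj a R ≤ (S : Subgroup G) := hS ▸ Subgroup.map_mono hR.1
        refine ⟨hle, fun m hm ⟨k, hk⟩ => mem_cj.2 (hR.2 _ ?_ ⟨k, ?_⟩)⟩
        · intro x hx
          have := hm _ (conj_mem_cj (g := a) hx)
          calc x * (a⁻¹ * m * a) = a⁻¹ * (a * x * a⁻¹ * m) * a := by group
            _ = a⁻¹ * (m * (a * x * a⁻¹)) * a := by rw [this]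
            _ = _ := by group
        · rw [show (a⁻¹ * m * a) ^ p ^ k = a⁻¹ * m ^ p ^ k * a by
            simpa using (conj_pow (a := a⁻¹) (b := m) (i := p ^ k)), hk]
          group
      · rw [hS]
        rintro _ ⟨x, hx, rfl⟩
        exact hconj (hSR hx)
      · have : Subgroup.closure {u : G | u ∈ Subgroup.normalizer (R : Set G) ∧ ∃ k : ℕ, orderOf u = p ^ k} ≤
            (Subgroup.closure {u : G | u ∈ Subgroup.normalizer ((cj a R : Subgroup G) : Set G) ∧
              ∃ k : ℕ, orderOf u = p ^ k}).comap (MulAut.conj a).toMonoidHom := by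
          refine (Subgroup.closure_le _).2 ?_
          rintro v ⟨hv, k, hk⟩
          refine Subgroup.subset_closure ⟨hconj hv, k, ?_⟩
          rw [← hk]
          exact MulEquiv.orderOf_eq (MulAut.conj a) v
        exact this huR

end Cfsg.Agent.GroupSub
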