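import Cfsg.Agent.GroupSub.TwoGroupInv

/-!
An explicit Sylow 2-subgroup of GL(2, F), for a finite field F of odd order: the 2-power torsion of the
centraliser of `J = !![0, -1; 1, 0]`, extended by `diag(1, -1)`.
-/

set_option autoImplicit false

namespace Cfsg.Agent.GroupSub.GL2Two

open Matrix

variable {F : Type*} [Field F]

local notation "G2" => GL (Fin 2) F

local notation:1024 "↥ₘ" A:1024 => ((A : GL (Fin 2) F) : Matrix (Fin 2) (Fin 2) F)

variable (F) in
/-- The element `!![0, -1; 1, 0]`. -/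
noncomputable def J : G2 := Matrix.GeneralLinearGroup.mkOfDetNeZero !![0, -1; 1, 0] (by simp)

variable (F) in
/-- The element `diag(1, -1)`. -/
noncomputable def eM : G2 := Matrix.GeneralLinearGroup.mkOfDetNeZero !![1, 0; 0, -1] (by simp)

@[simp] theorem coe_J : ↥ₘ(J F) = !![0, -1; 1, 0] := rfl

@[simp] theorem coe_eM : ↥ₘ(eM F) = !![1, 0; 0, -1] := rfl

theorem det_ne (g : G2) : (↥ₘ g) 0 0 * (↥ₘ g) 1 1 - (↥ₘ g) 0 1 * (↥ₘ g) 1 0 ≠ 0 := by
  rw [← det_fin_two]
  exact g.det_ne_zero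

variable (F) in
theorem eM_sq : eM F * eM F = 1 := by
  refine Units.ext ?_
  ext a b; fin_cases a <;> fin_cases b <;> simp [Matrix.mul_apply, Matrix.vecMul, dotProduct, Fin.sum_univ_two]

variable (F) in
theorem eM_inv : (eM F)⁻¹ = eM F := inv_eq_of_mul_eq_one_right (eM_sq F)

variable (F) in
/-- The centraliser of `J`. -/
abbrev cJ : Subgroup G2 := Subgroup.centralizer {J F}

theorem mem_cJ {g : G2} : g ∈ cJ F ↔ (↥ₘ g) 1 1 = (↥ₘ g) 0 0 ∧ (↥ₘ g) 0 1 = -(↥ₘ g) 1 0 := by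
  rw [Subgroup.mem_centralizer_singleton_iff]
  constructor
  · intro h
    have h00 := congrArg (fun A : G2 => (↥ₘ A) 0 0) h
    have h10 := congrArg (fun A : G2 => (↥ₘ A) 1 0) h
    simp [Matrix.mul_apply, Matrix.vecMul, dotProduct, Fin.sum_univ_two] at h00 h10
    exact ⟨by linear_combination h10, by linear_combination h00⟩
  · rintro ⟨h1, h2⟩
    refine Units.ext ?_
    ext a b
    fin_cases a <;> fin_cases b <;> simp [Matrix.mul_apply, Matrix.vecMul, dotProduct, Fin.sum_univ_two, h1, h2]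

theorem cJ_comm {g h : G2} (hg : g ∈ cJ F) (hh : h ∈ cJ F) : g * h = h * g := by
  obtain ⟨g1, g2⟩ := mem_cJ.1 hg
  obtain ⟨h1, h2⟩ := mem_cJ.1 hh
  refine Units.ext ?_
  ext a b
  fin_cases a <;> fin_cases b <;> simp [Matrix.mul_apply, Matrix.vecMul, dotProduct, Fin.sum_univ_two, g1, g2, h1, h2] <;> ring

theorem conj_eM_entries {k : G2} (hk : k ∈ cJ F) :
    ↥ₘ(eM F * k * eM F) = !![(↥ₘ k) 0 0, (↥ₘ k) 1 0; -(↥ₘ k) 1 0, (↥ₘ k) 0 0] := by
  obtain ⟨k1, k2⟩ := mem_cJ.1 hk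
  ext a b
  fin_cases a <;> fin_cases b <;> simp [Matrix.mul_apply, Matrix.vecMul, dotProduct, Fin.sum_univ_two, k1, k2]

theorem conj_eM_mem {k : G2} (hk : k ∈ cJ F) : eM F * k * eM F ∈ cJ F :=
  mem_cJ.2 (by simp [conj_eM_entries hk])

theorem conj_eM_mul {k : G2} (hk : k ∈ cJ F) :
    ↥ₘ(eM F * k * eM F * k) = Matrix.scalar (Fin 2) (↥ₘ k).det := by
  obtain ⟨k1, k2⟩ := mem_cJ.1 hk
  rw [Units.val_mul, conj_eM_entries hk, det_fin_two]
  ext a b
  fin_cases a <;> fin_cases b <;> simp [Matrix.mul_apply, Matrix.vecMul, dotProduct, Fin.sum_univ_two, k1, k2] <;> ring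

theorem eM_notMem (h2 : (2 : F) ≠ 0) : eM F ∉ cJ F := fun h => by
  obtain ⟨h1, -⟩ := mem_cJ.1 h
  simp at h1
  exact h2 (by linear_combination -h1)

/-- Elements anticommuting with `J`. -/
def Anti (g : G2) : Prop := (↥ₘ g) 1 1 = -(↥ₘ g) 0 0 ∧ (↥ₘ g) 0 1 = (↥ₘ g) 1 0

theorem eM_mul_mem_of_anti {g : G2} (hg : Anti g) : eM F * g ∈ cJ F :=
  mem_cJ.2 (by obtain ⟨g1, g2⟩ := hg; simp [Matrix.mul_apply, Matrix.vecMul, dotProduct, Fin.sum_univ_two, g1, g2])

theorem conj_of_anti {g k : G2} (hg : Anti g) (hk : k ∈ cJ F) : g * k * g⁻¹ = eM F * k * eM F := by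
  have hc : eM F * g * k = k * (eM F * g) := cJ_comm (eM_mul_mem_of_anti hg) hk
  have e : g = eM F * (eM F * g) := by rw [← mul_assoc, eM_sq, one_mul]
  calc g * k * g⁻¹ = eM F * (eM F * g * k) * g⁻¹ := by
        rw [← mul_assoc (eM F), ← mul_assoc (eM F) (eM F), eM_sq, one_mul]
    _ = eM F * k * eM F := by rw [hc]; group

theorem mem_or_anti_of_comm {g : G2}
    (h : ↥ₘ(g * J F) = ↥ₘ(J F * g) ∨ ↥ₘ(g * J F) = -↥ₘ(J F * g)) : g ∈ cJ F ∨ Anti g := by
  rcases h with h | h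
  · exact Or.inl (Subgroup.mem_centralizer_singleton_iff.2 (Units.ext h))
  · right
    have h00 := congrFun (congrFun h 0) 0
    have h10 := congrFun (congrFun h 1) 0
    simp [Matrix.mul_apply, Matrix.vecMul, dotProduct, Fin.sum_univ_two] at h00 h10
    exact ⟨by linear_combination h10, by linear_combination h00⟩

variable (F) in
/-- The 2-power torsion of the centraliser of `J`. -/
noncomputable def QK : Subgroup G2 where
  carrier := {g | g ∈ cJ F ∧ ∃ m : ℕ, g ^ 2 ^ m = 1}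
  one_mem' := ⟨one_mem _, 0, one_pow _⟩
  mul_mem' := by
    rintro a b ⟨ha, m, hm⟩ ⟨hb, n, hn⟩
    refine ⟨mul_mem ha hb, m + n, ?_⟩
    rw [Commute.mul_pow (cJ_comm ha hb), pow_add, pow_mul, hm, one_pow, one_mul, mul_comm, pow_mul, hn,
      one_pow]
  inv_mem' := by
    rintro a ⟨ha, m, hm⟩
    exact ⟨inv_mem ha, m, by rw [inv_pow, hm, inv_one]⟩

theorem mem_QK {g : G2} : g ∈ QK F ↔ g ∈ cJ F ∧ ∃ m : ℕ, g ^ 2 ^ m = 1 := Iff.rfl

theorem conj_eM_QK {k : G2} (hk : k ∈ QK F) : eM F * k * eM F ∈ QK F := by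
  obtain ⟨hk, m, hm⟩ := hk
  refine ⟨conj_eM_mem hk, m, ?_⟩
  conv_lhs => arg 1; arg 2; rw [← eM_inv F]
  rw [conj_pow, hm, mul_one, mul_inv_cancel]

variable (F) in
/-- The Sylow 2-subgroup. -/
noncomputable def Qs : Subgroup G2 where
  carrier := {g | g ∈ QK F ∨ eM F * g ∈ QK F}
  one_mem' := Or.inl (one_mem _)
  mul_mem' := by
    intro a b ha hb
    rcases ha with ha | ha <;> rcases hb with hb | hb
    · exact Or.inl (mul_mem ha hb)
    · refine Or.inr ?_
      have h := mul_mem (conj_eM_QK ha) hb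
      convert h using 1
      simp only [mul_assoc]
      rw [← mul_assoc (eM F) (eM F) b, eM_sq, one_mul]
    · exact Or.inr (by rw [← mul_assoc]; exact mul_mem ha hb)
    · refine Or.inl ?_
      have h := mul_mem (conj_eM_QK ha) hb
      convert h using 1
      simp only [mul_assoc]
      rw [← mul_assoc (eM F) (eM F) b, eM_sq, one_mul, ← mul_assoc (eM F) (eM F), eM_sq, one_mul]
  inv_mem' := by
    intro a ha
    rcases ha with ha | ha
    · exact Or.inl (inv_mem ha)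
    · refine Or.inr ?_
      have h := conj_eM_QK (inv_mem ha)
      convert h using 1
      rw [_root_.mul_inv_rev, eM_inv]
      simp only [mul_assoc, eM_sq, mul_one]

theorem mem_Qs {g : G2} : g ∈ Qs F ↔ g ∈ QK F ∨ eM F * g ∈ QK F := Iff.rfl

theorem eM_mem_Qs : eM F ∈ Qs F := Or.inr (by rw [eM_sq]; exact one_mem _)

theorem J_mem_QK : J F ∈ QK F := by
  refine ⟨Subgroup.mem_centralizer_singleton_iff.2 rfl, 2, ?_⟩
  refine Units.ext ?_
  have e : (J F : G2) ^ 2 ^ 2 = J F * J F * (J F * J F) := by rw [← pow_two, ← pow_two, ← pow_mul]; norm_num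
  rw [e]
  ext a b; fin_cases a <;> fin_cases b <;> simp [Matrix.mul_apply, Matrix.vecMul, dotProduct, Fin.sum_univ_two]

theorem isPGroup_Qs : IsPGroup 2 (Qs F) := by
  rintro ⟨g, hg⟩
  have key : ∃ m : ℕ, g ^ 2 ^ m = 1 := by
    rcases hg with hg | hg
    · exact hg.2
    · obtain ⟨m, hm⟩ := (mul_mem (conj_eM_QK hg) hg).2
      refine ⟨m + 1, ?_⟩
      have e : g * g = eM F * (eM F * g) * eM F * (eM F * g) := by
        simp only [mul_assoc]
        rw [← mul_assoc (eM F) (eM F), eM_sq, one_mul, ← mul_assoc (eM F) (eM F), eM_sq, one_mul]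
      rw [pow_succ', pow_mul, pow_two, e, hm]
  obtain ⟨m, hm⟩ := key
  exact ⟨m, Subtype.ext hm⟩

/-- A matrix of determinant one with scalar square is scalar or has trace zero. -/
theorem trace_zero_or_scalar {g : G2} {c : F} (hd : (↥ₘ g).det = 1)
    (h : ↥ₘ(g * g) = Matrix.scalar (Fin 2) c) :
    (↥ₘ g) 1 1 = -(↥ₘ g) 0 0 ∨ ∃ r : F, ↥ₘ g = Matrix.scalar (Fin 2) r := by
  rw [det_fin_two] at hd
  by_cases hs : (↥ₘ g) 1 1 = -(↥ₘ g) 0 0
  · exact Or.inl hs
  have hne : (↥ₘ g) 0 0 + (↥ₘ g) 1 1 ≠ 0 := fun e => hs (eq_neg_of_add_eq_zero_right e)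
  have h00 := congrFun (congrFun h 0) 0
  have h01 := congrFun (congrFun h 0) 1
  have h10 := congrFun (congrFun h 1) 0
  have h11 := congrFun (congrFun h 1) 1
  simp [Matrix.mul_apply, Matrix.vecMul, dotProduct, Fin.sum_univ_two] at h00 h01 h10 h11
  have hb : (↥ₘ g) 0 1 = 0 := by
    have : ((↥ₘ g) 0 0 + (↥ₘ g) 1 1) * (↥ₘ g) 0 1 = 0 := by linear_combination h01
    exact (mul_eq_zero.1 this).resolve_left hne
  have hc : (↥ₘ g) 1 0 = 0 := by
    have : ((↥ₘ g) 0 0 + (↥ₘ g) 1 1) * (↥ₘ g) 1 0 = 0 := by linear_combination h10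
    exact (mul_eq_zero.1 this).resolve_left hne
  have had : (↥ₘ g) 0 0 - (↥ₘ g) 1 1 = 0 := by
    have : ((↥ₘ g) 0 0 + (↥ₘ g) 1 1) * ((↥ₘ g) 0 0 - (↥ₘ g) 1 1) = 0 := by linear_combination h00 - h11
    exact (mul_eq_zero.1 this).resolve_left hne
  refine Or.inr ⟨(↥ₘ g) 0 0, ?_⟩
  ext a b
  fin_cases a <;> fin_cases b <;> simp [hb, hc, sub_eq_zero.1 had]

/-- A trace-zero matrix of determinant one is conjugate to `J`. -/
theorem conj_J_of_trace_zero (h2 : (2 : F) ≠ 0) {g : G2} (hd : (↥ₘ g).det = 1)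
    (ht : (↥ₘ g) 1 1 = -(↥ₘ g) 0 0) : ∃ P : G2, P * J F * P⁻¹ = g := by
  rw [det_fin_two, ht] at hd
  obtain ⟨x, y, hQ⟩ : ∃ x y : F, x * ((↥ₘ g) 1 0 * x - (↥ₘ g) 0 0 * y) -
      y * ((↥ₘ g) 0 0 * x + (↥ₘ g) 0 1 * y) ≠ 0 := by
    by_cases hc : (↥ₘ g) 1 0 = 0
    · by_cases hb : (↥ₘ g) 0 1 = 0
      · refine ⟨1, 1, fun e => ?_⟩
        have ha : (↥ₘ g) 0 0 ≠ 0 := fun ha => by simp [ha, hb, hc] at hd
        exact mul_ne_zero h2 ha (by linear_combination -e + hc - hb)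
      · exact ⟨0, 1, fun e => hb (by linear_combination -e)⟩
    · exact ⟨1, 0, fun e => hc (by linear_combination e)⟩
  let P : G2 := Matrix.GeneralLinearGroup.mkOfDetNeZero
    !![x, (↥ₘ g) 0 0 * x + (↥ₘ g) 0 1 * y; y, (↥ₘ g) 1 0 * x - (↥ₘ g) 0 0 * y]
    (by rw [det_fin_two_of]; intro e; exact hQ (by linear_combination e))
  have hP : ↥ₘ P = !![x, (↥ₘ g) 0 0 * x + (↥ₘ g) 0 1 * y; y, (↥ₘ g) 1 0 * x - (↥ₘ g) 0 0 * y] := rfl
  refine ⟨P, mul_inv_eq_of_eq_mul (Units.ext ?_)⟩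
  ext a b
  fin_cases a <;> fin_cases b <;> simp [hP, Matrix.mul_apply, Matrix.vecMul, dotProduct, Fin.sum_univ_two, ht] <;>
    first
      | ring1
      | linear_combination x * hd
      | linear_combination -x * hd
      | linear_combination y * hd
      | linear_combination -y * hd

theorem mem_center_iff_scalar {g : G2} :
    g ∈ Subgroup.center G2 ↔ ∃ r : F, ↥ₘ g = Matrix.scalar (Fin 2) r := by
  constructor
  · intro h
    have h1 := congrArg (fun A : G2 => ↥ₘ A) (Subgroup.mem_center_iff.1 h (J F))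
    have h3 := congrArg (fun A : G2 => ↥ₘ A) (Subgroup.mem_center_iff.1 h (eM F))
    have a00 := congrFun (congrFun h1 0) 0
    have a10 := congrFun (congrFun h1 1) 0
    have b01 := congrFun (congrFun h3 0) 1
    have b10 := congrFun (congrFun h3 1) 0
    let u : G2 := Matrix.GeneralLinearGroup.mkOfDetNeZero !![1, 1; 0, 1] (by simp)
    have hu : ↥ₘ u = !![1, 1; 0, 1] := rfl
    have h4 := congrArg (fun A : G2 => ↥ₘ A) (Subgroup.mem_center_iff.1 h u)
    have c00 := congrFun (congrFun h4 0) 0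
    have c01 := congrFun (congrFun h4 0) 1
    simp [hu, Matrix.mul_apply, Matrix.vecMul, dotProduct, Fin.sum_univ_two] at a00 a10 c00 c01
    refine ⟨(↥ₘ g) 0 0, ?_⟩
    ext a b
    fin_cases a <;> fin_cases b <;> simp <;>
      first
        | linear_combination c00
        | linear_combination -a00 - c00
        | linear_combination -a00 + c00
        | linear_combination -a10
        | linear_combination a10
  · rintro ⟨r, hr⟩
    rw [Subgroup.mem_center_iff]
    intro x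
    refine Units.ext ?_
    show ↥ₘ x * ↥ₘ g = ↥ₘ g * ↥ₘ x
    rw [hr]
    exact (Matrix.scalar_commute r (fun r' => Commute.all r r') (↥ₘ x)).symm

theorem exists_sylow_normalizing_J [Fintype F] (h2 : (2 : F) ≠ 0) :
    ∃ Q : Sylow 2 G2, ∀ s ∈ (Q : Subgroup G2), s ∈ cJ F ∨ Anti s := by
  haveI : Fact (Nat.Prime 2) := ⟨Nat.prime_two⟩
  obtain ⟨m, hm⟩ := (J_mem_QK (F := F)).2
  obtain ⟨Q₀, hQ₀⟩ := (isPGroup_zpowers_of_pow hm).exists_le_sylow
  set f := QuotientGroup.mk' (Subgroup.center G2)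
  set V := (Q₀ : Subgroup G2) ⊓ (Matrix.GeneralLinearGroup.det (n := Fin 2) (R := F)).ker with hV
  set R := (Q₀ : Subgroup G2).map f with hR
  set N := (V.map f).subgroupOf R with hN
  have hVR : V.map f ≤ R := Subgroup.map_mono inf_le_left
  haveI hNn : N.Normal := by
    refine Subgroup.normal_subgroupOf_of_le_normalizer ?_
    rintro _ ⟨q, hq, rfl⟩
    refine mem_normalizer_of_cj_le ?_
    rintro _ ⟨_, ⟨v, hv, rfl⟩, rfl⟩
    refine ⟨q * v * q⁻¹, ⟨Subgroup.mul_mem _ (Subgroup.mul_mem _ hq hv.1) (Subgroup.inv_mem _ hq), ?_⟩,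
      by simp [MulAut.conj_apply]⟩
    show Matrix.GeneralLinearGroup.det (q * v * q⁻¹) = 1
    rw [map_mul, map_mul, MonoidHom.mem_ker.1 hv.2, mul_one, map_inv, mul_inv_cancel]
  have hNne : N ≠ ⊥ := by
    intro h
    have hJV : J F ∈ V := ⟨hQ₀ (Subgroup.mem_zpowers _), by
      show Matrix.GeneralLinearGroup.det (J F) = 1
      refine Units.ext ?_
      simp [Matrix.GeneralLinearGroup.det]⟩
    have hJN : (⟨f (J F), hVR ⟨_, hJV, rfl⟩⟩ : R) ∈ N := ⟨_, hJV, rfl⟩
    rw [h, Subgroup.mem_bot] at hJN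
    obtain ⟨r, hr⟩ := mem_center_iff_scalar.1 ((QuotientGroup.eq_one_iff _).1 (congrArg Subtype.val hJN))
    have := congrFun (congrFun hr 1) 0
    simp at this
  haveI : Group.IsNilpotent R := (Q₀.isPGroup'.map f).isNilpotent
  have hC := Core.inf_center_ne_bot hNne
  haveI := (Subgroup.nontrivial_iff_ne_bot _).2 hC
  obtain ⟨k, hk⟩ := IsPGroup.iff_card.1 ((Q₀.isPGroup'.map f).to_subgroup (N ⊓ Subgroup.center R))
  have hdvd : 2 ∣ Nat.card (N ⊓ Subgroup.center R : Subgroup R) := by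
    rcases k with _ | k
    · rw [pow_zero] at hk; exact absurd hk Finite.one_lt_card.ne'
    · exact hk ▸ dvd_pow_self 2 k.succ_ne_zero
  obtain ⟨⟨⟨y, hy⟩, hyNC⟩, hord⟩ := exists_prime_orderOf_dvd_card' 2 hdvd
  rw [Subgroup.orderOf_mk, Subgroup.orderOf_mk] at hord
  obtain ⟨hyN, hyC⟩ := hyNC
  obtain ⟨x, hxV, rfl⟩ := hyN
  have hfx : f x ≠ 1 := fun e => by
    rw [show orderOf (f x) = 1 from orderOf_eq_one_iff.2 e] at hord
    omega
  have hfxx : f (x * x) = 1 := by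
    have h := pow_orderOf_eq_one (f x)
    rw [hord] at h
    rw [map_mul, ← pow_two]
    exact h
  obtain ⟨c, hc⟩ := mem_center_iff_scalar.1 ((QuotientGroup.eq_one_iff _).1 hfxx)
  have hdetx : (↥ₘ x).det = 1 := congrArg Units.val (MonoidHom.mem_ker.1 hxV.2)
  have htr : (↥ₘ x) 1 1 = -(↥ₘ x) 0 0 := (trace_zero_or_scalar hdetx hc).resolve_right
    (fun h => hfx ((QuotientGroup.eq_one_iff _).2 (mem_center_iff_scalar.2 h)))
  obtain ⟨P, hP⟩ := conj_J_of_trace_zero h2 hdetx htr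
  refine ⟨P⁻¹ • Q₀, fun s hs => ?_⟩
  have hs' : P * s * P⁻¹ ∈ (Q₀ : Subgroup G2) := by
    have h : s ∈ cj P⁻¹ (Q₀ : Subgroup G2) := hs
    rw [mem_cj] at h
    simpa [mul_assoc] using h
  have hcomm : f (P * s * P⁻¹) * f x = f x * f (P * s * P⁻¹) :=
    congrArg Subtype.val (Subgroup.mem_center_iff.1 hyC ⟨_, _, hs', rfl⟩)
  have hcen : (J F * s)⁻¹ * (s * J F) ∈ Subgroup.center G2 := by
    rw [← QuotientGroup.eq_one_iff]
    show f _ = 1
    rw [map_mul, map_inv, map_mul, map_mul, inv_mul_eq_one]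
    have e1 : f x = f P * f (J F) * (f P)⁻¹ := by rw [← map_inv, ← map_mul, ← map_mul, hP]
    rw [map_mul, map_mul, map_inv, e1] at hcomm
    have e2 : f P * (f s * f (J F)) * (f P)⁻¹ = f P * (f (J F) * f s) * (f P)⁻¹ := by
      calc f P * (f s * f (J F)) * (f P)⁻¹ = f P * f s * (f P)⁻¹ * (f P * f (J F) * (f P)⁻¹) := by group
        _ = f P * f (J F) * (f P)⁻¹ * (f P * f s * (f P)⁻¹) := hcomm
        _ = f P * (f (J F) * f s) * (f P)⁻¹ := by group
    exact (mul_left_cancel (mul_right_cancel e2)).symm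
  obtain ⟨r, hr⟩ := mem_center_iff_scalar.1 hcen
  have hmul : ↥ₘ(s * J F) = r • ↥ₘ(J F * s) := by
    have : s * J F = J F * s * ((J F * s)⁻¹ * (s * J F)) := by group
    rw [this, Units.val_mul, hr, Matrix.scalar_apply, ← Matrix.smul_one_eq_diagonal,
      Matrix.mul_smul, Matrix.mul_one]
  have hdet := congrArg Matrix.det hmul
  rw [Matrix.det_smul, Units.val_mul, Units.val_mul, Matrix.det_mul, Matrix.det_mul, Fintype.card_fin] at hdet
  have hr2 : r ^ 2 = 1 := by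
    have h0 : (↥ₘ(J F)).det * (↥ₘ s).det ≠ 0 := mul_ne_zero (J F).det_ne_zero s.det_ne_zero
    have : (r ^ 2 - 1) * ((↥ₘ(J F)).det * (↥ₘ s).det) = 0 := by linear_combination -hdet
    exact sub_eq_zero.1 ((mul_eq_zero.1 this).resolve_right h0)
  refine mem_or_anti_of_comm ?_
  rcases sq_eq_one_iff.1 hr2 with rfl | rfl
  · left; rw [hmul, one_smul]
  · right; rw [hmul, neg_one_smul]

theorem exists_sylow_eq_Qs [Fintype F] (h2 : (2 : F) ≠ 0) :
    ∃ S : Sylow 2 G2, (S : Subgroup G2) = Qs F := by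
  classical
  haveI : Fact (Nat.Prime 2) := ⟨Nat.prime_two⟩
  obtain ⟨Q, hQ⟩ := exists_sylow_normalizing_J h2
  obtain ⟨S, hS⟩ := (isPGroup_Qs (F := F)).exists_le_sylow
  refine ⟨S, (Subgroup.eq_of_le_of_card_ge hS ?_).symm⟩
  rw [show Nat.card (S : Subgroup G2) = Nat.card (Q : Subgroup G2) from
    Nat.card_congr (Sylow.equiv S Q).toEquiv]
  have htor : ∀ q ∈ (Q : Subgroup G2), ∃ m : ℕ, q ^ 2 ^ m = 1 := fun q hq => by
    obtain ⟨m, hm⟩ := Q.isPGroup' ⟨q, hq⟩
    exact ⟨m, congrArg Subtype.val hm⟩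
  by_cases hall : ∀ q ∈ (Q : Subgroup G2), q ∈ cJ F
  · exact Subgroup.card_le_of_le fun q hq => Or.inl ⟨hall q hq, htor q hq⟩
  push Not at hall
  obtain ⟨w, hw, hwK⟩ := hall
  have hwA : Anti w := (hQ w hw).resolve_left hwK
  have hmul : ∀ q ∈ (Q : Subgroup G2), q ∉ cJ F → w⁻¹ * q ∈ QK F := by
    intro q hq hqK
    refine ⟨?_, htor _ (mul_mem (inv_mem hw) hq)⟩
    have h := mul_mem (inv_mem (eM_mul_mem_of_anti hwA)) (eM_mul_mem_of_anti ((hQ q hq).resolve_left hqK))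
    convert h using 1
    group
  refine Nat.card_le_card_of_injective (β := Qs F)
    (fun q => if h : (q : G2) ∈ cJ F then ⟨q, Or.inl ⟨h, htor _ q.2⟩⟩
      else ⟨eM F * (w⁻¹ * q), Or.inr (by rw [← mul_assoc, eM_sq, one_mul]; exact hmul _ q.2 h)⟩) ?_
  rintro ⟨q, hq⟩ ⟨q', hq'⟩ h
  have hne : ∀ a b : G2, a ∈ cJ F → b ∈ QK F → a ≠ eM F * b := fun a b ha hb e => by
    have hm := mul_mem ha (inv_mem hb.1)
    rw [e, mul_inv_cancel_right] at hm
    exact eM_notMem h2 hm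
  by_cases hk : q ∈ cJ F <;> by_cases hk' : q' ∈ cJ F
  · simp only [dif_pos hk, dif_pos hk'] at h
    have h := congrArg Subtype.val h
    exact Subtype.ext h
  · simp only [dif_pos hk, dif_neg hk'] at h
    have h := congrArg Subtype.val h
    exact absurd h (hne _ _ hk (hmul q' hq' hk'))
  · simp only [dif_neg hk, dif_pos hk'] at h
    have h := congrArg Subtype.val h
    exact absurd h.symm (hne _ _ hk' (hmul q hq hk))
  · simp only [dif_neg hk, dif_neg hk'] at h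
    have h := mul_left_cancel (mul_left_cancel (congrArg Subtype.val h))
    exact Subtype.ext h

/-- An element of `QK` with both coordinates nonzero. -/
theorem exists_generic [Finite F] (h2 : (2 : F) ≠ 0) :
    ∃ t ∈ QK F, (↥ₘ t) 0 0 ≠ 0 ∧ (↥ₘ t) 1 0 ≠ 0 := by
  haveI : Fact (Nat.Prime 2) := ⟨Nat.prime_two⟩
  let t₀ : G2 := Matrix.GeneralLinearGroup.mkOfDetNeZero !![1, -1; 1, 1]
    (by rw [det_fin_two_of]; intro e; exact h2 (by linear_combination e))
  have ht₀ : ↥ₘ t₀ = !![1, -1; 1, 1] := rfl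
  obtain ⟨v, m, hm, hn⟩ := Nat.exists_eq_pow_mul_and_not_dvd (orderOf_pos t₀).ne' 2 (by norm_num)
  obtain ⟨j, hj⟩ : ∃ j, m = 2 * j + 1 := ⟨m / 2, by omega⟩
  have hK : t₀ ∈ cJ F := mem_cJ.2 (by simp [ht₀])
  have hind : ∀ j : ℕ, (↥ₘ(t₀ ^ (2 * j + 1))) 0 0 ≠ 0 ∧
      (↥ₘ(t₀ ^ (2 * j + 1))) 1 0 ^ 2 = (↥ₘ(t₀ ^ (2 * j + 1))) 0 0 ^ 2 := by
    intro j
    induction j with
    | zero => simp [ht₀]
    | succ j ih =>
      have e : t₀ ^ (2 * (j + 1) + 1) = t₀ * t₀ * t₀ ^ (2 * j + 1) := by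
        rw [← pow_two, ← pow_add]; congr 1; omega
      obtain ⟨k1, k2⟩ := mem_cJ.1 (pow_mem hK (2 * j + 1))
      rw [e]
      simp only [Units.val_mul, Matrix.mul_apply, Fin.sum_univ_two, ht₀]
      norm_num
      obtain ⟨ha, hb⟩ := ih
      simp only [Units.val_pow_eq_pow_val] at ha hb
      refine ⟨⟨h2, fun e => ?_⟩, ?_⟩
      · rw [e] at hb
        exact ha (eq_zero_of_pow_eq_zero (hb.symm.trans (by ring)))
      · linear_combination (-4) * hb
  refine ⟨t₀ ^ m, ⟨pow_mem hK m, v, ?_⟩, ?_⟩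
  · rw [← pow_mul, mul_comm, ← hn, pow_orderOf_eq_one]
  · rw [hj]
    obtain ⟨h1, h3⟩ := hind j
    refine ⟨h1, fun e => h1 ?_⟩
    rw [e] at h3
    exact eq_zero_of_pow_eq_zero (h3.symm.trans (by ring))

theorem scalar_of_comm (h2 : (2 : F) ≠ 0) {x : G2} (hJ : x * J F = J F * x)
    (he : x * eM F = eM F * x) : ∃ r : F, ↥ₘ x = Matrix.scalar (Fin 2) r := by
  obtain ⟨x1, x2⟩ := mem_cJ.1 (Subgroup.mem_centralizer_singleton_iff.2 hJ)
  have h10 := congrArg (fun A : G2 => (↥ₘ A) 1 0) he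
  simp [Matrix.mul_apply, Matrix.vecMul, dotProduct, Fin.sum_univ_two] at h10
  have hb : (↥ₘ x) 1 0 = 0 := by
    have e : (2 : F) * (↥ₘ x) 1 0 = 0 := by linear_combination h10
    exact (mul_eq_zero.1 e).resolve_left h2
  refine ⟨(↥ₘ x) 0 0, ?_⟩
  ext a b
  fin_cases a <;> fin_cases b <;> simp [x1, x2, hb]

/-- The normaliser of `Qs` is `Qs` times scalars. -/
theorem normalizer_Qs [Fintype F] (h2 : (2 : F) ≠ 0) :
    Subgroup.normalizer (Qs F : Set G2) ≤ Qs F ⊔ Subgroup.center G2 := by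
  haveI : Fact (Nat.Prime 2) := ⟨Nat.prime_two⟩
  obtain ⟨t, ht, ha, hb⟩ := exists_generic (F := F) h2
  have hJmem : J F ∈ Qs F := Or.inl J_mem_QK
  intro A hA
  set x := A * J F * A⁻¹ with hx
  have hxQ : x ∈ Qs F := (Subgroup.mem_normalizer_iff.1 hA _).1 hJmem
  have hxJ : ↥ₘ x = ↥ₘ(J F) ∨ ↥ₘ x = -↥ₘ(J F) := by
    have hdet : (↥ₘ x).det = 1 := by
      rw [hx, Units.val_mul, Units.val_mul, Matrix.det_mul, Matrix.det_mul, coe_J]
      simp only [det_fin_two_of]
      rw [show (0 : F) * 0 - -1 * 1 = 1 by ring, mul_one, ← Matrix.det_mul, ← Units.val_mul,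
        mul_inv_cancel]
      simp
    have hsq : ↥ₘ(x * x) = -1 := by
      rw [show x * x = A * (J F * J F) * A⁻¹ by rw [hx]; group, Units.val_mul, Units.val_mul,
        show ↥ₘ(J F * J F) = -1 by ext a b; fin_cases a <;> fin_cases b <;>
          simp [Matrix.mul_apply, Matrix.vecMul, dotProduct, Fin.sum_univ_two],
        mul_neg, mul_one, neg_mul, ← Units.val_mul, mul_inv_cancel, Units.val_one]
    rcases hxQ with hxK | hxK
    · obtain ⟨x1, x2⟩ := mem_cJ.1 hxK.1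
      have h00 := congrFun (congrFun hsq 0) 0
      rw [det_fin_two] at hdet
      simp [Matrix.mul_apply, Matrix.vecMul, dotProduct, Fin.sum_univ_two, x2] at h00
      rw [x1, x2] at hdet
      have hA0 : (↥ₘ x) 0 0 = 0 := by
        have e : (2 : F) * (↥ₘ x) 0 0 ^ 2 = 0 := by linear_combination hdet + h00
        exact eq_zero_of_pow_eq_zero ((mul_eq_zero.1 e).resolve_left h2)
      have hB : (↥ₘ x) 1 0 ^ 2 = 1 := by rw [hA0] at hdet; linear_combination hdet
      rcases sq_eq_one_iff.1 hB with hB | hB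
      · left; ext a b; fin_cases a <;> fin_cases b <;> simp [x1, x2, hA0, hB]
      · right; ext a b; fin_cases a <;> fin_cases b <;> simp [x1, x2, hA0, hB]
    · exfalso
      obtain ⟨x1, x2⟩ := mem_cJ.1 hxK.1
      have hanti : Anti x := by
        simp [Matrix.mul_apply, Matrix.vecMul, dotProduct, Fin.sum_univ_two] at x1 x2
        exact ⟨by linear_combination -x1, by linear_combination x2⟩
      have h1 : x * t * x⁻¹ = eM F * t * eM F := conj_of_anti hanti ht.1
      set u := A⁻¹ * t * A with hu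
      have huQ : u ∈ Qs F := by
        have := (Subgroup.mem_normalizer_iff.1 (inv_mem hA) t).1 (Or.inl ht)
        simpa [hu] using this
      have hJu : ↥ₘ(J F * u * (J F)⁻¹) = ↥ₘ u ∨ ↥ₘ(J F * u * (J F)⁻¹) = -↥ₘ u := by
        rcases huQ with hq | hq
        · left; rw [cJ_comm (Subgroup.mem_centralizer_singleton_iff.2 rfl) hq.1, mul_inv_cancel_right]
        · right
          obtain ⟨u1, u2⟩ := mem_cJ.1 hq.1
          simp [Matrix.mul_apply, Matrix.vecMul, dotProduct, Fin.sum_univ_two] at u1 u2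
          have e : ↥ₘ(J F * u) = -↥ₘ(u * J F) := by
            ext a b
            fin_cases a <;> fin_cases b <;> simp [Matrix.mul_apply, Matrix.vecMul, dotProduct, Fin.sum_univ_two] <;>
              first
                | linear_combination u1
                | linear_combination -u1
                | linear_combination u2
                | linear_combination -u2
          rw [Units.val_mul, e, neg_mul, ← Units.val_mul, mul_inv_cancel_right]
      have h3 : x * t * x⁻¹ = A * (J F * u * (J F)⁻¹) * A⁻¹ := by rw [hx, hu]; group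
      have h5 : A * u * A⁻¹ = t := by rw [hu]; group
      have h4 : ↥ₘ(eM F * t * eM F) = ↥ₘ t ∨ ↥ₘ(eM F * t * eM F) = -↥ₘ t := by
        rw [← h1, h3]
        rcases hJu with e | e
        · left; rw [Units.val_mul, Units.val_mul, e, ← Units.val_mul, ← Units.val_mul, h5]
        · right
          rw [Units.val_mul, Units.val_mul, e, mul_neg, neg_mul, ← Units.val_mul, ← Units.val_mul, h5]
      rw [conj_eM_entries ht.1] at h4
      rcases h4 with e | e
      · have := congrFun (congrFun e 1) 0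
        simp at this
        exact hb ((mul_eq_zero.1 (show (2 : F) * (↥ₘ t) 1 0 = 0 by linear_combination -this)).resolve_left h2)
      · have := congrFun (congrFun e 0) 0
        simp at this
        exact ha ((mul_eq_zero.1 (show (2 : F) * (↥ₘ t) 0 0 = 0 by linear_combination this)).resolve_left h2)
  have hAJ : A ∈ cJ F ∨ Anti A := by
    refine mem_or_anti_of_comm ?_
    have e : A * J F = x * A := by rw [hx, inv_mul_cancel_right]
    rcases hxJ with h | h
    · left; rw [e, Units.val_mul, h, ← Units.val_mul]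
    · right; rw [e, Units.val_mul, h, neg_mul, ← Units.val_mul]
  have key : ∀ k ∈ cJ F, k ∈ Subgroup.normalizer (Qs F : Set G2) → k ∈ Qs F ⊔ Subgroup.center G2 := by
    intro k hk hkN
    obtain ⟨z, w, hzw, hz, hw, -, ⟨i, hzi⟩, r, hr, hwr⟩ := exists_parts 2 k
    have hwK := Subgroup.zpowers_le.2 hk hw
    have hwN := Subgroup.zpowers_le.2 hkN hw
    have hm := (Subgroup.mem_normalizer_iff.1 hwN _).1 (eM_mem_Qs (F := F))
    have hu : eM F * w * eM F * w⁻¹ ∈ QK F := by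
      have hmem : eM F * (w * eM F * w⁻¹) ∈ cJ F := by
        rw [show eM F * (w * eM F * w⁻¹) = eM F * w * eM F * w⁻¹ by group]
        exact mul_mem (conj_eM_mem hwK) (inv_mem hwK)
      rcases mem_Qs.1 ((Qs F).mul_mem eM_mem_Qs hm) with h | h
      · simpa [mul_assoc] using h
      · exfalso
        refine eM_notMem h2 ?_
        have := mul_mem h.1 (inv_mem hmem)
        rwa [mul_inv_cancel_right] at this
    obtain ⟨n, hn⟩ := hu.2
    have hcomm : Commute (eM F * w * eM F) w⁻¹ := cJ_comm (conj_eM_mem hwK) (inv_mem hwK)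
    have hur : (eM F * w * eM F * w⁻¹) ^ r = 1 := by
      rw [hcomm.mul_pow, inv_pow, hwr, inv_one, mul_one]
      conv_lhs => arg 1; arg 2; rw [← eM_inv F]
      rw [conj_pow, hwr, mul_one, mul_inv_cancel]
    have h1 := eq_one_of_central_coprime' hr hur hn
    have hwe : eM F * w * eM F = w := mul_inv_eq_one.1 h1
    have hwc : w ∈ Subgroup.center G2 := by
      refine mem_center_iff_scalar.2 (scalar_of_comm h2 (Subgroup.mem_centralizer_singleton_iff.1 hwK) ?_)
      conv_lhs => rw [← hwe]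
      rw [mul_assoc (eM F * w), eM_sq, mul_one]
    rw [hzw]
    exact Subgroup.mul_mem_sup (Or.inl ⟨Subgroup.zpowers_le.2 hk hz, i, hzi⟩) hwc
  rcases hAJ with hk | hk
  · exact key A hk hA
  · have h := key _ (eM_mul_mem_of_anti hk) (mul_mem (Subgroup.le_normalizer eM_mem_Qs) hA)
    have e : A = eM F * (eM F * A) := by rw [← mul_assoc, eM_sq, one_mul]
    rw [e]
    exact mul_mem (Subgroup.mem_sup_left eM_mem_Qs) h
where
  eq_one_of_central_coprime' {c : G2} {r n : ℕ} (hr : Nat.Coprime 2 r) (hc : c ^ r = 1)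
      (hn : c ^ 2 ^ n = 1) : c = 1 :=
    orderOf_eq_one_iff.1 (Nat.eq_one_of_dvd_coprimes (Nat.Coprime.pow_right n hr.symm)
      (orderOf_dvd_of_pow_eq_one hc) (orderOf_dvd_of_pow_eq_one hn))

end Cfsg.Agent.GroupSub.GL2Two
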