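import Cfsg.Agent.GroupSub.TwoGroupInv

/-!
Simplicity data passes to a quotient by a central subgroup of order prime to `p`.
-/

set_option autoImplicit false

namespace Cfsg.Agent.GroupSub

variable {G H : Type*} [Group G] [Group H] [Finite G] [Finite H] {p : ℕ} [Fact p.Prime]

/-- A central element of order prime to `p` which is a quotient of two commuting `p`-elements is trivial. -/
theorem eq_one_of_central_coprime {r : ℕ} (hr : Nat.Coprime r p) {c : G} (hc : c ^ r = 1) {k : ℕ}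
    (hk : c ^ p ^ k = 1) : c = 1 := by
  refine orderOf_eq_one_iff.1 (Nat.eq_one_of_dvd_coprimes (Nat.Coprime.pow_right k hr)
    (orderOf_dvd_of_pow_eq_one hc) (orderOf_dvd_of_pow_eq_one hk))

theorem isSimple_of_quotient (f : G →* H) (hf : Function.Surjective f)
    (hker : f.ker ≤ Subgroup.center G) (hco : Nat.Coprime (Nat.card f.ker) p)
    (P : Sylow p G) (hne : (P : Subgroup G) ≠ ⊥)
    (hsc : ∀ T : Subgroup G, EltClosed (P : Subgroup G) T → T = ⊥ ∨ T = (P : Subgroup G))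
    (hgen : Subgroup.normalizer ((P : Subgroup G) : Set G) ≤
      (P : Subgroup G) ⊔ Subgroup.centralizer ((P : Subgroup G) : Set G))
    (S : Sylow p H) : (Cfsg.groupFusionSystem (S : Subgroup H)).IsSimple p := by
  have hkr : ∀ c ∈ f.ker, c ^ Nat.card f.ker = 1 := fun c hc =>
    congrArg Subtype.val (pow_card_eq_one' (x := (⟨c, hc⟩ : f.ker)))
  have key : ∀ x y : G, (∃ k, x ^ p ^ k = 1) → (∃ k, y ^ p ^ k = 1) → f x = f y → x = y := by
    rintro x y ⟨a, ha⟩ ⟨b, hb⟩ he
    have hc : x⁻¹ * y ∈ f.ker := by rw [MonoidHom.mem_ker, map_mul, map_inv, he, inv_mul_cancel]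
    have hcc := Subgroup.mem_center_iff.1 (hker hc) x
    have hy : y = x * (x⁻¹ * y) := (mul_inv_cancel_left x y).symm
    refine inv_mul_eq_one.1 (eq_one_of_central_coprime hco (hkr _ hc) (k := a + b) ?_)
    have h1 : y ^ p ^ (a + b) = 1 := by rw [pow_add, mul_comm, pow_mul, hb, one_pow]
    rw [hy, Commute.mul_pow hcc, pow_add, pow_mul, pow_mul, ha, one_pow, one_mul, ← pow_mul,
      ← pow_add] at h1
    exact h1
  have hP2 : ∀ x ∈ (P : Subgroup G), ∃ k, x ^ p ^ k = 1 := fun x hx => by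
    obtain ⟨k, hk⟩ := P.isPGroup' ⟨x, hx⟩
    exact ⟨k, congrArg Subtype.val hk⟩
  let S₀ : Sylow p H := P.mapSurjective hf
  have hS₀ : (S₀ : Subgroup H) = (P : Subgroup G).map f := Sylow.coe_mapSurjective hf P
  refine isSimple_of_data S₀ ?_ (fun T hT => ?_) ?_ S
  · rw [hS₀, Ne, Subgroup.eq_bot_iff_forall]
    intro h
    refine hne ((Subgroup.eq_bot_iff_forall _).2 fun x hx => ?_)
    exact key x 1 (hP2 x hx) ⟨0, one_pow _⟩ (by rw [map_one]; exact h _ ⟨x, hx, rfl⟩)
  · have h' : EltClosed (P : Subgroup G) ((P : Subgroup G) ⊓ T.comap f) := by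
      refine ⟨inf_le_left, fun x hx g hg => ⟨hg, ?_⟩⟩
      show f (g * x * g⁻¹) ∈ T
      rw [map_mul, map_mul, map_inv]
      refine hT.2 _ hx.2 _ ?_
      rw [hS₀, ← map_inv, ← map_mul, ← map_mul]
      exact ⟨_, hg, rfl⟩
    have hTle : ∀ t ∈ T, ∃ x ∈ (P : Subgroup G) ⊓ T.comap f, f x = t := by
      intro t ht
      have h := hT.1 ht
      rw [hS₀] at h
      obtain ⟨x, hx, rfl⟩ := h
      exact ⟨x, ⟨hx, ht⟩, rfl⟩
    rcases hsc _ h' with h | h
    · left
      rw [Subgroup.eq_bot_iff_forall]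
      intro t ht
      obtain ⟨x, hx, rfl⟩ := hTle t ht
      rw [h, Subgroup.mem_bot] at hx
      rw [hx, map_one]
    · right
      refine le_antisymm hT.1 ?_
      rw [hS₀]
      rintro _ ⟨x, hx, rfl⟩
      exact (h.symm.le hx).2
  · intro γ hγ
    obtain ⟨g, rfl⟩ := hf γ
    have hgN : g ∈ Subgroup.normalizer ((P : Subgroup G) : Set G) := by
      refine mem_normalizer_of_cj_le ?_
      rintro _ ⟨x, hx, rfl⟩
      show g * x * g⁻¹ ∈ (P : Subgroup G)
      have hm := (Subgroup.mem_normalizer_iff.1 hγ (f x)).1 (by rw [hS₀]; exact ⟨x, hx, rfl⟩)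
      rw [hS₀, ← map_inv, ← map_mul, ← map_mul] at hm
      obtain ⟨y, hy, hye⟩ := hm
      obtain ⟨k, hk⟩ := hP2 x hx
      rw [← key y _ (hP2 y hy) ⟨k, by rw [conj_pow, hk, mul_one, mul_inv_cancel]⟩ hye]
      exact hy
    refine Subgroup.mem_sup_left ?_
    have h := Subgroup.mem_map_of_mem f (hgen hgN)
    rw [Subgroup.map_sup, ← hS₀] at h
    have hle : (Subgroup.centralizer ((P : Subgroup G) : Set G)).map f ≤
        Subgroup.centralizer ((S₀ : Subgroup H) : Set H) := by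
      rw [hS₀]
      rintro _ ⟨c, hc, rfl⟩ _ ⟨x, hx, rfl⟩
      rw [← map_mul, ← map_mul, hc x hx]
    exact (sup_le le_sup_left (hle.trans le_sup_right) :
      (S₀ : Subgroup H) ⊔ (Subgroup.centralizer ((P : Subgroup G) : Set G)).map f ≤ _) h

end Cfsg.Agent.GroupSub
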