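import Cfsg.Agent.GroupSub.Data
import Cfsg.Agent.Coprime.Basic
import Cfsg.Agent.Core.Frattini
import Cfsg.Agent.Core.Solvable

/-!
A simplicity criterion for 2-fusion systems of finite groups from conjugation invariants of the cosets of
the subgroup generated by the squares in a Sylow 2-subgroup.
-/

set_option autoImplicit false

namespace Cfsg.Agent.GroupSub

variable {G : Type*} [Group G] [Finite G]

theorem isPGroup_zpowers_of_pow {p : ℕ} {g : G} {k : ℕ} (hk : g ^ p ^ k = 1) :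
    IsPGroup p (Subgroup.zpowers g) := by
  rintro ⟨x, i, rfl⟩
  exact ⟨k, Subtype.ext (by
    show (g ^ i) ^ p ^ k = 1
    rw [← zpow_natCast, ← zpow_mul, mul_comm, zpow_mul, zpow_natCast, hk, one_zpow])⟩

theorem mem_sylow_of_pow {p : ℕ} (S : Sylow p G) {g : G}
    (hg : g ∈ Subgroup.normalizer ((S : Subgroup G) : Set G)) {k : ℕ} (hk : g ^ p ^ k = 1) :
    g ∈ (S : Subgroup G) := by
  have hp := (isPGroup_zpowers_of_pow hk).to_sup_of_normal_right' S.isPGroup' (Subgroup.zpowers_le.2 hg)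
  exact (S.is_maximal' hp le_sup_right) ▸ Subgroup.mem_sup_left (Subgroup.mem_zpowers g)

/-- An element of odd order in the normaliser of a 2-group centralises it once it fixes every coset of
a subgroup generated by squares. -/
theorem centralizes_of_fixes_cosets (S₀ K : Subgroup G) (hS : IsPGroup 2 S₀) (hKS : K ≤ S₀)
    (hKsq : K ≤ Subgroup.closure {y | ∃ s ∈ S₀, y = s * s})
    {g : G} (hgK : g ∈ Subgroup.normalizer (K : Set G)) {r : ℕ} (hr : Nat.Coprime 2 r) (hgr : g ^ r = 1)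
    (hfix : ∀ s ∈ S₀, s⁻¹ * (g * s * g⁻¹) ∈ K) : g ∈ Subgroup.centralizer (S₀ : Set G) := by
  haveI : Fact (Nat.Prime 2) := ⟨Nat.prime_two⟩
  set C := (S₀ ⊓ Subgroup.centralizer {g}).subgroupOf S₀ with hC
  have hfr : K.subgroupOf S₀ ≤ frattini S₀ := by
    have : K ≤ (frattini S₀).map S₀.subtype := hKsq.trans ((Subgroup.closure_le _).2 (by
      rintro _ ⟨s, hs, rfl⟩
      exact ⟨⟨s, hs⟩ ^ 2, Core.pow_mem_frattini hS _, by rw [pow_two]; rfl⟩))
    intro x hx
    obtain ⟨y, hy, hyx⟩ := this hx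
    exact (Subtype.ext hyx : y = x) ▸ hy
  have hco : (Nat.card (Subgroup.zpowers g)).Coprime (Nat.card K) := by
    obtain ⟨n, hn⟩ := IsPGroup.iff_card.1 (hS.to_le hKS)
    rw [Nat.card_zpowers, hn]
    exact Nat.Coprime.pow_right n (Nat.Coprime.coprime_dvd_left (orderOf_dvd_of_pow_eq_one hgr) hr.symm)
  have hsolv : Group.IsSolvable (Subgroup.zpowers g) := inferInstance
  have htop : C ⊔ frattini S₀ = ⊤ := by
    rw [eq_top_iff]
    rintro ⟨s, hs⟩ -
    have hall : ∀ a ∈ Subgroup.zpowers g, s⁻¹ * (a * s * a⁻¹) ∈ K := by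
      have hN : ∀ x ∈ K, g * x * g⁻¹ ∈ K := fun x hx => (Subgroup.mem_normalizer_iff.1 hgK x).1 hx
      have hpow : ∀ m : ℕ, s⁻¹ * (g ^ m * s * (g ^ m)⁻¹) ∈ K := by
        intro m
        induction m with
        | zero => simp
        | succ m ih =>
          have e : s⁻¹ * (g ^ (m + 1) * s * (g ^ (m + 1))⁻¹) =
              s⁻¹ * (g * s * g⁻¹) * (g * (s⁻¹ * (g ^ m * s * (g ^ m)⁻¹)) * g⁻¹) := by
            rw [pow_succ']; group
          rw [e]
          exact K.mul_mem (hfix s hs) (hN _ ih)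
      intro a ha
      obtain ⟨m, rfl⟩ := mem_powers_iff_mem_zpowers.2 ha
      exact hpow m
    obtain ⟨n, hn, hc⟩ := Coprime.exists_fixed_mem_leftCoset (Subgroup.zpowers_le.2 hgK) hco
      (Or.inl hsolv) hall
    have hsn : (⟨s * n, S₀.mul_mem hs (hKS hn)⟩ : S₀) ∈ C :=
      ⟨S₀.mul_mem hs (hKS hn),
        Subgroup.mem_centralizer_singleton_iff.2 (hc g (Subgroup.mem_zpowers g)).symm⟩
    have e : (⟨s, hs⟩ : S₀) = ⟨s * n, S₀.mul_mem hs (hKS hn)⟩ * (⟨n, hKS hn⟩ : S₀)⁻¹ :=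
      Subtype.ext (by simp)
    rw [e]
    exact Subgroup.mul_mem_sup hsn (inv_mem (hfr hn))
  have hCtop := frattini_nongenerating htop
  intro s hs
  have h : (⟨s, hs⟩ : S₀) ∈ C := hCtop ▸ Subgroup.mem_top _
  exact (Subgroup.mem_centralizer_singleton_iff.1 h.2)

/-- Fixed cosets from the bound two on the classes of an invariant of cosets. -/
theorem fixes_cosets_of_two {α : Type*} (S₀ K : Subgroup G) (F : G → α) {g : G} {r : ℕ}
    (hr : Nat.Coprime 2 r) (hgr : g ^ r = 1)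
    (hgS : g ∈ Subgroup.normalizer (S₀ : Set G)) (hgK : g ∈ Subgroup.normalizer (K : Set G))
    (hF : ∀ s ∈ S₀, F (g * s * g⁻¹) = F s)
    (htwo : ∀ a ∈ S₀, ∀ b ∈ S₀, ∀ c ∈ S₀, F a = F b → F a = F c →
      a⁻¹ * b ∈ K ∨ a⁻¹ * c ∈ K ∨ b⁻¹ * c ∈ K) :
    ∀ s ∈ S₀, s⁻¹ * (g * s * g⁻¹) ∈ K := by
  have hS : ∀ x ∈ S₀, g * x * g⁻¹ ∈ S₀ := fun x hx => (Subgroup.mem_normalizer_iff.1 hgS x).1 hx
  have hK : ∀ x, x ∈ K ↔ g * x * g⁻¹ ∈ K := Subgroup.mem_normalizer_iff.1 hgK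
  have hsq : ∀ s ∈ S₀, s⁻¹ * (g ^ 2 * s * (g ^ 2)⁻¹) ∈ K := by
    intro s hs
    have e : g ^ 2 * s * (g ^ 2)⁻¹ = g * (g * s * g⁻¹) * g⁻¹ := by rw [pow_two]; group
    rw [e]
    rcases htwo s hs _ (hS s hs) _ (hS _ (hS s hs)) (hF s hs).symm
      (by rw [hF _ (hS s hs), hF s hs]) with h | h | h
    · have h2 : (g * s * g⁻¹)⁻¹ * (g * (g * s * g⁻¹) * g⁻¹) ∈ K := by
        have := (hK _).1 h
        convert this using 1
        group
      have := K.mul_mem h h2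
      convert this using 1
      group
    · exact h
    · have h1 : s⁻¹ * (g * s * g⁻¹) ∈ K := (hK _).2 (by convert h using 1; group)
      have := K.mul_mem h1 h
      convert this using 1
      group
  intro s hs
  have hodd : Odd r := Nat.coprime_two_left.1 hr
  obtain ⟨m, hm⟩ := hodd
  have hpow : ∀ j : ℕ, ∀ t ∈ S₀, t⁻¹ * (g ^ (2 * j) * t * (g ^ (2 * j))⁻¹) ∈ K := by
    intro j
    induction j with
    | zero => simp
    | succ j ih =>
      intro t ht
      have hmem : g ^ 2 * t * (g ^ 2)⁻¹ ∈ S₀ := by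
        rw [show g ^ 2 * t * (g ^ 2)⁻¹ = g * (g * t * g⁻¹) * g⁻¹ by rw [pow_two]; group]
        exact hS _ (hS t ht)
      have := K.mul_mem (hsq t ht) (ih _ hmem)
      convert this using 1
      rw [Nat.mul_succ, pow_add]
      group
  have hg' : g = g ^ (2 * (m + 1)) := by
    rw [show 2 * (m + 1) = r + 1 by omega, pow_succ, hgr, one_mul]
  have := hpow (m + 1) s hs
  rwa [← hg'] at this

/-- The criterion: a Sylow 2-subgroup with a unique central involution `z`, an invariant of the cosets of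
a subgroup `K` generated by squares whose classes have at most two cosets, and such that `z` generates
the Sylow subgroup under fusion. -/
theorem isSimple_of_invariant {α : Type*} (S₀ : Sylow 2 G) (K : Subgroup G) (z : G)
    (hKS : K ≤ (S₀ : Subgroup G)) (hsqK : ∀ s ∈ (S₀ : Subgroup G), s * s ∈ K)
    (hKsq : K ≤ Subgroup.closure {y | ∃ s ∈ (S₀ : Subgroup G), y = s * s})
    (hne : (S₀ : Subgroup G) ≠ ⊥)
    (hz : ∀ x ∈ (S₀ : Subgroup G), (∀ s ∈ (S₀ : Subgroup G), x * s = s * x) → x ≠ 1 → x = z)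
    (F : G → α)
    (hF : ∀ g : G, g ∈ Subgroup.normalizer ((S₀ : Subgroup G) : Set G) → g * z * g⁻¹ = z →
      g ∈ Subgroup.normalizer (K : Set G) → ∀ s ∈ (S₀ : Subgroup G), F (g * s * g⁻¹) = F s)
    (htwo : ∀ a ∈ (S₀ : Subgroup G), ∀ b ∈ (S₀ : Subgroup G), ∀ c ∈ (S₀ : Subgroup G),
      F a = F b → F a = F c → a⁻¹ * b ∈ K ∨ a⁻¹ * c ∈ K ∨ b⁻¹ * c ∈ K)
    (hchain : ∀ T : Subgroup G, EltClosed (S₀ : Subgroup G) T → z ∈ T → (S₀ : Subgroup G) ≤ T)
    (S : Sylow 2 G) : (Cfsg.groupFusionSystem (S : Subgroup G)).IsSimple 2 := by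
  haveI : Fact (Nat.Prime 2) := ⟨Nat.prime_two⟩
  haveI : Nontrivial (S₀ : Subgroup G) := (Subgroup.nontrivial_iff_ne_bot _).2 hne
  obtain ⟨z₀, hz₀, hz₀1⟩ : ∃ x ∈ (S₀ : Subgroup G),
      (∀ s ∈ (S₀ : Subgroup G), x * s = s * x) ∧ x ≠ 1 := by
    haveI := S₀.isPGroup'.center_nontrivial
    obtain ⟨⟨x, hx⟩, hx1⟩ := exists_ne (1 : Subgroup.center (S₀ : Subgroup G))
    exact ⟨x, x.2, fun s hs => (congrArg Subtype.val (Subgroup.mem_center_iff.1 hx ⟨s, hs⟩)).symm,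
      fun h => hx1 (Subtype.ext (Subtype.ext h))⟩
  have hzz : z₀ = z := hz z₀ hz₀ hz₀1.1 hz₀1.2
  subst hzz
  refine isSimple_of_data S₀ hne (fun T hT => ?_) ?_ S
  · by_cases hb : T = ⊥
    · exact Or.inl hb
    refine Or.inr (le_antisymm hT.1 (hchain T hT ?_))
    set V : Subgroup (S₀ : Subgroup G) := T.subgroupOf (S₀ : Subgroup G) with hV
    haveI : V.Normal := Subgroup.normal_subgroupOf_of_le_normalizer hT.le_normalizer
    have hVne : V ≠ ⊥ := by
      rw [hV, Ne, Subgroup.subgroupOf_eq_bot]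
      intro hd
      exact hb (by simpa [inf_eq_left.2 hT.1] using disjoint_iff.1 hd)
    haveI : Group.IsNilpotent (S₀ : Subgroup G) := S₀.isPGroup'.isNilpotent
    obtain ⟨x, hx, hx1⟩ :=
      (Subgroup.bot_or_exists_ne_one _).resolve_left (Core.inf_center_ne_bot hVne)
    have hxz : (x : G) = z₀ := hz _ x.2 (fun s hs =>
      (congrArg Subtype.val (Subgroup.mem_center_iff.1 hx.2 ⟨s, hs⟩)).symm) (fun h => hx1 (Subtype.ext h))
    exact hxz ▸ hx.1
  · intro g hg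
    obtain ⟨u, w, hguw, hu, hw, -, ⟨k, huk⟩, r, hr, hwr⟩ := exists_parts 2 g
    have huS : u ∈ (S₀ : Subgroup G) := mem_sylow_of_pow S₀ (Subgroup.zpowers_le.2 hg hu) huk
    have hwN := Subgroup.zpowers_le.2 hg hw
    have hwz : w * z₀ * w⁻¹ = z₀ := by
      refine hz _ ((Subgroup.mem_normalizer_iff.1 hwN _).1 hz₀) (fun s hs => ?_)
        (fun h => hz₀1.2 (by simpa using h))
      have h := hz₀1.1 (w⁻¹ * s * (w⁻¹)⁻¹)
        ((Subgroup.mem_normalizer_iff.1 (Subgroup.inv_mem _ hwN) _).1 hs)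
      calc w * z₀ * w⁻¹ * s = w * (z₀ * (w⁻¹ * s * (w⁻¹)⁻¹)) * w⁻¹ := by group
        _ = s * (w * z₀ * w⁻¹) := by rw [h]; group
    have hwK : w ∈ Subgroup.normalizer (K : Set G) := by
      refine mem_normalizer_of_cj_le ?_
      have : K.map (MulAut.conj w).toMonoidHom ≤ K := by
        refine (Subgroup.map_mono hKsq).trans ?_
        rw [MonoidHom.map_closure, Subgroup.closure_le]
        rintro _ ⟨_, ⟨s, hs, rfl⟩, rfl⟩
        show w * (s * s) * w⁻¹ ∈ K
        rw [show w * (s * s) * w⁻¹ = w * s * w⁻¹ * (w * s * w⁻¹) by group]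
        exact hsqK _ ((Subgroup.mem_normalizer_iff.1 hwN _).1 hs)
      exact this
    rw [hguw]
    refine Subgroup.mem_sup_left (Subgroup.mul_mem_sup huS ?_)
    exact centralizes_of_fixes_cosets _ K S₀.isPGroup' hKS hKsq hwK hr hwr
      (fixes_cosets_of_two _ K F hr hwr hwN hwK (hF w hwN hwz hwK) htwo)

end Cfsg.Agent.GroupSub
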