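import Mathlib

/-!
Permutations of `(I × ℤ/p) ⊕ J` that are affine on each block `{i} × ℤ/p`, the wreathed subgroups
`(ℤ/p) ≀ P`, and Sylow `p`-subgroups of symmetric groups generated by elements of order `p`.
-/

set_option autoImplicit false

namespace Cfsg.Agent.GroupSub.AffWreath

open Equiv

variable {p : ℕ} {I J : Type*}

/-- The affine permutation `b ↦ t b + c` of `ℤ/p`. -/
def affine (t : (ZMod p)ˣ) (c : ZMod p) : Perm (ZMod p) where
  toFun b := (t : ZMod p) * b + c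
  invFun b := ((t⁻¹ : (ZMod p)ˣ) : ZMod p) * (b - c)
  left_inv b := by simp
  right_inv b := by simp

theorem affine_apply (t : (ZMod p)ˣ) (c b : ZMod p) : affine t c b = (t : ZMod p) * b + c := rfl

/-- The block-affine permutation `(i, b) ↦ (σ i, t i * b + f i)`. -/
def gaff (σ : Perm I) (t : I → (ZMod p)ˣ) (f : I → ZMod p) : Perm ((I × ZMod p) ⊕ J) :=
  Equiv.sumCongr (Equiv.prodShear σ fun i => affine (t i) (f i)) (Equiv.refl J)

@[simp] theorem gaff_inl (σ : Perm I) (t : I → (ZMod p)ˣ) (f : I → ZMod p) (i : I) (b : ZMod p) :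
    (gaff σ t f : Perm ((I × ZMod p) ⊕ J)) (Sum.inl (i, b)) = Sum.inl (σ i, (t i : ZMod p) * b + f i) := rfl

@[simp] theorem gaff_inr (σ : Perm I) (t : I → (ZMod p)ˣ) (f : I → ZMod p) (j : J) :
    (gaff σ t f : Perm ((I × ZMod p) ⊕ J)) (Sum.inr j) = Sum.inr j := rfl

theorem gaff_mul (σ σ' : Perm I) (t t' : I → (ZMod p)ˣ) (f f' : I → ZMod p) :
    (gaff σ t f : Perm ((I × ZMod p) ⊕ J)) * gaff σ' t' f' =
      gaff (σ * σ') (fun i => t (σ' i) * t' i) (fun i => (t (σ' i) : ZMod p) * f' i + f (σ' i)) := by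
  refine Equiv.ext fun x => ?_
  rcases x with ⟨i, b⟩ | j
  · simp only [Perm.mul_apply, gaff_inl, Units.val_mul, Sum.inl.injEq, Prod.mk.injEq, true_and]
    ring
  · rfl

theorem gaff_one : (gaff (1 : Perm I) (1 : I → (ZMod p)ˣ) 0 : Perm ((I × ZMod p) ⊕ J)) = 1 := by
  refine Equiv.ext fun x => ?_
  rcases x with ⟨i, b⟩ | j
  · simp
  · rfl

theorem gaff_inv (σ : Perm I) (t : I → (ZMod p)ˣ) (f : I → ZMod p) :
    (gaff σ t f : Perm ((I × ZMod p) ⊕ J))⁻¹ = gaff σ⁻¹ (fun i => (t (σ⁻¹ i))⁻¹)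
      (fun i => -(((t (σ⁻¹ i))⁻¹ : (ZMod p)ˣ) : ZMod p) * f (σ⁻¹ i)) := by
  refine inv_eq_of_mul_eq_one_right ?_
  rw [gaff_mul, ← gaff_one]
  congr 1
  · exact mul_inv_cancel σ
  · funext i; simp
  · funext i; simp

theorem gaff_inj [Fact p.Prime] {σ σ' : Perm I} {t t' : I → (ZMod p)ˣ} {f f' : I → ZMod p}
    (h : (gaff σ t f : Perm ((I × ZMod p) ⊕ J)) = gaff σ' t' f') : σ = σ' ∧ t = t' ∧ f = f' := by
  have h0 := fun i => congrArg (fun g : Perm ((I × ZMod p) ⊕ J) => g (Sum.inl (i, 0))) h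
  have h1 := fun i => congrArg (fun g : Perm ((I × ZMod p) ⊕ J) => g (Sum.inl (i, 1))) h
  simp only [gaff_inl, mul_zero, zero_add, mul_one, Sum.inl.injEq, Prod.mk.injEq] at h0 h1
  have hf : f = f' := funext fun i => (h0 i).2
  refine ⟨Equiv.ext fun i => (h0 i).1, funext fun i => Units.ext ?_, hf⟩
  have h2 := (h1 i).2
  rw [hf] at h2
  exact add_right_cancel h2

/-- Translations on the blocks. -/
def tr (f : I → ZMod p) : Perm ((I × ZMod p) ⊕ J) := gaff 1 1 f

/-- Multiplications on the blocks. -/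
def dil (t : I → (ZMod p)ˣ) : Perm ((I × ZMod p) ⊕ J) := gaff 1 t 0

/-- The permutation of blocks by `σ`. -/
def bp (σ : Perm I) : Perm ((I × ZMod p) ⊕ J) := gaff σ 1 0

theorem tr_mul (f g : I → ZMod p) :
    (tr f : Perm ((I × ZMod p) ⊕ J)) * tr g = tr (f + g) := by
  rw [tr, tr, tr, gaff_mul]
  congr 1
  · funext i; simp
  · funext i; simp [add_comm]

theorem tr_zero : (tr (0 : I → ZMod p) : Perm ((I × ZMod p) ⊕ J)) = 1 := gaff_one

theorem tr_inv (f : I → ZMod p) : (tr f : Perm ((I × ZMod p) ⊕ J))⁻¹ = tr (-f) :=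
  inv_eq_of_mul_eq_one_right (by rw [tr_mul, add_neg_cancel, tr_zero])

theorem tr_pow (f : I → ZMod p) (k : ℕ) : (tr f : Perm ((I × ZMod p) ⊕ J)) ^ k = tr (k • f) := by
  induction k with
  | zero => rw [pow_zero, zero_nsmul, tr_zero]
  | succ k ih => rw [pow_succ, ih, tr_mul, succ_nsmul]

theorem tr_pow_p (f : I → ZMod p) : (tr f : Perm ((I × ZMod p) ⊕ J)) ^ p = 1 := by
  rw [tr_pow, show p • f = 0 from funext fun i => by simp, tr_zero]

/-- The block permutation as a homomorphism. -/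
def bpHom : Perm I →* Perm ((I × ZMod p) ⊕ J) where
  toFun := bp
  map_one' := gaff_one
  map_mul' σ σ' := by
    show bp (σ * σ') = bp σ * bp σ'
    rw [bp, bp, bp, gaff_mul]
    congr 1
    · funext i; simp
    · funext i; simp

theorem bp_mul (σ σ' : Perm I) : (bp (σ * σ') : Perm ((I × ZMod p) ⊕ J)) = bp σ * bp σ' :=
  map_mul bpHom σ σ'

theorem bp_inv (σ : Perm I) : (bp σ⁻¹ : Perm ((I × ZMod p) ⊕ J)) = (bp σ)⁻¹ := map_inv bpHom σ

theorem bp_pow (σ : Perm I) (k : ℕ) : (bp (σ ^ k) : Perm ((I × ZMod p) ⊕ J)) = (bp σ) ^ k :=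
  map_pow bpHom σ k

theorem gaff_eq_bp_tr (σ : Perm I) (f : I → ZMod p) :
    (gaff σ 1 f : Perm ((I × ZMod p) ⊕ J)) = bp σ * tr f := by
  rw [bp, tr, gaff_mul]
  congr 1
  · funext i; simp
  · funext i; simp

theorem gaff_eq_dil (σ : Perm I) (t : I → (ZMod p)ˣ) (f : I → ZMod p) :
    (gaff σ t f : Perm ((I × ZMod p) ⊕ J)) = dil (fun i => t (σ⁻¹ i)) * bp σ * tr (fun i => (((t i)⁻¹ : (ZMod p)ˣ) : ZMod p) * f i) := by
  rw [dil, bp, tr, gaff_mul, gaff_mul]
  congr 1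
  · funext i; simp
  · funext i; simp

/-- Conjugation of translations. -/
theorem gaff_conj_tr (σ : Perm I) (t : I → (ZMod p)ˣ) (f g : I → ZMod p) :
    (gaff σ t f : Perm ((I × ZMod p) ⊕ J)) * tr g * (gaff σ t f)⁻¹ =
      tr (fun i => (t (σ⁻¹ i) : ZMod p) * g (σ⁻¹ i)) := by
  refine mul_inv_eq_of_eq_mul ?_
  rw [tr, tr, gaff_mul, gaff_mul]
  congr 1
  · funext i; simp
  · funext i; simp [add_comm]

/-- The wreathed subgroup over `P`. -/
def wr (P : Subgroup (Perm I)) : Subgroup (Perm ((I × ZMod p) ⊕ J)) where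
  carrier := {x | ∃ σ ∈ P, ∃ f : I → ZMod p, x = gaff σ 1 f}
  one_mem' := ⟨1, P.one_mem, 0, gaff_one.symm⟩
  mul_mem' := by
    rintro _ _ ⟨σ, hσ, f, rfl⟩ ⟨σ', hσ', f', rfl⟩
    refine ⟨σ * σ', P.mul_mem hσ hσ', fun i => f' i + f (σ' i), ?_⟩
    rw [gaff_mul]
    congr 1
    · funext i; simp
    · funext i; simp
  inv_mem' := by
    rintro _ ⟨σ, hσ, f, rfl⟩
    refine ⟨σ⁻¹, P.inv_mem hσ, fun i => -f (σ⁻¹ i), ?_⟩
    rw [gaff_inv]
    congr 1
    all_goals funext i; simp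
    all_goals funext i; simp

theorem card_wr [Fact p.Prime] [Finite I] (P : Subgroup (Perm I)) :
    Nat.card (wr P : Subgroup (Perm ((I × ZMod p) ⊕ J))) = Nat.card P * p ^ Nat.card I := by
  let F : P × (I → ZMod p) → (wr P : Subgroup (Perm ((I × ZMod p) ⊕ J))) :=
    fun x => ⟨gaff x.1.1 1 x.2, x.1.1, x.1.2, x.2, rfl⟩
  have hF : Function.Bijective F := by
    constructor
    · rintro ⟨σ, f⟩ ⟨σ', f'⟩ h
      obtain ⟨h1, -, h3⟩ := gaff_inj (congrArg Subtype.val h)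
      exact Prod.ext (Subtype.ext h1) h3
    · rintro ⟨_, σ, hσ, f, rfl⟩
      exact ⟨(⟨σ, hσ⟩, f), rfl⟩
  rw [← Nat.card_eq_of_bijective F hF, Nat.card_prod, Nat.card_fun, Nat.card_zmod]

theorem wr_le {P : Subgroup (Perm I)} (hP : P ≤ Subgroup.closure {x | x ∈ P ∧ x ^ p = 1})
    {H : Subgroup (Perm ((I × ZMod p) ⊕ J))} (ht : ∀ f : I → ZMod p, tr f ∈ H)
    (hb : ∀ σ ∈ P, σ ^ p = 1 → (bp σ : Perm ((I × ZMod p) ⊕ J)) ∈ H) :
    wr P ≤ H := by
  rintro _ ⟨σ, hσ, f, rfl⟩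
  rw [gaff_eq_bp_tr]
  refine H.mul_mem ?_ (ht f)
  have h : P ≤ H.comap bpHom := hP.trans ((Subgroup.closure_le _).2 fun x hx => hb x hx.1 hx.2)
  exact h hσ

theorem wr_gen {P : Subgroup (Perm I)} (hP : P ≤ Subgroup.closure {x | x ∈ P ∧ x ^ p = 1}) :
    (wr P : Subgroup (Perm ((I × ZMod p) ⊕ J))) ≤ Subgroup.closure {x | x ∈ wr P ∧ x ^ p = 1} := by
  refine wr_le hP (fun f => Subgroup.subset_closure ⟨⟨1, P.one_mem, f, rfl⟩, tr_pow_p f⟩)
    fun σ hσ hσp => Subgroup.subset_closure ⟨⟨σ, hσ, 0, rfl⟩, ?_⟩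
  rw [← bp_pow, hσp]
  exact map_one bpHom

/-! ### Signs -/

theorem sign_bp [NeZero p] [Fintype I] [DecidableEq I] [Fintype J] [DecidableEq J] (σ : Perm I) :
    Perm.sign (bp σ : Perm ((I × ZMod p) ⊕ J)) = Perm.sign σ ^ p := by
  have h : (bp σ : Perm ((I × ZMod p) ⊕ J)) =
      Equiv.sumCongr (Equiv.prodCongrLeft fun _ : ZMod p => σ) (Equiv.refl J) := by
    refine Equiv.ext fun x => ?_
    rcases x with ⟨i, b⟩ | j
    · simp [bp]
    · rfl
  rw [h, Perm.sign_sumCongr, Perm.sign_prodCongrLeft, Finset.prod_const, Finset.card_univ, ZMod.card,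
    Perm.sign_refl, mul_one]

theorem sign_gaff_one [NeZero p] [Fintype I] [DecidableEq I] [Fintype J] [DecidableEq J]
    (t : I → (ZMod p)ˣ) (f : I → ZMod p) :
    Perm.sign (gaff 1 t f : Perm ((I × ZMod p) ⊕ J)) = ∏ i, Perm.sign (affine (t i) (f i)) := by
  have h : (gaff 1 t f : Perm ((I × ZMod p) ⊕ J)) =
      Equiv.sumCongr (Equiv.prodCongrRight fun i => affine (t i) (f i)) (Equiv.refl J) := by
    refine Equiv.ext fun x => ?_
    rcases x with ⟨i, b⟩ | j
    · simp [affine_apply]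
    · rfl
  rw [h, Perm.sign_sumCongr, Perm.sign_prodCongrRight, Perm.sign_refl, mul_one]

theorem sign_of_pow {α : Type*} [Fintype α] [DecidableEq α] (hodd : Odd p) {x : Perm α} {k : ℕ}
    (h : x ^ p ^ k = 1) : Perm.sign x = 1 := by
  have h1 := congrArg Perm.sign h
  rw [map_pow, map_one] at h1
  obtain ⟨m, hm⟩ : Odd (p ^ k) := hodd.pow
  rw [hm, pow_succ, pow_mul, Int.units_sq, one_pow, one_mul] at h1
  exact h1

/-! ### Sylow subgroups -/

variable (p) in
/-- A subgroup of Sylow order generated by its elements of order dividing `p`. -/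
def IsGenSylow {α : Type*} (P : Subgroup (Perm α)) : Prop :=
  Nat.card P = p ^ ((Nat.card α).factorial.factorization p) ∧
    P ≤ Subgroup.closure {x | x ∈ P ∧ x ^ p = 1}

theorem isPGroup_of_genSylow [Fact p.Prime] {α : Type*} [Finite α] {P : Subgroup (Perm α)}
    (h : IsGenSylow p P) : IsPGroup p P := IsPGroup.of_card h.1

theorem factorization_block [hp : Fact p.Prime] (m : ℕ) {e : ℕ} (he : e < p) :
    (p * m + e).factorial.factorization p = m.factorial.factorization p + m := by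
  rw [Nat.factorization_def _ hp.out, Nat.factorization_def _ hp.out, padicValNat_factorial_mul_add _ he,
    padicValNat_factorial_mul]

theorem isGenSylow_wr [Fact p.Prime] [Finite I] [Finite J] (hJ : Nat.card J < p) {P : Subgroup (Perm I)}
    (hP : IsGenSylow p P) : IsGenSylow p (wr P : Subgroup (Perm ((I × ZMod p) ⊕ J))) := by
  refine ⟨?_, wr_gen hP.2⟩
  rw [card_wr, hP.1, ← pow_add, Nat.card_sum, Nat.card_prod, Nat.card_zmod, mul_comm (Nat.card I) p,
    factorization_block _ hJ]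

theorem IsGenSylow.map {α β : Type*} [Finite α] (e : α ≃ β) {P : Subgroup (Perm α)} (h : IsGenSylow p P) :
    IsGenSylow p (P.map e.permCongrHom.toMonoidHom) := by
  refine ⟨?_, ?_⟩
  · rw [Subgroup.card_map_of_injective e.permCongrHom.injective, h.1, Nat.card_congr e]
  · refine Subgroup.map_le_iff_le_comap.2 (h.2.trans ((Subgroup.closure_le _).2 ?_))
    intro x hx
    refine Subgroup.subset_closure ⟨⟨x, hx.1, rfl⟩, ?_⟩
    rw [← map_pow, hx.2, map_one]

theorem exists_isGenSylow [hp : Fact p.Prime] :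
    ∀ (n : ℕ) (α : Type) [Finite α], Nat.card α = n → ∃ P : Subgroup (Perm α), IsGenSylow p P := by
  intro n
  induction n using Nat.strong_induction_on with
  | _ n ih =>
    intro α _ hα
    rcases Nat.eq_zero_or_pos n with rfl | hn
    · refine ⟨⊥, ?_, bot_le⟩
      rw [hα, Subgroup.card_bot]
      simp
    have hlt : n / p < n := Nat.div_lt_self hn hp.out.one_lt
    obtain ⟨P, hP⟩ := ih (n / p) hlt (Fin (n / p)) (Nat.card_fin _)
    have hJ : Nat.card (Fin (n % p)) < p := by rw [Nat.card_fin]; exact Nat.mod_lt _ hp.out.pos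
    have h := isGenSylow_wr (J := Fin (n % p)) hJ hP
    have hc : Nat.card ((Fin (n / p) × ZMod p) ⊕ Fin (n % p)) = Nat.card α := by
      rw [Nat.card_sum, Nat.card_prod, Nat.card_zmod, Nat.card_fin, Nat.card_fin, hα, Nat.div_add_mod' n p]
    exact ⟨_, h.map (Finite.card_eq.1 hc).some⟩

end Cfsg.Agent.GroupSub.AffWreath
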