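import Cfsg.Agent.GroupSub.Basic

/-!
Normal subsystems over `S` of the fusion system of a finite group on its Sylow subgroup `S`, and a
simplicity criterion.
-/

set_option autoImplicit false

namespace Cfsg.Agent.GroupSub

variable {G : Type*} [Group G] {p : ℕ} (S : Sylow p G)

/-- Conjugations mapping `P` into `S` are the maps of the fusion system of `G`. -/
theorem mem_groupHom {P : Subgroup G} {g : G} (hP : P ≤ (S : Subgroup G))
    (h : ∀ x ∈ P, g * x * g⁻¹ ∈ (S : Subgroup G)) :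
    Cfsg.conjHom P g ∈ (Cfsg.groupFusionSystem (S : Subgroup G)).Hom P :=
  ⟨hP, fun x => h x x.2, g, fun _ => rfl⟩

theorem isConj_cj {P : Subgroup G} {g : G} (hP : P ≤ (S : Subgroup G)) (h : cj g P ≤ (S : Subgroup G)) :
    (Cfsg.groupFusionSystem (S : Subgroup G)).IsConj P (cj g P) :=
  ⟨_, mem_groupHom S hP (fun x hx => h (conj_mem_cj hx)), range_conjHom P g⟩

theorem isGroupSub_of_subsystem {T : Subgroup G} {E : Cfsg.FusionSystem T}
    (h : E.IsSubsystemOf (Cfsg.groupFusionSystem (S : Subgroup G))) : IsGroupSub E := by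
  intro P φ hφ
  obtain ⟨-, -, g, hg⟩ := h P hφ
  exact ⟨g, conjHom_eq hg⟩

variable [Finite G] [Fact p.Prime]

theorem pCentric_of_isCentric {R : Subgroup G}
    (hR : (Cfsg.groupFusionSystem (S : Subgroup G)).IsCentric R) : PCentric p (S : Subgroup G) R := by
  refine ⟨hR.1, fun m hm ⟨k, hk⟩ => ?_⟩
  have hm' : m ∈ Subgroup.centralizer (R : Set G) := hm
  have hcomm : ∀ x ∈ R, m * x * m⁻¹ = x := fun x hx => by
    rw [← hm x hx, mul_inv_cancel_right]
  have hp : IsPGroup p (Subgroup.zpowers m) := fun x => ⟨k, by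
    obtain ⟨i, hi⟩ := x.2
    apply Subtype.ext
    show (x : G) ^ p ^ k = 1
    rw [← hi, ← zpow_natCast, ← zpow_mul, mul_comm, zpow_mul, zpow_natCast, hk, one_zpow]⟩
  have hp' : IsPGroup p (R ⊔ Subgroup.zpowers m : Subgroup G) := by
    refine IsPGroup.to_sup_of_normal_left' (S.isPGroup'.to_le hR.1) hp ?_
    refine Subgroup.zpowers_le.2 (mem_normalizer_of_cj_le ?_)
    rintro _ ⟨x, hx, rfl⟩
    show m * x * m⁻¹ ∈ R
    rw [hcomm x hx]; exact hx
  obtain ⟨U, hU⟩ := hp'.exists_le_sylow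
  obtain ⟨a, ha⟩ := MulAction.exists_smul_eq G U S
  have hin : ∀ x ∈ (U : Subgroup G), a * x * a⁻¹ ∈ (S : Subgroup G) := fun x hx => by
    rw [← ha]; exact ⟨x, hx, rfl⟩
  have hRS : cj a R ≤ (S : Subgroup G) := by
    rintro _ ⟨x, hx, rfl⟩
    exact hin x (hU (Subgroup.mem_sup_left hx))
  have hmC : a * m * a⁻¹ ∈ Cfsg.FusionSystem.centralizerIn (S : Subgroup G) (cj a R) := by
    refine ⟨hin m (hU (Subgroup.mem_sup_right (Subgroup.mem_zpowers m))), ?_⟩
    rintro _ ⟨x, hx, rfl⟩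
    show a * x * a⁻¹ * (a * m * a⁻¹) = a * m * a⁻¹ * (a * x * a⁻¹)
    have := hm' x hx
    calc a * x * a⁻¹ * (a * m * a⁻¹) = a * (x * m) * a⁻¹ := by group
      _ = a * (m * x) * a⁻¹ := by rw [this]
      _ = _ := by group
  exact conj_mem_cj_iff.1 (hR.2 _ (isConj_cj S hR.1 hRS) hmC)

/-- For a fully normalized `R`, every `p`-element of `N_G(R)` is conjugate in `N_G(R)` into `N_S(R)`. -/
theorem exists_conj_into_normalizerIn {R : Subgroup G}
    (hR : (Cfsg.groupFusionSystem (S : Subgroup G)).IsFullyNormalized R) {u : G}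
    (hu : u ∈ Subgroup.normalizer (R : Set G)) (hup : ∃ k : ℕ, orderOf u = p ^ k) :
    ∃ h ∈ Subgroup.normalizer (R : Set G), h * u * h⁻¹ ∈ (S : Subgroup G) := by
  set N := Subgroup.normalizer (R : Set G) with hN
  set NS := Cfsg.FusionSystem.normalizerIn (S : Subgroup G) R with hNS
  have hNSp : IsPGroup p (NS.subgroupOf N) :=
    (S.isPGroup'.to_le inf_le_left).comap_of_injective N.subtype Subtype.val_injective
  obtain ⟨U, hU⟩ := hNSp.exists_le_sylow
  obtain ⟨V, hV⟩ := (U.isPGroup'.map N.subtype).exists_le_sylow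
  obtain ⟨a, ha⟩ := MulAction.exists_smul_eq G V S
  have hin : ∀ x ∈ (U : Subgroup N).map N.subtype, a * x * a⁻¹ ∈ (S : Subgroup G) := fun x hx => by
    rw [← ha]; exact ⟨x, hV hx, rfl⟩
  have hRU : R ≤ (U : Subgroup N).map N.subtype := fun x hx =>
    ⟨⟨x, Subgroup.le_normalizer hx⟩, hU ⟨hR.1 hx, Subgroup.le_normalizer hx⟩, rfl⟩
  have hRS : cj a R ≤ (S : Subgroup G) := by
    rintro _ ⟨x, hx, rfl⟩; exact hin x (hRU hx)
  have hmax := hR.2 _ (isConj_cj S hR.1 hRS)
  have hle : cj a ((U : Subgroup N).map N.subtype) ≤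
      Cfsg.FusionSystem.normalizerIn (S : Subgroup G) (cj a R) := by
    rintro _ ⟨x, hx, rfl⟩
    refine ⟨hin x hx, mem_normalizer_of_cj_eq ?_⟩
    obtain ⟨y, -, rfl⟩ := hx
    show cj (a * (y : G) * a⁻¹) (cj a R) = cj a R
    rw [cj_cj, show a * (y : G) * a⁻¹ * a = a * (y : G) by group, ← cj_cj, cj_eq_of_mem_normalizer y.2]
  have hcard : Nat.card (U : Subgroup N) ≤ Nat.card (NS.subgroupOf N) := by
    have e : Nat.card (NS.subgroupOf N) = Nat.card NS :=
      Nat.card_congr (Subgroup.subgroupOfEquivOfLe (H := NS) (K := N) inf_le_right).toEquiv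
    rw [e]
    refine le_trans ?_ hmax
    refine le_trans (le_of_eq ?_) (Subgroup.card_le_of_le hle)
    rw [Subgroup.card_map_of_injective (MulAut.conj a).injective,
      Subgroup.card_map_of_injective Subtype.val_injective]
  have hUeq : (U : Subgroup N) = NS.subgroupOf N :=
    (SetLike.coe_injective (Set.eq_of_subset_of_ncard_le hU hcard (Set.toFinite _))).symm
  obtain ⟨k, hk⟩ := hup
  have huz : IsPGroup p (Subgroup.zpowers (⟨u, hu⟩ : N)) := IsPGroup.of_card (n := k) (by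
    rw [Nat.card_zpowers, ← hk]
    exact (Subgroup.orderOf_coe (⟨u, hu⟩ : N)).symm)
  obtain ⟨W, hW⟩ := huz.exists_le_sylow
  obtain ⟨h, hh⟩ := MulAction.exists_smul_eq N W U
  refine ⟨h, h.2, ?_⟩
  have : h * ⟨u, hu⟩ * h⁻¹ ∈ (U : Subgroup N) := by
    rw [← hh]; exact ⟨_, hW (Subgroup.mem_zpowers _), rfl⟩
  rw [hUeq] at this
  exact this.1

variable {S} {E : Cfsg.FusionSystem (S : Subgroup G)}

/-- A normal subsystem over `S` contains the conjugations by elements of `N_G(S)` lying in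
`O^{p'}(N_G(R))` for a fully normalized centric `R`. -/
theorem homConj_of_normal (hE : E.IsNormalIn (Cfsg.groupFusionSystem (S : Subgroup G)) p)
    {R : Subgroup G} (hRn : (Cfsg.groupFusionSystem (S : Subgroup G)).IsFullyNormalized R)
    (hRc : (Cfsg.groupFusionSystem (S : Subgroup G)).IsCentric R) {g : G}
    (hg : g ∈ Subgroup.closure {u : G | u ∈ Subgroup.normalizer (R : Set G) ∧ ∃ k : ℕ, orderOf u = p ^ k})
    (hgS : g ∈ Subgroup.normalizer ((S : Subgroup G) : Set G)) :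
    HomConj E (S : Subgroup G) g := by
  obtain ⟨⟨hsat, -, hsub, -, hinv, hfr⟩, -⟩ := hE
  have hgs := isGroupSub_of_subsystem S hsub
  refine homConj_extend_top S.isPGroup' hgs hsat (pCentric_of_isCentric S hRc) hgS ?_
  suffices g ∈ autElems E R hRn.1 from this.2
  refine (Subgroup.closure_le _).2 ?_ hg
  rintro u ⟨hu, hup⟩
  refine ⟨hu, ?_⟩
  obtain ⟨h, hh, hhu⟩ := exists_conj_into_normalizerIn S hRn hu hup
  have hhi : h⁻¹ ∈ Subgroup.normalizer (R : Set G) := (Subgroup.normalizer _).inv_mem hh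
  set s := h * u * h⁻¹ with hs
  have hsR : s ∈ Subgroup.normalizer (R : Set G) :=
    (Subgroup.normalizer _).mul_mem ((Subgroup.normalizer _).mul_mem hh hu) hhi
  -- Frattini: split conjugation by h⁻¹ on R
  obtain ⟨α, hα, φ₀, hφ₀, hv⟩ := hfr R hRn.1 (Cfsg.conjHom R h⁻¹) (mem_groupHom S hRn.1
    (fun x hx => hRn.1 ((Subgroup.mem_normalizer_iff.1 hhi x).1 hx)))
  obtain ⟨-, -, k, hk⟩ := autGroup_hom (Cfsg.groupFusionSystem (S : Subgroup G)) le_rfl hα
  have hφ₀S : ∀ x : R, φ₀ x ∈ (S : Subgroup G) := (E.le_of_mem hφ₀).2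
  have hφ₀k : φ₀ = Cfsg.conjHom R (k⁻¹ * h⁻¹) := conjHom_eq fun x => by
    have h1 := hv x (hφ₀S x)
    have h2 : ((α ⟨φ₀ x, hφ₀S x⟩ : (S : Subgroup G)) : G) = k * φ₀ x * k⁻¹ := hk ⟨φ₀ x, hφ₀S x⟩
    rw [h2] at h1
    change h⁻¹ * (x : G) * h⁻¹⁻¹ = _ at h1
    calc φ₀ x = k⁻¹ * (k * φ₀ x * k⁻¹) * k := by group
      _ = _ := by rw [← h1]; group
  set e := k⁻¹ * h⁻¹ with he
  have hme : HomConj E R e := by rw [HomConj, ← hφ₀k]; exact hφ₀
  have hpre : ∀ y ∈ cj e R, e⁻¹ * y * e ∈ R := fun y hy => mem_cj.1 hy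
  have hψ : HomConj E (cj e R) (e * s * e⁻¹) := by
    have h1 := hme.symm.trans (homConj_mem (E := E) hRn.1 hhu) (fun y hy => by simpa using hpre y hy)
    have h2 := h1.trans hme (fun y hy => by
      have := (Subgroup.mem_normalizer_iff.1 hsR _).1 (hpre y hy)
      simpa [mul_assoc] using this)
    simpa [mul_assoc] using h2
  set D := ((cj e R).subgroupOf (S : Subgroup G)).map ((S : Subgroup G).subtype.comp α.toMonoidHom)
    with hD
  obtain ⟨χ, hχ, hχv⟩ := hinv (cj e R) hψ.le _ hψ α hα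
  have hkval : ∀ x : (S : Subgroup G), ((α x : (S : Subgroup G)) : G) = k * (x : G) * k⁻¹ := hk
  have hRD : ∀ y ∈ R, y ∈ D := fun y hy => by
    have hm : k⁻¹ * y * k ∈ cj e R := by
      refine mem_cj.2 ?_
      have := (Subgroup.mem_normalizer_iff.1 hh y).1 hy
      simpa [he, mul_assoc] using this
    refine ⟨⟨_, hψ.le hm⟩, Subgroup.mem_subgroupOf.2 hm, ?_⟩
    show ((α ⟨k⁻¹ * y * k, _⟩ : (S : Subgroup G)) : G) = y
    rw [hkval]; group
  have hχu : χ = Cfsg.conjHom D u := conjHom_eq fun y => by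
    obtain ⟨y, hy⟩ := y
    obtain ⟨x, hx, hxy⟩ := hy
    have hval := hχv ⟨x, Subgroup.mem_subgroupOf.1 hx⟩ (hψ.mem (Subgroup.mem_subgroupOf.1 hx))
      (show ((α x : (S : Subgroup G)) : G) ∈ D from ⟨x, hx, rfl⟩)
    subst hxy
    refine hval.trans ?_
    rw [hkval]
    show k * (e * s * e⁻¹ * (x : G) * (e * s * e⁻¹)⁻¹) * k⁻¹ = u * ((α x : (S : Subgroup G)) : G) * u⁻¹
    rw [hkval, he, hs]; group
  rw [hχu] at hχ
  exact HomConj.mono (E := E) hχ hRD

/-- A normal subsystem over `S` containing all of `Aut_G(S)` is the whole fusion system. -/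
theorem eq_of_normal (hE : E.IsNormalIn (Cfsg.groupFusionSystem (S : Subgroup G)) p)
    (hN : ∀ g ∈ Subgroup.normalizer ((S : Subgroup G) : Set G), HomConj E (S : Subgroup G) g)
    (P : Subgroup G) : E.Hom P = (Cfsg.groupFusionSystem (S : Subgroup G)).Hom P := by
  obtain ⟨⟨-, -, hsub, -, -, hfr⟩, -⟩ := hE
  refine Set.Subset.antisymm (hsub P) fun φ hφ => ?_
  obtain ⟨α, hα, φ₀, hφ₀, hv⟩ := hfr P hφ.1 φ hφ
  obtain ⟨-, -, k, hk⟩ := autGroup_hom (Cfsg.groupFusionSystem (S : Subgroup G)) le_rfl hα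
  obtain ⟨g, rfl⟩ := isGroupSub_of_subsystem S hsub P φ₀ hφ₀
  have hkn : k ∈ Subgroup.normalizer ((S : Subgroup G) : Set G) := mem_normalizer_of_cj_le (by
    rintro _ ⟨x, hx, rfl⟩
    show k * x * k⁻¹ ∈ (S : Subgroup G)
    have := (α ⟨x, hx⟩).2
    rwa [show ((α ⟨x, hx⟩ : (S : Subgroup G)) : G) = k * x * k⁻¹ from hk ⟨x, hx⟩] at this)
  have h1 : HomConj E P (k * g) := HomConj.trans hφ₀ (hN k hkn) (fun x hx => HomConj.mem hφ₀ hx)
  have : φ = Cfsg.conjHom P (k * g) := conjHom_eq fun x => by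
    refine (hv x (HomConj.mem hφ₀ x.2)).trans ((hk _).trans ?_)
    show k * (g * (x : G) * g⁻¹) * k⁻¹ = _
    group
  rw [this]; exact h1

variable (S) in
/-- The elements of `N_G(S)` in `O^{p'}(N_G(R))` for some fully normalized centric `R`. -/
def localGens : Set G :=
  {g | g ∈ Subgroup.normalizer ((S : Subgroup G) : Set G) ∧ ∃ R : Subgroup G,
    (Cfsg.groupFusionSystem (S : Subgroup G)).IsFullyNormalized R ∧
    (Cfsg.groupFusionSystem (S : Subgroup G)).IsCentric R ∧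
    g ∈ Subgroup.closure {u : G | u ∈ Subgroup.normalizer (R : Set G) ∧ ∃ k : ℕ, orderOf u = p ^ k}}

/-- Simplicity criterion for the fusion system of a group. -/
theorem isSimple_of_localGens (hsat : (Cfsg.groupFusionSystem (S : Subgroup G)).IsSaturated p)
    (hne : (S : Subgroup G) ≠ ⊥)
    (hsc : ∀ T : Subgroup G, (Cfsg.groupFusionSystem (S : Subgroup G)).StronglyClosed T →
      T = ⊥ ∨ T = (S : Subgroup G))
    (hgen : Subgroup.normalizer ((S : Subgroup G) : Set G) ≤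
      (S : Subgroup G) ⊔ Subgroup.centralizer ((S : Subgroup G) : Set G) ⊔ Subgroup.closure (localGens S)) :
    (Cfsg.groupFusionSystem (S : Subgroup G)).IsSimple p := by
  refine ⟨hsat, hne, fun T E hE => ?_⟩
  rcases hsc T hE.1.2.2.2.1 with h | h
  · exact Or.inl h
  · subst h
    refine Or.inr ⟨rfl, eq_of_normal hE fun g hg => ?_⟩
    suffices g ∈ autElems E (S : Subgroup G) le_rfl from this.2
    refine (sup_le (sup_le ?_ ?_) ?_ : _ ≤ autElems E (S : Subgroup G) le_rfl) (hgen hg)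
    · exact fun s hs => ⟨Subgroup.le_normalizer hs, homConj_mem le_rfl hs⟩
    · intro c hc
      have hcx : ∀ x ∈ (S : Subgroup G), c * x * c⁻¹ = x := fun x hx => by
        rw [← hc x hx, mul_inv_cancel_right]
      refine ⟨mem_normalizer_of_cj_le ?_, ?_⟩
      · rintro _ ⟨x, hx, rfl⟩
        show c * x * c⁻¹ ∈ (S : Subgroup G)
        rw [hcx x hx]; exact hx
      · refine (homConj_mem (E := E) le_rfl (Subgroup.one_mem _)).congr fun x hx => ?_
        rw [hcx x hx]; group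
    · refine (Subgroup.closure_le _).2 ?_
      rintro u ⟨hu, R, hRn, hRc, huR⟩
      exact ⟨hu, homConj_of_normal hE hRn hRc huR hu⟩

end Cfsg.Agent.GroupSub
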