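import Cfsg.Agent.GroupSub.Data

/-!
A normal subsystem over `S` contains the conjugations induced on any `R ≤ S` by the `p`-elements of
`N_G(R)`; the resulting simplicity criterion.
-/

set_option autoImplicit false

namespace Cfsg.Agent.GroupSub

variable {G : Type*} [Group G] [Finite G] {p : ℕ} [Fact p.Prime] {S : Sylow p G}
  {E : Cfsg.FusionSystem (S : Subgroup G)}

/-- `p`-elements of `N_G(R)` act on `R` as maps of a normal subsystem over `S`. -/
theorem mem_autElems_of_pElem (hE : E.IsNormalIn (Cfsg.groupFusionSystem (S : Subgroup G)) p)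
    {R : Subgroup G} (hR : R ≤ (S : Subgroup G)) {u : G} (hu : u ∈ Subgroup.normalizer (R : Set G))
    (hup : ∃ k : ℕ, u ^ p ^ k = 1) : u ∈ autElems E R hR := by
  obtain ⟨⟨-, -, hsub, -, hinv, hfr⟩, -⟩ := hE
  refine ⟨hu, ?_⟩
  obtain ⟨m, hm⟩ := hup
  have hz : IsPGroup p (Subgroup.zpowers u) := fun x => ⟨m, by
    obtain ⟨i, hi⟩ := x.2
    apply Subtype.ext
    show (x : G) ^ p ^ m = 1
    rw [← hi, ← zpow_natCast, ← zpow_mul, mul_comm, zpow_mul, zpow_natCast, hm, one_zpow]⟩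
  have hp' : IsPGroup p (R ⊔ Subgroup.zpowers u : Subgroup G) :=
    IsPGroup.to_sup_of_normal_left' (S.isPGroup'.to_le hR) hz (Subgroup.zpowers_le.2 hu)
  obtain ⟨U, hU⟩ := hp'.exists_le_sylow
  obtain ⟨h, hh⟩ := MulAction.exists_smul_eq G U S
  have hin : ∀ x ∈ (U : Subgroup G), h * x * h⁻¹ ∈ (S : Subgroup G) := fun x hx => by
    rw [← hh]; exact ⟨x, hx, rfl⟩
  have hPS : cj h R ≤ (S : Subgroup G) := by
    rintro _ ⟨x, hx, rfl⟩; exact hin x (hU (Subgroup.mem_sup_left hx))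
  set s := h * u * h⁻¹ with hs
  have hsS : s ∈ (S : Subgroup G) := hin u (hU (Subgroup.mem_sup_right (Subgroup.mem_zpowers u)))
  set P := cj h R with hP
  have hsP : ∀ y ∈ P, s * y * s⁻¹ ∈ P := by
    rintro _ ⟨x, hx, rfl⟩
    show s * (h * x * h⁻¹) * s⁻¹ ∈ P
    rw [show s * (h * x * h⁻¹) * s⁻¹ = h * (u * x * u⁻¹) * h⁻¹ by rw [hs]; group]
    exact conj_mem_cj ((Subgroup.mem_normalizer_iff.1 hu x).1 hx)
  -- Frattini: split the conjugation by `h⁻¹` on `P`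
  obtain ⟨α, hα, φ₀, hφ₀, hv⟩ := hfr P hPS (Cfsg.conjHom P h⁻¹) (mem_groupHom S hPS
    (fun x hx => hR (by have := mem_cj.1 hx; simpa [mul_assoc] using this)))
  obtain ⟨-, -, k, hk⟩ := autGroup_hom (Cfsg.groupFusionSystem (S : Subgroup G)) le_rfl hα
  have hφ₀S : ∀ x : P, φ₀ x ∈ (S : Subgroup G) := (E.le_of_mem hφ₀).2
  have hφ₀k : φ₀ = Cfsg.conjHom P (k⁻¹ * h⁻¹) := conjHom_eq fun x => by
    have h1 := hv x (hφ₀S x)
    have h2 : ((α ⟨φ₀ x, hφ₀S x⟩ : (S : Subgroup G)) : G) = k * φ₀ x * k⁻¹ := hk ⟨φ₀ x, hφ₀S x⟩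
    rw [h2] at h1
    change h⁻¹ * (x : G) * h⁻¹⁻¹ = _ at h1
    calc φ₀ x = k⁻¹ * (k * φ₀ x * k⁻¹) * k := by group
      _ = _ := by rw [← h1]; group
  set e := k⁻¹ * h⁻¹ with he
  have hme : HomConj E P e := by rw [HomConj, ← hφ₀k]; exact hφ₀
  have hpre : ∀ y ∈ cj e P, e⁻¹ * y * e ∈ P := fun y hy => mem_cj.1 hy
  have hψ : HomConj E (cj e P) (e * s * e⁻¹) := by
    have h1 := hme.symm.trans (homConj_mem (E := E) hPS hsS) (fun y hy => by simpa using hpre y hy)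
    have h2 := h1.trans hme (fun y hy => by
      have := hsP _ (hpre y hy)
      simpa [mul_assoc] using this)
    simpa [mul_assoc] using h2
  set D := ((cj e P).subgroupOf (S : Subgroup G)).map ((S : Subgroup G).subtype.comp α.toMonoidHom)
    with hD
  obtain ⟨χ, hχ, hχv⟩ := hinv (cj e P) hψ.le _ hψ α hα
  have hkval : ∀ x : (S : Subgroup G), ((α x : (S : Subgroup G)) : G) = k * (x : G) * k⁻¹ := hk
  have hRD : ∀ y ∈ R, y ∈ D := fun y hy => by
    have hm : k⁻¹ * y * k ∈ cj e P := by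
      refine mem_cj.2 ?_
      rw [show e⁻¹ * (k⁻¹ * y * k) * e = h * y * h⁻¹ by rw [he]; group]
      exact conj_mem_cj hy
    refine ⟨⟨_, hψ.le hm⟩, Subgroup.mem_subgroupOf.2 hm, ?_⟩
    show ((α ⟨k⁻¹ * y * k, _⟩ : (S : Subgroup G)) : G) = y
    rw [hkval]; group
  have hχu : χ = Cfsg.conjHom D u := conjHom_eq fun y => by
    obtain ⟨y, hy⟩ := y
    obtain ⟨x, hx, hxy⟩ := hy
    have hval := hχv ⟨x, Subgroup.mem_subgroupOf.1 hx⟩ (hψ.mem (Subgroup.mem_subgroupOf.1 hx))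
      (show ((α x : (S : Subgroup G)) : G) ∈ D from ⟨x, hx, rfl⟩)
    subst hxy
    refine hval.trans ?_
    rw [hkval]
    show k * (e * s * e⁻¹ * (x : G) * (e * s * e⁻¹)⁻¹) * k⁻¹ = u * ((α x : (S : Subgroup G)) : G) * u⁻¹
    rw [hkval, he, hs]; group
  rw [hχu] at hχ
  exact HomConj.mono (E := E) hχ hRD

/-- Simplicity when every normal subsystem over `S` contains all of `Aut_G(S)`. -/
theorem isSimple_of_allAut (hne : (S : Subgroup G) ≠ ⊥)
    (hsc : ∀ T : Subgroup G, EltClosed (S : Subgroup G) T → T = ⊥ ∨ T = (S : Subgroup G))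
    (hN : ∀ E : Cfsg.FusionSystem (S : Subgroup G),
      E.IsNormalIn (Cfsg.groupFusionSystem (S : Subgroup G)) p →
      ∀ g ∈ Subgroup.normalizer ((S : Subgroup G) : Set G), HomConj E (S : Subgroup G) g) :
    (Cfsg.groupFusionSystem (S : Subgroup G)).IsSimple p := by
  refine ⟨groupFusionSystem_isSaturated S, hne, fun T E hE => ?_⟩
  rcases hsc T (eltClosed_of_stronglyClosed S hE.1.2.2.2.1) with h | h
  · exact Or.inl h
  · subst h
    exact Or.inr ⟨rfl, eq_of_normal hE (hN E hE)⟩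

end Cfsg.Agent.GroupSub
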