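import Cfsg.Agent.GroupSub.Criterion

/-!
The fusion system of a finite group on a Sylow `p`-subgroup is saturated.
-/

set_option autoImplicit false

namespace Cfsg.Agent.GroupSub

variable {G : Type*} [Group G] [Finite G] {p : ℕ} [Fact p.Prime] (S : Sylow p G)

/-- Every subgroup of `S` has a conjugate `Q ≤ S` such that `S` contains a Sylow `p`-subgroup of `N_G(Q)`. -/
theorem exists_normalizer_sylow_conj {P : Subgroup G} (hP : P ≤ (S : Subgroup G)) :
    ∃ a : G, cj a P ≤ (S : Subgroup G) ∧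
      ∃ U : Sylow p (Subgroup.normalizer ((cj a P : Subgroup G) : Set G)),
        (U : Subgroup _) = (S : Subgroup G).subgroupOf (Subgroup.normalizer ((cj a P : Subgroup G) : Set G)) := by
  set N := Subgroup.normalizer (P : Set G) with hN
  have hPp : IsPGroup p (P.subgroupOf N) :=
    (S.isPGroup'.to_le hP).comap_of_injective N.subtype Subtype.val_injective
  obtain ⟨U, hU⟩ := hPp.exists_le_sylow
  obtain ⟨V, hV⟩ := (U.isPGroup'.map N.subtype).exists_le_sylow
  obtain ⟨a, ha⟩ := MulAction.exists_smul_eq G V S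
  have hin : ∀ x ∈ (U : Subgroup N).map N.subtype, a * x * a⁻¹ ∈ (S : Subgroup G) := fun x hx => by
    rw [← ha]; exact ⟨x, hV hx, rfl⟩
  have hQ : cj a P ≤ (S : Subgroup G) := by
    rintro _ ⟨x, hx, rfl⟩
    exact hin x ⟨⟨x, Subgroup.le_normalizer hx⟩, hU hx, rfl⟩
  refine ⟨a, hQ, ?_⟩
  set M := Subgroup.normalizer ((cj a P : Subgroup G) : Set G) with hM
  set W := (S : Subgroup G).subgroupOf M with hW
  have hWp : IsPGroup p W := S.isPGroup'.comap_of_injective M.subtype Subtype.val_injective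
  obtain ⟨R, hR⟩ := hWp.exists_le_sylow
  -- R is conjugate into W
  have hback : cj a⁻¹ ((R : Subgroup M).map M.subtype) ≤ N := by
    rintro _ ⟨_, ⟨x, -, rfl⟩, rfl⟩
    refine mem_normalizer_of_cj_eq ?_
    show cj (a⁻¹ * (x : G) * a⁻¹⁻¹) P = P
    rw [inv_inv, ← cj_cj _ a, ← cj_cj a⁻¹, cj_eq_of_mem_normalizer x.2, cj_cj, inv_mul_cancel,
      cj_eq_of_mem_normalizer (Subgroup.normalizer (P : Set G)).one_mem]
  obtain ⟨R', hR'⟩ := ((((R.isPGroup'.map M.subtype).map (MulAut.conj a⁻¹).toMonoidHom)).comap_of_injective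
    N.subtype Subtype.val_injective).exists_le_sylow
  obtain ⟨h, hh⟩ := MulAction.exists_smul_eq N R' U
  have hcard : Nat.card (R : Subgroup M) ≤ Nat.card W := by
    refine Nat.card_le_card_of_injective (fun x => ⟨⟨a * ((h : G) * (a⁻¹ * ((x : M) : G) * a) * (h : G)⁻¹) * a⁻¹,
      ?_⟩, ?_⟩) ?_
    · refine mem_normalizer_of_cj_eq ?_
      have hx : a⁻¹ * ((x : M) : G) * a ∈ N := hback ⟨_, ⟨_, x.2, rfl⟩, by simp⟩
      rw [cj_cj, show a * ((h : G) * (a⁻¹ * ((x : M) : G) * a) * (h : G)⁻¹) * a⁻¹ * a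
        = a * ((h : G) * (a⁻¹ * ((x : M) : G) * a) * (h : G)⁻¹) by group, ← cj_cj,
        cj_eq_of_mem_normalizer (N.mul_mem (N.mul_mem h.2 hx) (N.inv_mem h.2))]
    · refine Subgroup.mem_subgroupOf.2 (hin _ ?_)
      have hx : a⁻¹ * ((x : M) : G) * a ∈ N := hback ⟨_, ⟨_, x.2, rfl⟩, by simp⟩
      refine ⟨h * ⟨_, hx⟩ * h⁻¹, ?_, rfl⟩
      rw [← hh]
      exact ⟨⟨_, hx⟩, hR' (Subgroup.mem_comap.2 ⟨_, ⟨_, x.2, rfl⟩, by simp⟩), rfl⟩
    · intro x y hxy
      simpa using hxy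
  refine ⟨R, ?_⟩
  exact (SetLike.coe_injective (Set.eq_of_subset_of_ncard_le hR hcard (Set.toFinite _))).symm

/-- If `S` contains a Sylow `p`-subgroup of `N_G(Q)`, then `Q` is fully automized and receptive. -/
theorem automized_receptive_of_sylow {Q : Subgroup G} (hQ : Q ≤ (S : Subgroup G))
    (U : Sylow p (Subgroup.normalizer (Q : Set G)))
    (hU : (U : Subgroup (Subgroup.normalizer (Q : Set G))) =
      (S : Subgroup G).subgroupOf (Subgroup.normalizer (Q : Set G))) :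
    (Cfsg.groupFusionSystem (S : Subgroup G)).IsFullyAutomized p Q ∧
      (Cfsg.groupFusionSystem (S : Subgroup G)).IsReceptive Q := by
  refine ⟨⟨hQ, ?_⟩, hQ, ?_⟩
  · -- fully automized
    have hmem : ∀ c : (Subgroup.normalizer (Q : Set G)), Q.normalizerMonoidHom c ∈ (Cfsg.groupFusionSystem (S : Subgroup G)).autGroup Q := by
      intro c
      refine Subgroup.subset_closure ⟨hQ, fun x => hQ (Q.normalizerMonoidHom c x).2, c, fun x => ?_⟩
      rfl
    let ρ : (Subgroup.normalizer (Q : Set G)) →* (Cfsg.groupFusionSystem (S : Subgroup G)).autGroup Q :=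
      Q.normalizerMonoidHom.codRestrict _ hmem
    have hρ : Function.Surjective ρ := by
      intro α
      obtain ⟨-, -, c, hc⟩ := autGroup_hom (Cfsg.groupFusionSystem (S : Subgroup G)) hQ α.2
      have hcM : c ∈ (Subgroup.normalizer (Q : Set G)) := mem_normalizer_of_cj_le (by
        rintro _ ⟨x, hx, rfl⟩
        show c * x * c⁻¹ ∈ Q
        have := ((α : MulAut Q) ⟨x, hx⟩).2
        rwa [show (((α : MulAut Q) ⟨x, hx⟩ : Q) : G) = c * x * c⁻¹ from hc ⟨x, hx⟩] at this)
      refine ⟨⟨c, hcM⟩, Subtype.ext (MulEquiv.ext fun x => Subtype.ext ?_)⟩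
      exact (hc x).symm
    refine ⟨U.mapSurjective hρ, ?_⟩
    rw [Sylow.coe_mapSurjective, hU]
    ext α
    constructor
    · rintro ⟨c, hc, rfl⟩
      exact Subgroup.subset_closure ⟨c, hc, fun x => rfl⟩
    · intro hα
      obtain ⟨k, hk, hkv⟩ := mem_autInducedBy (Subgroup.mem_subgroupOf.1 hα)
      have hkM : k ∈ (Subgroup.normalizer (Q : Set G)) := mem_normalizer_of_cj_le (by
        rintro _ ⟨x, hx, rfl⟩
        show k * x * k⁻¹ ∈ Q
        have := ((α : MulAut Q) ⟨x, hx⟩).2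
        rwa [hkv ⟨x, hx⟩] at this)
      exact ⟨⟨k, hkM⟩, hk, Subtype.ext (MulEquiv.ext fun x => Subtype.ext (hkv x).symm)⟩
  · -- receptive
    intro P' φ hφ hr
    obtain ⟨hP', hφS, g, hg⟩ := hφ
    obtain rfl := conjHom_eq hg
    rw [range_conjHom] at hr
    set C := (Subgroup.centralizer (Q : Set G)).subgroupOf (Subgroup.normalizer (Q : Set G)) with hC
    have hCn : C.Normal := by
      rw [hC, ← Subgroup.normalizerMonoidHom_ker]; infer_instance
    set N := Cfsg.FusionSystem.extender (S : Subgroup G) P' (Cfsg.conjHom P' g) with hN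
    set L := (U : Subgroup (Subgroup.normalizer (Q : Set G))) ⊔ C with hL
    have hgen : cj g N ≤ L.map (Subgroup.normalizer (Q : Set G)).subtype := by
      rw [Subgroup.map_le_iff_le_comap, hN, Cfsg.FusionSystem.extender, Subgroup.closure_le]
      rintro n ⟨hnS, hnN, k, hk, hkv⟩
      have hnM : g * n * g⁻¹ ∈ (Subgroup.normalizer (Q : Set G)) := by
        refine mem_normalizer_of_cj_eq ?_
        rw [← hr, cj_cj, show g * n * g⁻¹ * g = g * n by group, ← cj_cj, cj_eq_of_mem_normalizer hnN]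
      have hkQ : ∀ y ∈ Q, k * y * k⁻¹ = (g * n * g⁻¹) * y * (g * n * g⁻¹)⁻¹ := by
        intro y hy
        rw [← hr] at hy
        obtain ⟨x, hx, rfl⟩ := hy
        have := hkv ⟨x, hx⟩ ((Subgroup.mem_normalizer_iff.1 hnN x).1 hx)
        show k * (g * x * g⁻¹) * k⁻¹ = _
        refine this.symm.trans ?_
        show g * (n * x * n⁻¹) * g⁻¹ = g * n * g⁻¹ * (g * x * g⁻¹) * (g * n * g⁻¹)⁻¹
        group
      have hkM : k ∈ (Subgroup.normalizer (Q : Set G)) := mem_normalizer_of_cj_le (by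
        rintro _ ⟨y, hy, rfl⟩
        show k * y * k⁻¹ ∈ Q
        rw [hkQ y hy]
        exact (Subgroup.mem_normalizer_iff.1 hnM y).1 hy)
      refine ⟨(⟨k, hkM⟩ : (Subgroup.normalizer (Q : Set G))) * ((⟨k, hkM⟩ : (Subgroup.normalizer (Q : Set G)))⁻¹ * ⟨_, hnM⟩), ?_, by simp⟩
      refine L.mul_mem (Subgroup.mem_sup_left (by rw [hU]; exact hk)) (Subgroup.mem_sup_right ?_)
      refine Subgroup.mem_subgroupOf.2 fun y hy => ?_
      show y * (k⁻¹ * (g * n * g⁻¹)) = k⁻¹ * (g * n * g⁻¹) * y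
      have h1 := hkQ y hy
      calc y * (k⁻¹ * (g * n * g⁻¹)) = k⁻¹ * (k * y * k⁻¹) * (g * n * g⁻¹) := by group
        _ = _ := by rw [h1]; group
    have hY : IsPGroup p ((cj g N).subgroupOf (Subgroup.normalizer (Q : Set G))) := by
      refine ((S.isPGroup'.to_le ?_).map _).comap_of_injective (Subgroup.normalizer (Q : Set G)).subtype Subtype.val_injective
      exact (Subgroup.closure_le _).2 fun n hn => hn.1
    have hYL : (cj g N).subgroupOf (Subgroup.normalizer (Q : Set G)) ≤ L := fun y hy => by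
      obtain ⟨z, hz, hzy⟩ := hgen hy
      exact (Subtype.ext hzy : z = y) ▸ hz
    obtain ⟨R, hR⟩ := (hY.comap_of_injective L.subtype Subtype.val_injective).exists_le_sylow
    obtain ⟨w, hw⟩ := MulAction.exists_smul_eq L R (U.subtype (le_sup_left : (U : Subgroup (Subgroup.normalizer (Q : Set G))) ≤ L))
    obtain ⟨s, hs, c, hc, hsc⟩ := Subgroup.mem_sup_of_normal_right.1 w.2
    have hN'le : P' ≤ N := fun x hx => Subgroup.subset_closure ⟨hP' hx, Subgroup.le_normalizer hx,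
      g * x * g⁻¹, hφS ⟨x, hx⟩, fun y _ => by
        show g * (x * (y : G) * x⁻¹) * g⁻¹ = g * x * g⁻¹ * (g * (y : G) * g⁻¹) * (g * x * g⁻¹)⁻¹
        group⟩
    have hNS : N ≤ (S : Subgroup G) := (Subgroup.closure_le _).2 fun n hn => hn.1
    refine ⟨Cfsg.conjHom N ((c : G) * g), ⟨hNS, fun x => ?_, _, fun _ => rfl⟩, fun x hx hxN => ?_⟩
    · have hm := conj_mem_cj (g := g) x.2
      have hxM : g * (x : G) * g⁻¹ ∈ (Subgroup.normalizer (Q : Set G)) := by
        obtain ⟨z, -, hz⟩ := hgen hm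
        rw [← hz]; exact z.2
      have h1 : w * ⟨⟨_, hxM⟩, hYL hm⟩ * w⁻¹ ∈ (U.subtype (le_sup_left : (U : Subgroup (Subgroup.normalizer (Q : Set G))) ≤ L) : Subgroup L) := by
        rw [← hw]; exact ⟨⟨⟨_, hxM⟩, hYL hm⟩, hR (show _ ∈ (cj g N).subgroupOf (Subgroup.normalizer (Q : Set G)) from hm), rfl⟩
      have h2 : (w : (Subgroup.normalizer (Q : Set G))) * ⟨_, hxM⟩ * (w : (Subgroup.normalizer (Q : Set G)))⁻¹ ∈ (U : Subgroup (Subgroup.normalizer (Q : Set G))) := h1
      rw [← hsc] at h2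
      have h3 := (U : Subgroup (Subgroup.normalizer (Q : Set G))).mul_mem ((U : Subgroup (Subgroup.normalizer (Q : Set G))).mul_mem ((U : Subgroup (Subgroup.normalizer (Q : Set G))).inv_mem hs) h2) hs
      rw [hU] at h3
      have h4 : ((s⁻¹ * (s * c * ⟨_, hxM⟩ * (s * c)⁻¹) * s : (Subgroup.normalizer (Q : Set G))) : G) ∈ (S : Subgroup G) := h3
      simpa [Cfsg.conjHom, mul_assoc] using h4
    · show (c : G) * g * x * ((c : G) * g)⁻¹ = g * x * g⁻¹
      have hy : g * x * g⁻¹ ∈ Q := hr ▸ conj_mem_cj hx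
      have := (Subgroup.mem_subgroupOf.1 hc) _ hy
      calc (c : G) * g * x * ((c : G) * g)⁻¹ = (c : G) * (g * x * g⁻¹) * (c : G)⁻¹ := by group
        _ = g * x * g⁻¹ * (c : G) * (c : G)⁻¹ := by rw [this]
        _ = _ := by group

theorem groupFusionSystem_isSaturated :
    (Cfsg.groupFusionSystem (S : Subgroup G)).IsSaturated p := by
  intro P hP
  obtain ⟨a, hQ, U, hU⟩ := exists_normalizer_sylow_conj S hP
  exact ⟨_, isConj_cj S hP hQ, automized_receptive_of_sylow S hQ U hU⟩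

end Cfsg.Agent.GroupSub
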