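import Cfsg.Agent.Classical.SL2Sylow
import Cfsg.Agent.GroupSub.Basic

/-!
The Sylow 2-subgroups of SL(2, F), F of odd order, and their normalisers: two anticommuting square roots
of `-1`, products of pairs of such roots, and the exceptional normalising element when the Sylow subgroup
has order eight.
-/

set_option autoImplicit false

namespace Cfsg.Agent.GroupSub.SpFour

open Matrix

variable {F : Type*} [Field F]

local notation "SL2" => Matrix.SpecialLinearGroup (Fin 2) F
local notation "M2" => Matrix (Fin 2) (Fin 2) F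

theorem coe_negOne : ((-1 : SL2) : M2) = -1 := rfl

theorem negOne_ne (h2 : (2 : F) ≠ 0) : (-1 : SL2) ≠ 1 := fun h => by
  have e := congrArg (fun g : SL2 => (g : M2) 0 0) h
  simp at e
  exact h2 (by linear_combination -e)

theorem coe_sq {g : SL2} (hg : g * g = -1) : (g : M2) * (g : M2) = -1 := by
  have h := congrArg (fun g : SL2 => (g : M2)) hg
  simpa using h

theorem trace_zero {g : SL2} (hg : g * g = -1) : (g : M2).trace = 0 := by
  have h : (g : M2).trace • (g : M2) = 0 := by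
    have e := Classical.sq_eq_trace_smul g
    rw [coe_sq hg] at e
    calc (g : M2).trace • (g : M2) = (g : M2).trace • (g : M2) - 1 + 1 := by abel
      _ = -1 + 1 := by rw [← e]
      _ = 0 := by abel
  rcases smul_eq_zero.1 h with h | h
  · exact h
  · exfalso
    have hd := g.2
    rw [h, Matrix.det_zero] at hd
    exact zero_ne_one hd

theorem det_one_add {g : SL2} (hg : g * g = -1) : (1 + (g : M2)).det = 2 := by
  have ht := trace_zero hg
  rw [Matrix.trace_fin_two] at ht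
  have hd := g.2
  rw [Matrix.det_fin_two] at hd
  rw [Matrix.det_fin_two]
  simp only [Matrix.add_apply, Matrix.one_apply_eq, Matrix.one_apply_ne (show (0 : Fin 2) ≠ 1 by decide),
    Matrix.one_apply_ne (show (1 : Fin 2) ≠ 0 by decide)]
  linear_combination hd + ht

/-- An element anticommuting with a square root of `-1` is not scalar. -/
theorem not_scalar (h2 : (2 : F) ≠ 0) {u X : SL2} (hanti : X * u = -(u * X)) (r : F) :
    (u : M2) ≠ r • 1 := by
  intro h
  have e := congrArg (fun g : SL2 => (g : M2)) hanti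
  simp [h] at e
  have e' : (2 * r) • (X : M2) = 0 := by
    calc (2 * r) • (X : M2) = r • (X : M2) + r • (X : M2) := by module
      _ = 0 := eq_neg_iff_add_eq_zero.1 e
  rcases smul_eq_zero.1 e' with hr | hX
  · have hr0 : r = 0 := (mul_eq_zero.1 hr).resolve_left h2
    have hd := u.2
    rw [h, hr0, zero_smul, Matrix.det_zero] at hd
    exact zero_ne_one hd
  · have hd := X.2
    rw [hX, Matrix.det_zero] at hd
    exact zero_ne_one hd

/-- Conjugation by `X` inverts the centraliser of `u`. -/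
theorem conj_inv_of_comm (h2 : (2 : F) ≠ 0) {u X : SL2} (hu : u * u = -1) (hanti : X * u = -(u * X))
    {g : SL2} (hg : g * u = u * g) : X * g⁻¹ = g * X := by
  obtain ⟨a, b, hab⟩ := Classical.exists_lin_of_commute (not_scalar h2 hanti)
    (congrArg (fun g : SL2 => (g : M2)) hg).symm
  have ht : (g : M2).trace = 2 * b := by
    rw [hab, Matrix.trace_add, Matrix.trace_smul, trace_zero hu, Matrix.trace_smul, Matrix.trace_one]
    simp [mul_comm]
  have hinv : (g : M2) * ((2 * b) • 1 - (g : M2)) = 1 := by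
    rw [mul_sub, Classical.sq_eq_trace_smul, ht, mul_smul_comm, mul_one]
    abel
  have hi : ((g⁻¹ : SL2) : M2) = (2 * b) • 1 - (g : M2) := by
    have h1 : ((g⁻¹ : SL2) : M2) * (g : M2) = 1 := by
      rw [← Matrix.SpecialLinearGroup.coe_mul, inv_mul_cancel, Matrix.SpecialLinearGroup.coe_one]
    calc ((g⁻¹ : SL2) : M2) = ((g⁻¹ : SL2) : M2) * ((g : M2) * ((2 * b) • 1 - (g : M2))) := by
          rw [hinv, mul_one]
      _ = _ := by rw [← mul_assoc, h1, one_mul]
  have hanti' : (X : M2) * (u : M2) = -((u : M2) * (X : M2)) := by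
    have e := congrArg (fun g : SL2 => (g : M2)) hanti
    simpa using e
  refine Subtype.ext ?_
  rw [Matrix.SpecialLinearGroup.coe_mul, Matrix.SpecialLinearGroup.coe_mul, hi, hab]
  simp only [mul_sub, mul_add, add_mul, smul_mul_assoc, mul_smul_comm, one_mul, mul_one, hanti', smul_neg]
  module

theorem eq_pm_one_of_comm (h2 : (2 : F) ≠ 0) {u X : SL2} (hu : u * u = -1) (hanti : X * u = -(u * X))
    {g : SL2} (hg : g * u = u * g) (hgX : g * X = X * g) : g = 1 ∨ g = -1 := by
  have h := conj_inv_of_comm h2 hu hanti hg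
  rw [hgX] at h
  refine Classical.eq_one_or_neg_one_of_sq h2 ?_
  have h' := mul_left_cancel h
  rw [pow_two]
  nth_rw 1 [← h']
  rw [inv_mul_cancel]

/-- An element of the normaliser of a maximal 2-subgroup fixing `u` up to sign lies in it. -/
theorem mem_of_fix [Finite F] (h2 : (2 : F) ≠ 0) (Q : Sylow 2 SL2) {u X B : SL2}
    (hXQ : X ∈ (Q : Subgroup SL2)) (hu : u * u = -1) (hanti : X * u = -(u * X))
    (hB : B ∈ Subgroup.normalizer ((Q : Subgroup SL2) : Set SL2)) (hfix : B * u * B⁻¹ = u ∨ B * u * B⁻¹ = -u) :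
    B ∈ (Q : Subgroup SL2) := by
  have : Fact (Nat.Prime 2) := ⟨Nat.prime_two⟩
  suffices h : ∀ g : SL2, g ∈ Subgroup.normalizer ((Q : Subgroup SL2) : Set SL2) → g * u = u * g →
      g ∈ (Q : Subgroup SL2) by
    rcases hfix with e | e
    · exact h B hB (mul_inv_eq_iff_eq_mul.1 e)
    · have h' := h (X * B) ((Subgroup.normalizer _).mul_mem (Subgroup.le_normalizer hXQ) hB) (by
        rw [mul_assoc, mul_inv_eq_iff_eq_mul.1 e, neg_mul, mul_neg, ← mul_assoc, hanti, neg_mul, neg_neg,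
          mul_assoc])
      simpa using (Q : Subgroup SL2).mul_mem ((Q : Subgroup SL2).inv_mem hXQ) h'
  intro g hg hgu
  have hsq : g * g ∈ (Q : Subgroup SL2) := by
    have h := conj_inv_of_comm h2 hu hanti hgu
    have h1 : g * X * g⁻¹ ∈ (Q : Subgroup SL2) := (Subgroup.mem_normalizer_iff.1 hg X).1 hXQ
    rw [mul_assoc, h, ← mul_assoc] at h1
    simpa using (Q : Subgroup SL2).mul_mem h1 ((Q : Subgroup SL2).inv_mem hXQ)
  obtain ⟨k, hk⟩ := Q.isPGroup' ⟨g * g, hsq⟩
  have hk' : (g * g) ^ 2 ^ k = 1 := by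
    have h := congrArg Subtype.val hk
    exact h
  have hp : IsPGroup 2 (Subgroup.zpowers g) := fun x => ⟨k + 1, by
    obtain ⟨i, hi⟩ := x.2
    apply Subtype.ext
    show (x : SL2) ^ 2 ^ (k + 1) = 1
    rw [← hi, ← zpow_natCast, ← _root_.zpow_mul, mul_comm, _root_.zpow_mul, zpow_natCast, pow_succ', pow_mul,
      pow_two, hk', _root_.one_zpow]⟩
  have hp' : IsPGroup 2 ((Q : Subgroup SL2) ⊔ Subgroup.zpowers g : Subgroup SL2) :=
    IsPGroup.to_sup_of_normal_left' Q.isPGroup' hp (Subgroup.zpowers_le.2 hg)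
  have := Q.is_maximal' hp' le_sup_left
  rw [← this]
  exact Subgroup.mem_sup_right (Subgroup.mem_zpowers g)

/-- Membership in the quaternion group generated by `u` and `X`. -/
def InQ8 (u X x : SL2) : Prop :=
  x = 1 ∨ x = -1 ∨ x = u ∨ x = -u ∨ x = X ∨ x = -X ∨ x = u * X ∨ x = -(u * X)

/-- The shape of a Sylow 2-subgroup used below. -/
structure QOk (Q : Subgroup SL2) (u X : SL2) : Prop where
  negMem : -1 ∈ Q
  uMem : u ∈ Q
  XMem : X ∈ Q
  uSq : u * u = -1
  XSq : X * X = -1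
  anti : X * u = -(u * X)
  prod : ∀ x ∈ Q, ∃ c ∈ Q, ∃ d ∈ Q, c * c = -1 ∧ d * d = -1 ∧ x = c * d
  norm : (∀ B ∈ Subgroup.normalizer (Q : Set SL2), B * u * B⁻¹ = u ∨ B * u * B⁻¹ = -u) ∨
    ∀ x ∈ Q, InQ8 u X x

theorem exists_qok [Fintype F] (hF : Odd (Fintype.card F)) (Q : Sylow 2 SL2) :
    ∃ u X, QOk (Q : Subgroup SL2) u X := by
  have h2 := Classical.two_ne_zero_of_odd hF
  obtain ⟨k, hk, ⟨e⟩⟩ := Classical.sylow_two_sl2 hF Q
  obtain ⟨j, rfl⟩ : ∃ j, k = j + 1 := ⟨k - 1, by omega⟩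
  set n := 2 ^ (j + 1) with hn
  set h := 2 ^ j with hh
  have hnh : n = h + h := by rw [hn, hh, pow_succ]; ring
  haveI : NeZero n := ⟨by rw [hn]; exact pow_ne_zero _ two_ne_zero⟩
  let emb : QuaternionGroup n →* SL2 := (Q : Subgroup SL2).subtype.comp e.symm.toMonoidHom
  have hembinj : Function.Injective emb := Subtype.val_injective.comp e.symm.injective
  have hembmem : ∀ q, emb q ∈ (Q : Subgroup SL2) := fun q => (e.symm q).2
  have hembsurj : ∀ x ∈ (Q : Subgroup SL2), ∃ q, emb q = x := fun x hx => ⟨e ⟨x, hx⟩, by simp [emb]⟩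
  have han : (QuaternionGroup.a (n : ZMod (2 * n))) ≠ (1 : QuaternionGroup n) := by
    intro hc
    rw [QuaternionGroup.one_def] at hc
    injection hc with hc
    have h0 := congrArg ZMod.val hc
    rw [ZMod.val_natCast, Nat.mod_eq_of_lt (by have := NeZero.pos n; omega), ZMod.val_zero] at h0
    exact NeZero.ne n h0
  have han2 : (QuaternionGroup.a (n : ZMod (2 * n))) ^ 2 = (1 : QuaternionGroup n) := by
    rw [pow_two, QuaternionGroup.a_mul_a, QuaternionGroup.one_def]
    congr 1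
    rw [← Nat.cast_add, ← two_mul, ZMod.natCast_self]
  have hneg : emb (QuaternionGroup.a (n : ZMod (2 * n))) = -1 := by
    rcases Classical.eq_one_or_neg_one_of_sq h2 (g := emb (QuaternionGroup.a (n : ZMod (2 * n))))
      (by rw [← map_pow, han2, map_one]) with h1 | h1
    · exact absurd (hembinj (h1.trans (map_one emb).symm)) han
    · exact h1
  have hsq : ∀ q : QuaternionGroup n, q * q = QuaternionGroup.a (n : ZMod (2 * n)) → emb q * emb q = -1 :=
    fun q hq => by rw [← map_mul, hq, hneg]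
  have hah : (QuaternionGroup.a (h : ZMod (2 * n)) : QuaternionGroup n) * QuaternionGroup.a (h : ZMod (2 * n)) =
      QuaternionGroup.a (n : ZMod (2 * n)) := by
    rw [QuaternionGroup.a_mul_a, ← Nat.cast_add, ← hnh]
  have hxa : ∀ i, (QuaternionGroup.xa i : QuaternionGroup n) * QuaternionGroup.xa i =
      QuaternionGroup.a (n : ZMod (2 * n)) := fun i => by
    rw [← pow_two, QuaternionGroup.xa_sq]
  set u := emb (QuaternionGroup.a (h : ZMod (2 * n))) with hu
  set X := emb (QuaternionGroup.xa 0) with hX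
  refine ⟨u, X, ⟨hneg ▸ hembmem _, hembmem _, hembmem _, hsq _ hah, hsq _ (hxa _), ?_, ?_, ?_⟩⟩
  · rw [hu, hX, ← map_mul, ← map_mul, ← neg_one_mul (emb (_ * _)), ← hneg, ← map_mul]
    congr 1
    rw [QuaternionGroup.xa_mul_a, QuaternionGroup.a_mul_xa, QuaternionGroup.a_mul_xa]
    congr 1
    have : (2 * n : ℕ) = (0 : ZMod (2 * n)) := ZMod.natCast_self _
    push_cast [hnh] at this ⊢
    linear_combination this
  · intro x hx
    obtain ⟨q, rfl⟩ := hembsurj x hx
    rcases q with i | i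
    · refine ⟨_, hembmem (QuaternionGroup.xa 0), _, hembmem (QuaternionGroup.xa (i - (n : ZMod (2 * n)))),
        hsq _ (hxa _), hsq _ (hxa _), ?_⟩
      rw [← map_mul, QuaternionGroup.xa_mul_xa]
      congr 2
      ring
    · refine ⟨_, hembmem (QuaternionGroup.a (h : ZMod (2 * n))), _,
        hembmem (QuaternionGroup.xa (i + (h : ZMod (2 * n)))), hsq _ hah, hsq _ (hxa _), ?_⟩
      rw [← map_mul, QuaternionGroup.a_mul_xa]
      congr 2
      ring
  · by_cases hj : j = 0
    · right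
      subst hj
      have hn2 : n = 2 := by rw [hn]; norm_num
      have hh1 : h = 1 := by rw [hh]; norm_num
      intro x hx
      obtain ⟨q, rfl⟩ := hembsurj x hx
      have hall : ∀ q : QuaternionGroup 2, q = 1 ∨ q = QuaternionGroup.a ((2 : ℕ) : ZMod (2 * 2)) ∨
          q = QuaternionGroup.a ((1 : ℕ) : ZMod (2 * 2)) ∨
          q = QuaternionGroup.a ((2 : ℕ) : ZMod (2 * 2)) * QuaternionGroup.a ((1 : ℕ) : ZMod (2 * 2)) ∨
          q = QuaternionGroup.xa 0 ∨
          q = QuaternionGroup.a ((2 : ℕ) : ZMod (2 * 2)) * QuaternionGroup.xa 0 ∨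
          q = QuaternionGroup.a ((1 : ℕ) : ZMod (2 * 2)) * QuaternionGroup.xa 0 ∨
          q = QuaternionGroup.a ((2 : ℕ) : ZMod (2 * 2)) *
            (QuaternionGroup.a ((1 : ℕ) : ZMod (2 * 2)) * QuaternionGroup.xa 0) := by decide
      have hq : q = 1 ∨ q = QuaternionGroup.a (n : ZMod (2 * n)) ∨ q = QuaternionGroup.a (h : ZMod (2 * n)) ∨
          q = QuaternionGroup.a (n : ZMod (2 * n)) * QuaternionGroup.a (h : ZMod (2 * n)) ∨
          q = QuaternionGroup.xa 0 ∨
          q = QuaternionGroup.a (n : ZMod (2 * n)) * QuaternionGroup.xa 0 ∨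
          q = QuaternionGroup.a (h : ZMod (2 * n)) * QuaternionGroup.xa 0 ∨
          q = QuaternionGroup.a (n : ZMod (2 * n)) * (QuaternionGroup.a (h : ZMod (2 * n)) * QuaternionGroup.xa 0) := by
        clear_value n h
        subst hn2 hh1
        exact hall q
      rcases hq with rfl | rfl | rfl | rfl | rfl | rfl | rfl | rfl <;>
        simp only [InQ8, map_one, map_mul, hneg, neg_mul, one_mul, ← hu, ← hX] <;> tauto
    · left
      intro B hB
      set x₁ := emb (QuaternionGroup.a 1) with hx₁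
      obtain ⟨q, hq⟩ := hembsurj _ ((Subgroup.mem_normalizer_iff.1 hB x₁).1 (hembmem _))
      have ho : orderOf q = 2 * n := by
        rw [← orderOf_injective emb hembinj, hq,
          show B * x₁ * B⁻¹ = MulAut.conj B x₁ from rfl, MulEquiv.orderOf_eq, hx₁,
          orderOf_injective emb hembinj, QuaternionGroup.orderOf_a_one]
      rcases q with i | i
      · have hpow : B * x₁ * B⁻¹ = x₁ ^ i.val := by
          rw [← hq, hx₁, ← map_pow, QuaternionGroup.a_one_pow, ZMod.natCast_zmod_val]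
        have hux : u = x₁ ^ h := by rw [hx₁, ← map_pow, QuaternionGroup.a_one_pow]
        have hBu : B * u * B⁻¹ = u ^ i.val := by
          rw [hux, ← conj_pow, hpow, ← pow_mul, ← pow_mul, mul_comm]
        have hu2 : u * u = -1 := hsq _ hah
        have hBu2 : u ^ i.val * u ^ i.val = -1 := by
          rw [← hBu, show B * u * B⁻¹ * (B * u * B⁻¹) = B * (u * u) * B⁻¹ by group, hu2, mul_neg,
            mul_one, neg_mul, mul_inv_cancel]
        rw [hBu]
        rcases Nat.even_or_odd' i.val with ⟨r, hr | hr⟩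
        · exfalso
          rw [hr, pow_mul, pow_two, hu2] at hBu2
          rcases neg_one_pow_eq_or SL2 r with h1 | h1 <;> rw [h1] at hBu2
          · rw [mul_one] at hBu2; exact negOne_ne h2 hBu2.symm
          · rw [neg_mul_neg, mul_one] at hBu2; exact negOne_ne h2 hBu2.symm
        · rw [hr, pow_succ, pow_mul, pow_two, hu2]
          rcases neg_one_pow_eq_or SL2 r with h1 | h1 <;> rw [h1]
          · left; rw [one_mul]
          · right; rw [neg_mul, one_mul]
      · exfalso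
        rw [QuaternionGroup.orderOf_xa] at ho
        have : 2 ≤ h := by rw [hh]; exact le_self_pow₀ (le_refl 2 |>.trans' one_le_two) hj
        omega

/-- `(1 + u) (1 + X) / 2`. -/
noncomputable def tau (h2 : (2 : F) ≠ 0) {u X : SL2} (hu : u * u = -1) (hX : X * X = -1) : SL2 :=
  ⟨(2⁻¹ : F) • ((1 + (u : M2)) * (1 + (X : M2))), by
    rw [Matrix.det_smul, Matrix.det_mul, det_one_add hu, det_one_add hX, Fintype.card_fin]
    field_simp⟩

theorem coe_tau (h2 : (2 : F) ≠ 0) {u X : SL2} (hu : u * u = -1) (hX : X * X = -1) :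
    ((tau h2 hu hX : SL2) : M2) = (2⁻¹ : F) • ((1 + (u : M2)) * (1 + (X : M2))) := rfl

theorem one_add_mul_swap {A : Type*} [Ring A] {g x : A} (hg : g * g = -1) (h : g * x = -(x * g)) :
    (1 + g) * x = g * x * (1 + g) := by
  have : g * x * g = x := by rw [h, neg_mul, mul_assoc, hg, mul_neg, mul_one, neg_neg]
  rw [mul_add, add_mul, mul_one, one_mul, this, add_comm]

theorem one_add_mul_comm {A : Type*} [Ring A] {g x : A} (h : g * x = x * g) :
    (1 + g) * x = x * (1 + g) := by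
  rw [mul_add, add_mul, mul_one, one_mul, h]

theorem tau_u (h2 : (2 : F) ≠ 0) {u X : SL2} (hu : u * u = -1) (hX : X * X = -1)
    (hanti : X * u = -(u * X)) : tau h2 hu hX * u = X * tau h2 hu hX := by
  have hu' := coe_sq hu
  have hX' := coe_sq hX
  have ha : (X : M2) * (u : M2) = -((u : M2) * (X : M2)) := by
    have e := congrArg (fun g : SL2 => (g : M2)) hanti
    simpa using e
  have e1 := one_add_mul_swap hX' ha
  have e2 : (1 + (u : M2)) * ((X : M2) * (u : M2)) = (u : M2) * ((X : M2) * (u : M2)) * (1 + (u : M2)) :=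
    one_add_mul_swap hu' (by rw [← mul_assoc, ← neg_neg ((u : M2) * (X : M2)), ← ha, neg_mul])
  have e3 : (u : M2) * ((X : M2) * (u : M2)) = X := by
    rw [ha, mul_neg, ← mul_assoc, hu', neg_one_mul, neg_neg]
  refine Subtype.ext ?_
  rw [Matrix.SpecialLinearGroup.coe_mul, Matrix.SpecialLinearGroup.coe_mul, coe_tau, smul_mul_assoc,
    mul_smul_comm, mul_assoc, e1, ← mul_assoc, e2, e3, mul_assoc]

theorem tau_X (h2 : (2 : F) ≠ 0) {u X : SL2} (hu : u * u = -1) (hX : X * X = -1)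
    (hanti : X * u = -(u * X)) : tau h2 hu hX * X = u * X * tau h2 hu hX := by
  have hu' := coe_sq hu
  have hX' := coe_sq hX
  have ha : (X : M2) * (u : M2) = -((u : M2) * (X : M2)) := by
    have e := congrArg (fun g : SL2 => (g : M2)) hanti
    simpa using e
  have e1 : (1 + (X : M2)) * (X : M2) = (X : M2) * (1 + (X : M2)) := one_add_mul_comm rfl
  have e2 : (1 + (u : M2)) * (X : M2) = (u : M2) * (X : M2) * (1 + (u : M2)) :=
    one_add_mul_swap hu' (by rw [ha, neg_neg])
  refine Subtype.ext ?_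
  simp only [Matrix.SpecialLinearGroup.coe_mul, coe_tau, smul_mul_assoc, mul_smul_comm]
  rw [mul_assoc, e1, ← mul_assoc, e2, mul_assoc]

theorem tau_mem_normalizer [Finite F] (h2 : (2 : F) ≠ 0) {Q : Subgroup SL2} {u X : SL2} (hQ : QOk Q u X)
    (h8 : ∀ x ∈ Q, InQ8 u X x) : tau h2 hQ.uSq hQ.XSq ∈ Subgroup.normalizer (Q : Set SL2) := by
  refine mem_normalizer_of_cj_le ?_
  rintro _ ⟨x, hx, rfl⟩
  set t := tau h2 hQ.uSq hQ.XSq with ht
  show t * x * t⁻¹ ∈ Q
  have h1 : t * u * t⁻¹ = X := mul_inv_eq_of_eq_mul (tau_u h2 hQ.uSq hQ.XSq hQ.anti)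
  have h3 : t * X * t⁻¹ = u * X := mul_inv_eq_of_eq_mul (tau_X h2 hQ.uSq hQ.XSq hQ.anti)
  have h4 : t * (u * X) * t⁻¹ = X * (u * X) := by
    nth_rw 2 [← h3]; nth_rw 2 [← h1]; group
  have n1 := hQ.negMem
  have hn : ∀ y ∈ Q, -y ∈ Q := fun y hy => by simpa using Q.mul_mem n1 hy
  rcases h8 x hx with rfl | rfl | rfl | rfl | rfl | rfl | rfl | rfl
  · simp [Q.one_mem]
  · rw [mul_neg, mul_one, neg_mul, mul_inv_cancel]; exact n1
  · rw [h1]; exact hQ.XMem
  · rw [mul_neg, neg_mul, h1]; exact hn _ hQ.XMem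
  · rw [h3]; exact Q.mul_mem hQ.uMem hQ.XMem
  · rw [mul_neg, neg_mul, h3]; exact hn _ (Q.mul_mem hQ.uMem hQ.XMem)
  · rw [h4]; exact Q.mul_mem hQ.XMem (Q.mul_mem hQ.uMem hQ.XMem)
  · rw [mul_neg, neg_mul, h4]; exact hn _ (Q.mul_mem hQ.XMem (Q.mul_mem hQ.uMem hQ.XMem))

/-- The normaliser of a quaternion Sylow subgroup of order eight. -/
theorem normalizer_eight [Finite F] (h2 : (2 : F) ≠ 0) (Q : Sylow 2 SL2) {u X B : SL2}
    (hQ : QOk (Q : Subgroup SL2) u X) (h8 : ∀ x ∈ (Q : Subgroup SL2), InQ8 u X x)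
    (hB : B ∈ Subgroup.normalizer ((Q : Subgroup SL2) : Set SL2)) :
    ∃ d ∈ (Q : Subgroup SL2), B = d ∨ B = d * tau h2 hQ.uSq hQ.XSq ∨ B = d * (tau h2 hQ.uSq hQ.XSq)⁻¹ := by
  set t := tau h2 hQ.uSq hQ.XSq with ht
  have htN : t ∈ Subgroup.normalizer ((Q : Subgroup SL2) : Set SL2) := tau_mem_normalizer h2 hQ h8
  have h1 : t * u * t⁻¹ = X := mul_inv_eq_of_eq_mul (tau_u h2 hQ.uSq hQ.XSq hQ.anti)
  have h3 : t * X * t⁻¹ = u * X := mul_inv_eq_of_eq_mul (tau_X h2 hQ.uSq hQ.XSq hQ.anti)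
  have h4 : t * (u * X) * t⁻¹ = u := by
    have e : t * (u * X) * t⁻¹ = X * (u * X) := by nth_rw 2 [← h3]; nth_rw 2 [← h1]; group
    rw [e, ← mul_assoc, hQ.anti, neg_mul, mul_assoc, hQ.XSq, mul_neg, mul_one, neg_neg]
  have i1 : t⁻¹ * X * t = u := by rw [← h1]; group
  have hsq : B * u * B⁻¹ * (B * u * B⁻¹) = -1 := by
    rw [show B * u * B⁻¹ * (B * u * B⁻¹) = B * (u * u) * B⁻¹ by group, hQ.uSq, mul_neg, mul_one,
      neg_mul, mul_inv_cancel]
  have hne := negOne_ne (F := F) h2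
  have key : ∀ g : SL2, g ∈ Subgroup.normalizer ((Q : Subgroup SL2) : Set SL2) →
      (g * B) * u * (g * B)⁻¹ = u ∨ (g * B) * u * (g * B)⁻¹ = -u →
      g * B ∈ (Q : Subgroup SL2) := fun g hg h =>
    mem_of_fix h2 Q hQ.XMem hQ.uSq hQ.anti ((Subgroup.normalizer _).mul_mem hg hB) h
  have hc : ∀ g : SL2, (g * B) * u * (g * B)⁻¹ = g * (B * u * B⁻¹) * g⁻¹ := fun g => by group
  have hX : B * u * B⁻¹ = X ∨ B * u * B⁻¹ = -X → ∃ d ∈ (Q : Subgroup SL2), B = d * t := fun h => by
    have h' := key t⁻¹ ((Subgroup.normalizer _).inv_mem htN) (by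
      rw [hc, inv_inv]
      rcases h with h | h <;> rw [h]
      · exact Or.inl i1
      · right; rw [mul_neg, neg_mul, i1])
    refine ⟨t * (t⁻¹ * B) * t⁻¹, (Subgroup.mem_normalizer_iff.1 htN _).1 h', ?_⟩
    group
  have hY : B * u * B⁻¹ = u * X ∨ B * u * B⁻¹ = -(u * X) → ∃ d ∈ (Q : Subgroup SL2), B = d * t⁻¹ :=
    fun h => by
    have h' := key t htN (by
      rw [hc]
      rcases h with h | h <;> rw [h]
      · exact Or.inl h4
      · right; rw [mul_neg, neg_mul, h4])
    refine ⟨t⁻¹ * (t * B) * t, (Subgroup.mem_normalizer_iff''.1 htN _).1 h', ?_⟩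
    group
  rcases h8 _ ((Subgroup.mem_normalizer_iff.1 hB u).1 hQ.uMem) with h | h | h | h | h | h | h | h
  · rw [h, mul_one] at hsq; exact absurd hsq.symm hne
  · rw [h, neg_mul_neg, mul_one] at hsq; exact absurd hsq.symm hne
  · exact ⟨B, mem_of_fix h2 Q hQ.XMem hQ.uSq hQ.anti hB (Or.inl h), Or.inl rfl⟩
  · exact ⟨B, mem_of_fix h2 Q hQ.XMem hQ.uSq hQ.anti hB (Or.inr h), Or.inl rfl⟩
  · obtain ⟨d, hd, e⟩ := hX (Or.inl h); exact ⟨d, hd, Or.inr (Or.inl e)⟩
  · obtain ⟨d, hd, e⟩ := hX (Or.inr h); exact ⟨d, hd, Or.inr (Or.inl e)⟩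
  · obtain ⟨d, hd, e⟩ := hY (Or.inl h); exact ⟨d, hd, Or.inr (Or.inr e)⟩
  · obtain ⟨d, hd, e⟩ := hY (Or.inr h); exact ⟨d, hd, Or.inr (Or.inr e)⟩

end Cfsg.Agent.GroupSub.SpFour
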