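import Cfsg.Agent.Classical.SympGroup
import Cfsg.Agent.Classical.Linear2
import Cfsg.Agent.GroupSub.SpFourQuat

/-!
SL(2, F) wreathed by two inside Sp(4, F), and its Sylow 2-subgroups.
-/

set_option autoImplicit false

namespace Cfsg.Agent.GroupSub.SpFour

open Matrix

variable {F : Type*} [Field F]

local notation "SL2" => Matrix.SpecialLinearGroup (Fin 2) F
local notation "M2" => Matrix (Fin 2) (Fin 2) F
local notation "M4" => Matrix (Fin 2 ⊕ Fin 2) (Fin 2 ⊕ Fin 2) F
set_option quotPrecheck false in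
local notation "G4" => ↥(Matrix.symplecticGroup (Fin 2) F)

/-- The block sum of two 2 × 2 matrices on the two hyperbolic planes. -/
def bd (A B : M2) : M4 :=
  Matrix.fromBlocks (Matrix.diagonal ![A 0 0, B 0 0]) (Matrix.diagonal ![A 0 1, B 0 1])
    (Matrix.diagonal ![A 1 0, B 1 0]) (Matrix.diagonal ![A 1 1, B 1 1])

theorem bd_mul (A B A' B' : M2) : bd A B * bd A' B' = bd (A * A') (B * B') := by
  ext i j
  rcases i with i | i <;> rcases j with j | j <;> fin_cases i <;> fin_cases j <;>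
    simp [bd, Matrix.mul_apply, Fintype.sum_sum_type, Fin.sum_univ_two]

theorem bd_one : bd (1 : M2) 1 = 1 := by
  ext i j
  rcases i with i | i <;> rcases j with j | j <;> fin_cases i <;> fin_cases j <;> simp [bd]

theorem bd_add (A B A' B' : M2) : bd A B + bd A' B' = bd (A + A') (B + B') := by
  ext i j
  rcases i with i | i <;> rcases j with j | j <;> fin_cases i <;> fin_cases j <;> simp [bd]

theorem bd_smul (r : F) (A B : M2) : r • bd A B = bd (r • A) (r • B) := by
  ext i j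
  rcases i with i | i <;> rcases j with j | j <;> fin_cases i <;> fin_cases j <;> simp [bd]

theorem bd_inj {A B A' B' : M2} (h : bd A B = bd A' B') : A = A' ∧ B = B' := by
  have e := fun i j => congrFun (congrFun h i) j
  have h1 := e (.inl 0) (.inl 0); have h2 := e (.inl 0) (.inr 0)
  have h3 := e (.inr 0) (.inl 0); have h4 := e (.inr 0) (.inr 0)
  have h5 := e (.inl 1) (.inl 1); have h6 := e (.inl 1) (.inr 1)
  have h7 := e (.inr 1) (.inl 1); have h8 := e (.inr 1) (.inr 1)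
  simp [bd] at h1 h2 h3 h4 h5 h6 h7 h8
  constructor <;> ext a b <;> fin_cases a <;> fin_cases b <;> assumption

theorem bd_mem (a b : SL2) : bd (a : M2) (b : M2) ∈ Matrix.symplecticGroup (Fin 2) F := by
  have ha := a.2
  have hb := b.2
  rw [Matrix.det_fin_two] at ha hb
  rw [SymplecticGroup.mem_iff]
  ext i j
  rcases i with i | i <;> rcases j with j | j <;> fin_cases i <;> fin_cases j <;>
    simp [bd, Matrix.J, Matrix.mul_apply, Fintype.sum_sum_type, Fin.sum_univ_two] <;>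
    first
      | ring1
      | linear_combination ha
      | linear_combination -ha
      | linear_combination hb
      | linear_combination -hb

/-- `SL₂ × SL₂` in `Sp₄`. -/
def Dhom : SL2 × SL2 →* G4 where
  toFun x := ⟨bd (x.1 : M2) (x.2 : M2), bd_mem x.1 x.2⟩
  map_one' := Subtype.ext bd_one
  map_mul' x y := Subtype.ext (bd_mul _ _ _ _).symm

/-- The block element. -/
def D (a b : SL2) : G4 := Dhom (a, b)

theorem coe_D (a b : SL2) : ((D a b : G4) : M4) = bd (a : M2) (b : M2) := rfl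

theorem D_mul (a b a' b' : SL2) : D a b * D a' b' = D (a * a') (b * b') :=
  (map_mul Dhom (a, b) (a', b')).symm

theorem D_one : D (1 : SL2) 1 = 1 := map_one Dhom

theorem D_inv (a b : SL2) : (D a b)⁻¹ = D a⁻¹ b⁻¹ := (map_inv Dhom (a, b)).symm

theorem D_inj {a b a' b' : SL2} (h : D a b = D a' b') : a = a' ∧ b = b' := by
  have h' := congrArg (fun g : G4 => (g : M4)) h
  obtain ⟨h1, h2⟩ := bd_inj (show bd (a : M2) (b : M2) = bd (a' : M2) (b' : M2) from h')
  exact ⟨Subtype.ext h1, Subtype.ext h2⟩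

/-- The permutation matrix of the two planes. -/
def wMat : M4 := Matrix.fromBlocks !![0, 1; 1, 0] 0 0 !![0, 1; 1, 0]

theorem wMat_mem : (wMat : M4) ∈ Matrix.symplecticGroup (Fin 2) F := by
  rw [SymplecticGroup.mem_iff]
  ext i j
  rcases i with i | i <;> rcases j with j | j <;> fin_cases i <;> fin_cases j <;>
    simp [wMat, Matrix.J, Matrix.mul_apply, Fintype.sum_sum_type, Fin.sum_univ_two]

variable (F) in
/-- The swap. -/
def w : G4 := ⟨wMat, wMat_mem⟩

variable (F) in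
theorem w_sq : w F * w F = 1 := by
  refine Subtype.ext ?_
  show (wMat : M4) * wMat = 1
  ext i j
  rcases i with i | i <;> rcases j with j | j <;> fin_cases i <;> fin_cases j <;>
    simp [wMat, Matrix.mul_apply, Fintype.sum_sum_type, Fin.sum_univ_two]

theorem w_D (a b : SL2) : w F * D a b = D b a * w F := by
  refine Subtype.ext ?_
  show (wMat : M4) * bd (a : M2) (b : M2) = bd (b : M2) (a : M2) * wMat
  ext i j
  rcases i with i | i <;> rcases j with j | j <;> fin_cases i <;> fin_cases j <;>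
    simp [wMat, bd, Matrix.mul_apply, Fintype.sum_sum_type, Fin.sum_univ_two]

theorem D_w_ne (a b a' b' : SL2) : D a b ≠ D a' b' * w F := by
  intro h
  have h' := congrArg (fun g : G4 => (g : M4)) h
  have e1 := congrFun (congrFun h' (.inl 0)) (.inl 0)
  have e2 := congrFun (congrFun h' (.inr 0)) (.inl 0)
  simp [coe_D, w, wMat, bd, Matrix.mul_apply, Fintype.sum_sum_type, Fin.sum_univ_two] at e1 e2
  have hd := a.2
  rw [Matrix.det_fin_two, e1, e2] at hd
  simp at hd

variable (F) in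
/-- The central involution. -/
def cc : G4 := D (-1) (-1)

variable (F) in
/-- The involution with two eigenplanes. -/
def zz : G4 := D 1 (-1)

variable (F) in
theorem coe_cc : ((cc F : G4) : M4) = -1 := by
  show bd ((-1 : SL2) : M2) ((-1 : SL2) : M2) = -1
  rw [coe_negOne]
  ext i j
  rcases i with i | i <;> rcases j with j | j <;> fin_cases i <;> fin_cases j <;> simp [bd]

theorem cc_comm (g : G4) : cc F * g = g * cc F := Subtype.ext (by
  show ((cc F : G4) : M4) * (g : M4) = (g : M4) * ((cc F : G4) : M4)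
  rw [coe_cc, neg_one_mul, mul_neg_one])

variable (F) in
theorem cc_sq : cc F * cc F = 1 := by rw [cc, D_mul, neg_mul_neg, mul_one, D_one]

theorem cc_mul_D (a b : SL2) : cc F * D a b = D (-a) (-b) := by
  rw [cc, D_mul, neg_one_mul, neg_one_mul]

variable (F) in
theorem zz_sq : zz F * zz F = 1 := by rw [zz, D_mul, neg_mul_neg, mul_one, D_one]

variable (F) in
theorem w_zz : w F * zz F = cc F * zz F * w F := by
  rw [zz, w_D, cc_mul_D, neg_neg]

/-- An element commuting with `zz` is block diagonal. -/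
theorem exists_D_of_comm (h2 : (2 : F) ≠ 0) {g : G4} (h : g * zz F = zz F * g) : ∃ A B, g = D A B := by
  have e : ∀ i j, ((g : M4) * bd (1 : M2) (-1)) i j = (bd (1 : M2) (-1) * (g : M4)) i j := fun i j => by
    have h' := congrArg (fun g : G4 => (g : M4)) h
    exact congrFun (congrFun h' i) j
  have z1 := e (.inl 0) (.inl 1); have z2 := e (.inl 1) (.inl 0)
  have z3 := e (.inl 0) (.inr 1); have z4 := e (.inl 1) (.inr 0)
  have z5 := e (.inr 0) (.inl 1); have z6 := e (.inr 1) (.inl 0)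
  have z7 := e (.inr 0) (.inr 1); have z8 := e (.inr 1) (.inr 0)
  simp [bd, Matrix.mul_apply, Fintype.sum_sum_type, Fin.sum_univ_two] at z1 z2 z3 z4 z5 z6 z7 z8
  have k : ∀ {x : F}, (-x = x ∨ x = -x) → x = 0 := fun {x} hx => by
    refine (mul_eq_zero.1 (show (2 : F) * x = 0 from ?_)).resolve_left h2
    rcases hx with hx | hx
    · linear_combination -hx
    · linear_combination hx
  set A : M2 := !![(g : M4) (.inl 0) (.inl 0), (g : M4) (.inl 0) (.inr 0);
    (g : M4) (.inr 0) (.inl 0), (g : M4) (.inr 0) (.inr 0)] with hA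
  set B : M2 := !![(g : M4) (.inl 1) (.inl 1), (g : M4) (.inl 1) (.inr 1);
    (g : M4) (.inr 1) (.inl 1), (g : M4) (.inr 1) (.inr 1)] with hB
  have hg : (g : M4) = bd A B := by
    ext i j
    rcases i with i | i <;> rcases j with j | j <;> fin_cases i <;> fin_cases j <;>
      simp [bd, hA, hB] <;>
      first
        | exact k (Or.inl z1) | exact k (Or.inr z1) | exact k (Or.inl z2) | exact k (Or.inr z2)
        | exact k (Or.inl z3) | exact k (Or.inr z3) | exact k (Or.inl z4) | exact k (Or.inr z4)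
        | exact k (Or.inl z5) | exact k (Or.inr z5) | exact k (Or.inl z6) | exact k (Or.inr z6)
        | exact k (Or.inl z7) | exact k (Or.inr z7) | exact k (Or.inl z8) | exact k (Or.inr z8)
  have hm := SymplecticGroup.mem_iff.1 g.2
  rw [hg] at hm
  have d1 := congrFun (congrFun hm (.inl 0)) (.inr 0)
  have d2 := congrFun (congrFun hm (.inl 1)) (.inr 1)
  simp [bd, Matrix.J, Matrix.mul_apply, Fintype.sum_sum_type, Fin.sum_univ_two] at d1 d2
  have hdA : A.det = 1 := by rw [Matrix.det_fin_two]; linear_combination -d1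
  have hdB : B.det = 1 := by rw [Matrix.det_fin_two]; linear_combination -d2
  exact ⟨⟨A, hdA⟩, ⟨B, hdB⟩, Subtype.ext hg⟩

/-- The matrix conjugating `zz` to the swap. -/
noncomputable def hMat : M4 :=
  Matrix.fromBlocks !![1, 1; 1, -1] 0 0 ((2⁻¹ : F) • !![1, 1; 1, -1])

theorem hMat_mem (h2 : (2 : F) ≠ 0) : (hMat : M4) ∈ Matrix.symplecticGroup (Fin 2) F := by
  rw [SymplecticGroup.mem_iff]
  ext i j
  rcases i with i | i <;> rcases j with j | j <;> fin_cases i <;> fin_cases j <;>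
    simp [hMat, Matrix.J, Matrix.mul_apply, Fintype.sum_sum_type, Fin.sum_univ_two] <;>
    field_simp <;> ring

theorem exists_conj_zz_w (h2 : (2 : F) ≠ 0) : ∃ M : G4, M * zz F * M⁻¹ = w F := by
  refine ⟨⟨hMat, hMat_mem h2⟩, mul_inv_eq_of_eq_mul (Subtype.ext ?_)⟩
  show (hMat : M4) * bd ((1 : SL2) : M2) ((-1 : SL2) : M2) = wMat * hMat
  rw [coe_negOne, Matrix.SpecialLinearGroup.coe_one]
  ext i j
  rcases i with i | i <;> rcases j with j | j <;> fin_cases i <;> fin_cases j <;>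
    simp [hMat, wMat, bd, Matrix.mul_apply, Fintype.sum_sum_type, Fin.sum_univ_two]

theorem coe_sq_cc {g : G4} (hg : g * g = cc F) : (g : M4) * (g : M4) = -1 := by
  have h := congrArg (fun g : G4 => (g : M4)) hg
  rwa [coe_cc] at h

theorem one_add_J {g : G4} (hg : g * g = cc F) :
    (1 + (g : M4)) * Matrix.J (Fin 2) F * (1 + (g : M4))ᵀ = Matrix.J (Fin 2) F + Matrix.J (Fin 2) F := by
  have hm := SymplecticGroup.mem_iff.1 g.2
  have h1 : -(Matrix.J (Fin 2) F * (g : M4)ᵀ) = (g : M4) * Matrix.J (Fin 2) F := by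
    calc -(Matrix.J (Fin 2) F * (g : M4)ᵀ) = (g : M4) * (g : M4) * (Matrix.J (Fin 2) F * (g : M4)ᵀ) := by
          rw [coe_sq_cc hg, neg_one_mul]
      _ = (g : M4) * ((g : M4) * Matrix.J (Fin 2) F * (g : M4)ᵀ) := by simp only [mul_assoc]
      _ = _ := by rw [hm]
  rw [Matrix.transpose_add, Matrix.transpose_one, add_mul, one_mul, add_mul, mul_add, mul_one, mul_add,
    mul_one, hm, ← h1]
  abel

/-- `(1 + g) (1 + h) / 2`. -/
noncomputable def half (h2 : (2 : F) ≠ 0) {g h : G4} (hg : g * g = cc F) (hh : h * h = cc F) : G4 :=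
  ⟨(2⁻¹ : F) • ((1 + (g : M4)) * (1 + (h : M4))), by
    rw [SymplecticGroup.mem_iff, Matrix.transpose_smul, Matrix.transpose_mul]
    simp only [smul_mul_assoc, mul_smul_comm, smul_smul]
    calc (2⁻¹ * 2⁻¹ : F) • ((1 + (g : M4)) * (1 + (h : M4)) * Matrix.J (Fin 2) F *
          ((1 + (h : M4))ᵀ * (1 + (g : M4))ᵀ)) =
        (2⁻¹ * 2⁻¹ : F) • ((1 + (g : M4)) *
          ((1 + (h : M4)) * Matrix.J (Fin 2) F * (1 + (h : M4))ᵀ) * (1 + (g : M4))ᵀ) := by
          simp only [mul_assoc]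
      _ = (2⁻¹ * 2⁻¹ * 4 : F) • Matrix.J (Fin 2) F := by
          rw [one_add_J hh, mul_add, add_mul, one_add_J hg]
          module
      _ = _ := by
          rw [show (2⁻¹ * 2⁻¹ * 4 : F) = 1 by field_simp; norm_num, one_smul]⟩

theorem coe_half (h2 : (2 : F) ≠ 0) {g h : G4} (hg : g * g = cc F) (hh : h * h = cc F) :
    ((half h2 hg hh : G4) : M4) = (2⁻¹ : F) • ((1 + (g : M4)) * (1 + (h : M4))) := rfl

theorem one_add_sq {A : Type*} [Ring A] {g : A} (hg : g * g = -1) : (1 + g) * (1 + g) = g + g := by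
  rw [add_mul, one_mul, mul_add, mul_one, hg]; abel

theorem half_pow_four (h2 : (2 : F) ≠ 0) {g h : G4} (hg : g * g = cc F) (hh : h * h = cc F)
    (hgh : g * h = h * g) : half h2 hg hh ^ 4 = 1 := by
  have hsq : half h2 hg hh * half h2 hg hh = g * h := by
    refine Subtype.ext ?_
    show ((half h2 hg hh : G4) : M4) * ((half h2 hg hh : G4) : M4) = (g : M4) * (h : M4)
    have hc : Commute (g : M4) (h : M4) := congrArg (fun g : G4 => (g : M4)) hgh
    have hc' : Commute (1 + (g : M4)) (1 + (h : M4)) :=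
      ((Commute.one_left _).add_left ((Commute.one_right _).add_right hc))
    rw [coe_half, smul_mul_assoc, mul_smul_comm, smul_smul, hc'.symm.mul_mul_mul_comm,
      one_add_sq (coe_sq_cc hg), one_add_sq (coe_sq_cc hh)]
    simp only [add_mul, mul_add]
    rw [show (g : M4) * (h : M4) + (g : M4) * (h : M4) + ((g : M4) * (h : M4) + (g : M4) * (h : M4)) =
      (4 : F) • ((g : M4) * (h : M4)) by module, smul_smul,
      show (2⁻¹ * 2⁻¹ * 4 : F) = 1 by field_simp; norm_num, one_smul]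
  rw [show 4 = 2 * 2 from rfl, pow_mul, pow_two (half h2 hg hh), hsq, pow_two]
  have hc : Commute h g := hgh.symm
  rw [hc.mul_mul_mul_comm, hg, hh, cc_sq]

theorem D_tau (h2 : (2 : F) ≠ 0) {u X : SL2} (hu : u * u = -1) (hX : X * X = -1) {J : G4}
    (hJ : J * J = cc F) (hcomm : D u u * J = J * D u u) (hu' : D u u * D u u = cc F)
    (hX' : D X X * D X X = cc F) :
    half h2 hu' hJ * half h2 hJ hX' = J * D (tau h2 hu hX) (tau h2 hu hX) := by
  refine Subtype.ext ?_
  show ((half h2 hu' hJ : G4) : M4) * ((half h2 hJ hX' : G4) : M4) = (J : M4) * _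
  have hc : Commute (bd (u : M2) (u : M2)) (J : M4) := congrArg (fun g : G4 => (g : M4)) hcomm
  have hd : bd ((2⁻¹ : F) • ((1 + (u : M2)) * (1 + (X : M2)))) ((2⁻¹ : F) • ((1 + (u : M2)) * (1 + (X : M2)))) =
      (2⁻¹ : F) • ((1 + bd (u : M2) (u : M2)) * (1 + bd (X : M2) (X : M2))) := by
    rw [← bd_smul, ← bd_mul, ← bd_add, ← bd_add, bd_one]
  rw [coe_half, coe_half, coe_D, coe_D, coe_D, coe_tau, hd, smul_mul_assoc, mul_smul_comm, smul_smul,
    mul_smul_comm, show (1 + bd (u : M2) (u : M2)) * (1 + (J : M4)) * ((1 + (J : M4)) * (1 + bd (X : M2) (X : M2))) =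
      (1 + bd (u : M2) (u : M2)) * ((1 + (J : M4)) * (1 + (J : M4))) * (1 + bd (X : M2) (X : M2)) by
      simp only [mul_assoc], one_add_sq (coe_sq_cc hJ), ← two_smul F (J : M4), mul_smul_comm, smul_mul_assoc,
    ((Commute.one_left _).add_left hc).eq, mul_assoc, smul_smul,
    show (2⁻¹ * 2⁻¹ * 2 : F) = 2⁻¹ by field_simp]

theorem half_conj (h2 : (2 : F) ≠ 0) {g h x : G4} (hg : g * g = cc F) (hh : h * h = cc F)
    (hgx : g * x = x * g ∨ g * x = cc F * (x * g)) (hgy : g * (h * x) = h * x * g ∨ g * (h * x) = cc F * (h * x * g))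
    (hhx : h * x = x * h ∨ h * x = cc F * (x * h)) :
    ∃ y, (y = x ∨ y = g * x ∨ y = h * x ∨ y = g * (h * x)) ∧ half h2 hg hh * x = y * half h2 hg hh := by
  have step : ∀ {k v : G4}, k * k = cc F → (k * v = v * k ∨ k * v = cc F * (v * k)) →
      ∃ y : G4, (y = v ∨ y = k * v) ∧ (1 + (k : M4)) * (v : M4) = (y : M4) * (1 + (k : M4)) := by
    intro k v hk hkv
    rcases hkv with e | e
    · exact ⟨v, Or.inl rfl, one_add_mul_comm (congrArg (fun g : G4 => (g : M4)) e)⟩
    · refine ⟨k * v, Or.inr rfl, one_add_mul_swap (coe_sq_cc hk) ?_⟩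
      have e' := congrArg (fun g : G4 => (g : M4)) e
      simp only [Submonoid.coe_mul, coe_cc, neg_one_mul] at e'
      exact e'
  obtain ⟨y₁, hy₁, e₁⟩ := step hh hhx
  obtain ⟨y, hy, e⟩ := step hg (v := y₁) (by rcases hy₁ with rfl | rfl <;> assumption)
  refine ⟨y, ?_, Subtype.ext ?_⟩
  · rcases hy₁ with rfl | rfl <;> rcases hy with rfl | rfl <;> tauto
  · show ((half h2 hg hh : G4) : M4) * (x : M4) = (y : M4) * ((half h2 hg hh : G4) : M4)
    rw [coe_half, smul_mul_assoc, mul_smul_comm, mul_assoc, e₁, ← mul_assoc, e, mul_assoc]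

/-- The wreathed subgroup over `Q`. -/
def Pw (Q : Subgroup SL2) : Subgroup G4 where
  carrier := {g | ∃ a ∈ Q, ∃ b ∈ Q, g = D a b ∨ g = D a b * w F}
  one_mem' := ⟨1, Q.one_mem, 1, Q.one_mem, Or.inl D_one.symm⟩
  mul_mem' := by
    rintro _ _ ⟨a, ha, b, hb, rfl | rfl⟩ ⟨a', ha', b', hb', rfl | rfl⟩
    · exact ⟨_, Q.mul_mem ha ha', _, Q.mul_mem hb hb', Or.inl (D_mul _ _ _ _)⟩
    · exact ⟨_, Q.mul_mem ha ha', _, Q.mul_mem hb hb', Or.inr (by rw [← mul_assoc, D_mul])⟩
    · exact ⟨_, Q.mul_mem ha hb', _, Q.mul_mem hb ha', Or.inr (by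
        rw [mul_assoc, w_D, ← mul_assoc, D_mul])⟩
    · exact ⟨_, Q.mul_mem ha hb', _, Q.mul_mem hb ha', Or.inl (by
        rw [mul_assoc, ← mul_assoc (w F), w_D, mul_assoc (D b' a'), w_sq, mul_one, D_mul])⟩
  inv_mem' := by
    rintro _ ⟨a, ha, b, hb, rfl | rfl⟩
    · exact ⟨_, Q.inv_mem ha, _, Q.inv_mem hb, Or.inl (D_inv a b)⟩
    · exact ⟨_, Q.inv_mem hb, _, Q.inv_mem ha, Or.inr (by
        rw [_root_.mul_inv_rev, D_inv, inv_eq_of_mul_eq_one_right (w_sq F), w_D])⟩

theorem D_mem_Pw {Q : Subgroup SL2} {a b : SL2} (ha : a ∈ Q) (hb : b ∈ Q) : D a b ∈ Pw Q :=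
  ⟨a, ha, b, hb, Or.inl rfl⟩

theorem D_mem_Pw_iff {Q : Subgroup SL2} {a b : SL2} : D a b ∈ Pw Q ↔ a ∈ Q ∧ b ∈ Q := by
  refine ⟨?_, fun h => D_mem_Pw h.1 h.2⟩
  rintro ⟨a', ha', b', hb', h | h⟩
  · obtain ⟨rfl, rfl⟩ := D_inj h
    exact ⟨ha', hb'⟩
  · exact absurd h (D_w_ne _ _ _ _)

theorem w_mem_Pw (Q : Subgroup SL2) : w F ∈ Pw Q :=
  ⟨1, Q.one_mem, 1, Q.one_mem, Or.inr (by rw [D_one, one_mul])⟩

theorem cc_mem_Pw {Q : Subgroup SL2} (h : -1 ∈ Q) : cc F ∈ Pw Q := D_mem_Pw h h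

theorem card_Pw [Finite F] (Q : Subgroup SL2) : Nat.card (Pw Q) = 2 * (Nat.card Q * Nat.card Q) := by
  let f : Bool × (Q × Q) → Pw Q := fun x =>
    bif x.1 then ⟨D (x.2.1 : SL2) (x.2.2 : SL2) * w F,
      (Pw Q).mul_mem (D_mem_Pw x.2.1.2 x.2.2.2) (w_mem_Pw Q)⟩
    else ⟨D (x.2.1 : SL2) (x.2.2 : SL2), D_mem_Pw x.2.1.2 x.2.2.2⟩
  have hf : Function.Bijective f := by
    constructor
    · rintro ⟨e, a, b⟩ ⟨e', a', b'⟩ h
      have h' := congrArg (fun y : Pw Q => (y : G4)) h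
      cases e <;> cases e' <;> simp [f] at h'
      · obtain ⟨h1, h3⟩ := D_inj h'
        rw [Subtype.ext h1, Subtype.ext h3]
      · exact absurd h' (D_w_ne _ _ _ _)
      · exact absurd h'.symm (D_w_ne _ _ _ _)
      · obtain ⟨h1, h3⟩ := D_inj h'
        rw [Subtype.ext h1, Subtype.ext h3]
    · rintro ⟨g, a, ha, b, hb, rfl | rfl⟩
      · exact ⟨(false, ⟨a, ha⟩, ⟨b, hb⟩), rfl⟩
      · exact ⟨(true, ⟨a, ha⟩, ⟨b, hb⟩), rfl⟩
  rw [← Nat.card_eq_of_bijective f hf, Nat.card_prod, Nat.card_prod]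
  simp

theorem exists_sylow_Pw [Fintype F] (hF : Odd (Fintype.card F)) (Q : Sylow 2 SL2) :
    ∃ P : Sylow 2 G4, (P : Subgroup G4) = Pw (Q : Subgroup SL2) := by
  have : Fact (Nat.Prime 2) := ⟨Nat.prime_two⟩
  have hp : IsPGroup 2 (Pw (Q : Subgroup SL2)) := by
    obtain ⟨k, hk⟩ := IsPGroup.iff_card.1 Q.isPGroup'
    refine IsPGroup.of_card (n := 1 + (k + k)) ?_
    rw [card_Pw, hk, pow_add, pow_add, pow_one]
  refine ⟨hp.toSylow ?_, IsPGroup.toSylow_coe _ _⟩
  obtain ⟨r, hr⟩ := hF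
  have hG := Classical.card_symplecticGroup (F := F) rfl 2
  have hS := Classical.card_sl2 (F := F)
  have hQ := (Q : Subgroup SL2).card_mul_index
  have hQo : ¬ 2 ∣ (Q : Subgroup SL2).index := Q.not_dvd_index
  have hP := (Pw (Q : Subgroup SL2)).card_mul_index
  rw [card_Pw] at hP
  simp only [Finset.prod_range_succ, Finset.prod_range_zero, one_mul] at hG
  norm_num at hG
  set q := Fintype.card F
  set o := (Q : Subgroup SL2).index
  set N := Nat.card (Q : Subgroup SL2)
  have h4 : q ^ 4 - 1 = (q ^ 2 - 1) * (2 * (2 * r * r + 2 * r + 1)) := by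
    have e : q ^ 2 + 1 = 2 * (2 * r * r + 2 * r + 1) := by rw [hr]; ring
    rw [← e, mul_comm, ← Nat.sq_sub_sq]
    ring_nf
  have key : 2 * (N * N) * (Pw (Q : Subgroup SL2)).index =
      2 * (N * N) * (q * q * (o * o) * (2 * r * r + 2 * r + 1)) := by
    rw [hP, hG, h4]
    calc q ^ 4 * ((q ^ 2 - 1) * ((q ^ 2 - 1) * (2 * (2 * r * r + 2 * r + 1)))) =
        q * q * 2 * ((q * (q ^ 2 - 1)) * (q * (q ^ 2 - 1))) * (2 * r * r + 2 * r + 1) := by ring
      _ = _ := by rw [← hS, ← hQ]; ring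
  have hN : 0 < 2 * (N * N) := by
    have : 0 < N := Nat.card_pos
    positivity
  rw [Nat.eq_of_mul_eq_mul_left hN key]
  intro hd
  rcases (Nat.prime_two.dvd_mul).1 hd with hd | hd
  · rcases (Nat.prime_two.dvd_mul).1 hd with hd | hd
    · have : 2 ∣ q := by rcases (Nat.prime_two.dvd_mul).1 hd with h | h <;> exact h
      omega
    · exact hQo (by rcases (Nat.prime_two.dvd_mul).1 hd with h | h <;> exact h)
  · have e : 2 * r * r + 2 * r + 1 = 2 * (r * r + r) + 1 := by ring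
    omega

end Cfsg.Agent.GroupSub.SpFour
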